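import Mathlib

/-!
Commutators of determinant-one matrices: similarity between index types, companion matrices and
cyclic vectors, splitting of block triangular matrices, and lifting through block triangular forms.
-/

set_option autoImplicit false
set_option linter.unusedSectionVars false

namespace Cfsg.Agent.Lie.SLComm

open Matrix Polynomial

universe u v w

variable {F : Type u} [Field F]
variable {ι : Type v} {κ : Type w} [Fintype ι] [DecidableEq ι] [Fintype κ] [DecidableEq κ]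

/-- Similarity of matrices on two index types. -/
def Sim (A : Matrix ι ι F) (B : Matrix κ κ F) : Prop :=
  ∃ (P : Matrix ι κ F) (Q : Matrix κ ι F), P * Q = 1 ∧ Q * P = 1 ∧ A = P * B * Q

theorem Sim.refl (A : Matrix ι ι F) : Sim A A :=
  ⟨1, 1, one_mul 1, one_mul 1, by rw [Matrix.one_mul, Matrix.mul_one]⟩

theorem Sim.symm {A : Matrix ι ι F} {B : Matrix κ κ F} : Sim A B → Sim B A := by
  rintro ⟨P, Q, h1, h2, rfl⟩
  refine ⟨Q, P, h2, h1, ?_⟩
  calc B = Q * P * B * (Q * P) := by rw [h2, Matrix.one_mul, Matrix.mul_one]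
    _ = _ := by simp only [Matrix.mul_assoc]

theorem Sim.trans {μ : Type*} [Fintype μ] [DecidableEq μ] {A : Matrix ι ι F} {B : Matrix κ κ F}
    {C : Matrix μ μ F} : Sim A B → Sim B C → Sim A C := by
  rintro ⟨P, Q, h1, h2, rfl⟩ ⟨R, S, h3, h4, rfl⟩
  refine ⟨P * R, S * Q, ?_, ?_, by simp only [Matrix.mul_assoc]⟩
  · rw [Matrix.mul_assoc, ← Matrix.mul_assoc R, h3, Matrix.one_mul, h1]
  · rw [Matrix.mul_assoc, ← Matrix.mul_assoc Q, h2, Matrix.one_mul, h4]

theorem sim_reindex (e : ι ≃ κ) (A : Matrix ι ι F) : Sim A (Matrix.reindex e e A) := by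
  refine ⟨Matrix.of fun i k => if e i = k then 1 else 0, Matrix.of fun k i => if e i = k then 1 else 0,
    ?_, ?_, ?_⟩
  · ext i j
    simp [Matrix.mul_apply, Matrix.one_apply, e.injective.eq_iff, eq_comm]
  · ext k l
    rw [Matrix.mul_apply, Finset.sum_eq_single (e.symm k)]
    · simp [Matrix.one_apply]
    · intro i _ hi
      have : e i ≠ k := fun h => hi (by rw [← h, e.symm_apply_apply])
      simp [this]
    · simp
  · ext i j
    simp [Matrix.mul_apply]

theorem sim_of_conj {A B : Matrix ι ι F} {P : Matrix ι ι F} (hP : IsUnit P.det) (h : A * P = P * B) :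
    Sim A B :=
  ⟨P, P⁻¹, Matrix.mul_nonsing_inv _ hP, Matrix.nonsing_inv_mul _ hP, by
    rw [← h, Matrix.mul_assoc, Matrix.mul_nonsing_inv _ hP, Matrix.mul_one]⟩

theorem Sim.det_eq {A : Matrix ι ι F} {B : Matrix κ κ F} : Sim A B → A.det = B.det := by
  rintro ⟨P, Q, h1, h2, rfl⟩
  exact Matrix.det_conj_of_mul_eq_one h1 h2

theorem Sim.of_invertible {A B : Matrix ι ι F} {U : Matrix ι ι F} (hU : IsUnit U.det) (h : A = U * B * U⁻¹) :
    Sim A B :=
  ⟨U, U⁻¹, Matrix.mul_nonsing_inv _ hU, Matrix.nonsing_inv_mul _ hU, h⟩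

/-! ### Companion matrices and cyclic vectors -/

/-- The companion matrix of the monic polynomial with the low coefficients of `f`. -/
def cmp (m : ℕ) (f : F[X]) : Matrix (Fin m) (Fin m) F :=
  Matrix.of fun i j => if (j : ℕ) + 1 < m then (if (i : ℕ) = (j : ℕ) + 1 then 1 else 0) else - f.coeff i

/-- The Krylov family. -/
def kry (M : Matrix ι ι F) (v : ι → F) (j : ℕ) : ι → F := (M ^ j) *ᵥ v

theorem kry_succ (M : Matrix ι ι F) (v : ι → F) (j : ℕ) : kry M v (j + 1) = M *ᵥ kry M v j := by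
  rw [kry, kry, pow_succ', Matrix.mulVec_mulVec]

theorem kry_zero (M : Matrix ι ι F) (v : ι → F) : kry M v 0 = v := by
  rw [kry, pow_zero, Matrix.one_mulVec]

theorem aeval_mulVec (M : Matrix ι ι F) (v : ι → F) (f : F[X]) (N : ℕ) (hN : f.natDegree < N) :
    (aeval M f) *ᵥ v = ∑ j ∈ Finset.range N, f.coeff j • kry M v j := by
  rw [aeval_eq_sum_range' hN, Matrix.sum_mulVec]
  exact Finset.sum_congr rfl fun j _ => by rw [Matrix.smul_mulVec, kry]

theorem eq_zero_of_aeval {m : ℕ} {M : Matrix ι ι F} {v : ι → F}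
    (hind : LinearIndependent F (fun j : Fin m => kry M v j)) {f : F[X]}
    (hdeg : f.degree < m) (hf : (aeval M f) *ᵥ v = 0) : f = 0 := by
  by_contra hne
  have hN : f.natDegree < m := (natDegree_lt_iff_degree_lt hne).2 hdeg
  rw [aeval_mulVec M v f m hN, ← Fin.sum_univ_eq_sum_range (fun j => f.coeff j • kry M v j)] at hf
  refine hne (Polynomial.ext fun j => ?_)
  rw [coeff_zero]
  by_cases hj : j < m
  · exact Fintype.linearIndependent_iff.1 hind (fun j => f.coeff j) hf ⟨j, hj⟩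
  · exact coeff_eq_zero_of_natDegree_lt (by omega)

theorem charpoly_eq {m : ℕ} (hm : Fintype.card ι = m) {M : Matrix ι ι F} {v : ι → F}
    (hind : LinearIndependent F (fun j : Fin m => kry M v j)) {f : F[X]} (hmon : f.Monic)
    (hdeg : f.natDegree = m) (hf : (aeval M f) *ᵥ v = 0) : f = M.charpoly := by
  have h := eq_zero_of_aeval hind (f := f - M.charpoly) ?_ ?_
  · exact sub_eq_zero.1 h
  · have hd : f.degree = (m : ℕ) := by rw [degree_eq_natDegree hmon.ne_zero, hdeg]
    have hd' : M.charpoly.degree = f.degree := by rw [Matrix.charpoly_degree_eq_dim, hd, hm]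
    calc (f - M.charpoly).degree < f.degree := degree_sub_lt hd'.symm hmon.ne_zero (by
          rw [hmon.leadingCoeff, (Matrix.charpoly_monic M).leadingCoeff])
      _ = m := hd
  · rw [map_sub, Matrix.sub_mulVec, hf, Matrix.aeval_self_charpoly, Matrix.zero_mulVec, sub_zero]

/-- A matrix with a cyclic vector is similar to the companion matrix of its characteristic polynomial. -/
theorem sim_cmp {m : ℕ} (hm : Fintype.card ι = m) {M : Matrix ι ι F} {v : ι → F}
    (hind : LinearIndependent F (fun j : Fin m => kry M v j)) : Sim M (cmp m M.charpoly) := by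
  have hspan : ⊤ ≤ Submodule.span F (Set.range fun j : Fin m => kry M v j) := by
    rw [hind.span_eq_top_of_card_eq_finrank' (by rw [Fintype.card_fin, Module.finrank_fintype_fun_eq_card, hm])]
  let P : Matrix ι (Fin m) F := Matrix.of fun i j => kry M v j i
  let bs := Module.Basis.mk hind hspan
  let Q : Matrix (Fin m) ι F := Matrix.of fun j i => bs.repr (Pi.single i 1) j
  have hPQ : P * Q = 1 := by
    ext i k
    have h := congrFun (bs.sum_repr (Pi.single k (1 : F))) i
    rw [Finset.sum_apply] at h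
    rw [Matrix.mul_apply, Matrix.one_apply]
    simp only [P, Q, Matrix.of_apply, Pi.smul_apply, smul_eq_mul, bs, Module.Basis.mk_apply, Pi.single_apply] at h ⊢
    rw [← h]
    exact Finset.sum_congr rfl fun j _ => mul_comm _ _
  have hQP : Q * P = 1 := Matrix.mul_eq_one_comm_of_equiv (Fintype.equivFinOfCardEq hm) |>.1 hPQ
  refine ⟨P, Q, hPQ, hQP, ?_⟩
  have key : M * P = P * cmp m M.charpoly := by
    ext i j
    have hL : (M * P) i j = kry M v ((j : ℕ) + 1) i := by
      rw [kry_succ]; rfl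
    rw [hL]
    by_cases hj : (j : ℕ) + 1 < m
    · rw [Matrix.mul_apply, Finset.sum_eq_single ⟨(j : ℕ) + 1, hj⟩]
      · simp [P, cmp, hj]
      · intro k _ hk
        have : (k : ℕ) ≠ (j : ℕ) + 1 := fun h => hk (Fin.ext h)
        simp [cmp, hj, this]
      · simp
    · have hjm : (j : ℕ) + 1 = m := by omega
      have hdeg : M.charpoly.natDegree = m := by rw [Matrix.charpoly_natDegree_eq_dim, hm]
      have h0 := aeval_mulVec M v M.charpoly (m + 1) (by omega)
      rw [Matrix.aeval_self_charpoly, Matrix.zero_mulVec, Finset.sum_range_succ] at h0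
      have hlead : M.charpoly.coeff m = 1 := by
        rw [← hdeg]; exact Matrix.charpoly_monic M
      have h1 := congrFun h0 i
      rw [Pi.zero_apply, Pi.add_apply, Finset.sum_apply, hlead, one_smul] at h1
      rw [hjm, eq_neg_of_add_eq_zero_right h1.symm, Matrix.mul_apply,
        ← Fin.sum_univ_eq_sum_range (fun k => (M.charpoly.coeff k • kry M v k) i), ← Finset.sum_neg_distrib]
      refine Finset.sum_congr rfl fun k _ => ?_
      simp [P, cmp, hjm, mul_comm]
  rw [← key, Matrix.mul_assoc, hPQ, Matrix.mul_one]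

/-- Linear independence from a triangular shape. -/
theorem independent_of_triangular {m : ℕ} (e : Fin m ≃ ι) (f : Fin m → ι → F)
    (hlow : ∀ j i : Fin m, j < i → f j (e i) = 0) (hdiag : ∀ j, f j (e j) ≠ 0) :
    LinearIndependent F f := by
  let K : Matrix (Fin m) (Fin m) F := Matrix.of fun i j => f j (e i)
  have hdet : K.det ≠ 0 := by
    rw [Matrix.det_of_isUpperTriangular (M := K) (fun i j h => hlow j i h)]
    exact Finset.prod_ne_zero_iff.2 fun i _ => hdiag i
  have h := Matrix.linearIndependent_cols_of_det_ne_zero hdet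
  refine LinearIndependent.of_comp (LinearMap.funLeft F F (fun i => e i)) ?_
  exact h

/-- A vector killing the index `0` basis vector of an unreduced Hessenberg matrix spans a triangular family. -/
theorem kry_hessenberg {m : ℕ} (M : Matrix (Fin m) (Fin m) F) (h0 : 0 < m)
    (hlow : ∀ i j : Fin m, (j : ℕ) + 1 < i → M i j = 0)
    (j : ℕ) (hj : j < m) :
    (∀ i : Fin m, j < (i : ℕ) → kry M (Pi.single ⟨0, h0⟩ 1) j i = 0) ∧
      ((∀ i k : Fin m, (i : ℕ) = (k : ℕ) + 1 → M i k ≠ 0) → kry M (Pi.single ⟨0, h0⟩ 1) j ⟨j, hj⟩ ≠ 0) := by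
  induction j with
  | zero =>
    rw [kry_zero]
    refine ⟨fun i hi => ?_, fun _ => by simp⟩
    rw [Pi.single_eq_of_ne]
    intro h; subst h; simp at hi
  | succ j ih =>
    obtain ⟨ih1, ih2⟩ := ih (by omega)
    rw [kry_succ]
    refine ⟨fun i hi => ?_, fun hsub => ?_⟩
    · show ∑ k, M i k * kry M (Pi.single ⟨0, h0⟩ 1) j k = 0
      refine Finset.sum_eq_zero fun k _ => ?_
      by_cases hk : j < (k : ℕ)
      · rw [ih1 k hk, mul_zero]
      · rw [hlow i k (by omega), zero_mul]
    · show ∑ k, M _ k * kry M (Pi.single ⟨0, h0⟩ 1) j k ≠ 0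
      rw [Finset.sum_eq_single ⟨j, by omega⟩]
      · exact mul_ne_zero (hsub _ _ rfl) (ih2 hsub)
      · intro k _ hk
        have hk' : (k : ℕ) ≠ j := fun h => hk (Fin.ext h)
        by_cases hk2 : j < (k : ℕ)
        · rw [ih1 k hk2, mul_zero]
        · rw [hlow _ k (by show (k : ℕ) + 1 < j + 1; omega), zero_mul]
      · simp

theorem hessenberg_independent {m : ℕ} (M : Matrix (Fin m) (Fin m) F) (h0 : 0 < m)
    (hlow : ∀ i j : Fin m, (j : ℕ) + 1 < i → M i j = 0)
    (hsub : ∀ i k : Fin m, (i : ℕ) = (k : ℕ) + 1 → M i k ≠ 0) :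
    LinearIndependent F (fun j : Fin m => kry M (Pi.single ⟨0, h0⟩ 1) j) :=
  independent_of_triangular (Equiv.refl _) _ (fun j i hji => (kry_hessenberg M h0 hlow j j.2).1 i hji)
    (fun j => (kry_hessenberg M h0 hlow j j.2).2 hsub)

theorem cmp_low {m : ℕ} (f : F[X]) (i j : Fin m) (h : (j : ℕ) + 1 < i) : cmp m f i j = 0 := by
  have : (j : ℕ) + 1 < m := lt_of_lt_of_le h i.2.le
  simp [cmp, this, ne_of_gt h]

theorem cmp_sub {m : ℕ} (f : F[X]) (i j : Fin m) (h : (i : ℕ) = (j : ℕ) + 1) : cmp m f i j = 1 := by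
  have : (j : ℕ) + 1 < m := h ▸ i.2
  simp [cmp, this, h]

theorem kry_cmp {m : ℕ} (f : F[X]) (h0 : 0 < m) (j : ℕ) (hj : j < m) :
    kry (cmp m f) (Pi.single ⟨0, h0⟩ 1) j = Pi.single ⟨j, hj⟩ 1 := by
  induction j with
  | zero => rw [kry_zero]
  | succ j ih =>
    rw [kry_succ, ih (by omega)]
    ext i
    rw [Matrix.mulVec_single_one, Matrix.col_apply]
    simp [cmp, hj, Pi.single_apply, Fin.ext_iff]

theorem charpoly_cmp {m : ℕ} (f : F[X]) (hmon : f.Monic) (hdeg : f.natDegree = m) :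
    (cmp m f).charpoly = f := by
  rcases Nat.eq_zero_or_pos m with rfl | h0
  · rw [hmon.natDegree_eq_zero.1 hdeg]
    exact Matrix.charpoly_isEmpty
  refine (charpoly_eq (Fintype.card_fin m) (hessenberg_independent _ h0 (cmp_low f)
    (fun i k h => by rw [cmp_sub f i k h]; exact one_ne_zero)) hmon hdeg ?_).symm
  have hlead : f.coeff m = 1 := hdeg ▸ hmon.coeff_natDegree
  rw [aeval_mulVec _ _ f (m + 1) (by omega), Finset.sum_range_succ, hlead, one_smul]
  have hlast : kry (cmp m f) (Pi.single ⟨0, h0⟩ 1) m = fun i : Fin m => - f.coeff i := by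
    have h := kry_succ (cmp m f) (Pi.single ⟨0, h0⟩ 1) (m - 1)
    rw [Nat.sub_add_cancel h0, kry_cmp f h0 (m - 1) (by omega), Matrix.mulVec_single_one] at h
    rw [h]
    ext i
    simp [cmp, Nat.sub_add_cancel h0]
  rw [hlast, ← Fin.sum_univ_eq_sum_range (fun k => f.coeff k • kry (cmp m f) (Pi.single ⟨0, h0⟩ 1) k)]
  ext i
  rw [Pi.add_apply, Finset.sum_apply, Pi.zero_apply, Finset.sum_eq_single i]
  · simp [kry_cmp f h0 i i.2]
  · intro k _ hk
    simp [kry_cmp f h0 k k.2, Pi.single_eq_of_ne (Ne.symm hk)]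
  · simp

theorem det_cmp {m : ℕ} (f : F[X]) (hmon : f.Monic) (hdeg : f.natDegree = m) :
    (cmp m f).det = (-1) ^ m * f.coeff 0 := by
  rw [Matrix.det_eq_sign_charpoly_coeff, charpoly_cmp f hmon hdeg, Fintype.card_fin]

/-! ### Block triangular matrices -/

variable {α β : Type*} [Fintype α] [DecidableEq α] [Fintype β] [DecidableEq β]

theorem aeval_intertwine {A : Matrix α α F} {D : Matrix β β F} {Z : Matrix α β F} (h : A * Z = Z * D)
    (p : F[X]) : aeval A p * Z = Z * aeval D p := by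
  induction p using Polynomial.induction_on with
  | C c => simp [Algebra.algebraMap_eq_smul_one]
  | add a b ha hb => rw [map_add, map_add, Matrix.add_mul, Matrix.mul_add, ha, hb]
  | monomial k c ih =>
    rw [pow_succ, ← mul_assoc, map_mul _ _ X, map_mul _ _ X, aeval_X, aeval_X, Matrix.mul_assoc, h,
      ← Matrix.mul_assoc, ih, Matrix.mul_assoc]

/-- The coupling of two blocks can be any prescribed matrix when a polynomial separates them. -/
theorem exists_sylvester {A : Matrix α α F} {D : Matrix β β F} (p : F[X])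
    (hD : IsNilpotent (aeval D p)) (hA : IsUnit (aeval A p)) (B : Matrix α β F) :
    ∃ Z : Matrix α β F, A * Z - Z * D = B := by
  let L : Matrix α β F →ₗ[F] Matrix α β F :=
    { toFun := fun Z => A * Z - Z * D
      map_add' := fun Y Z => by rw [Matrix.mul_add, Matrix.add_mul]; abel
      map_smul' := fun c Z => by rw [Matrix.mul_smul, Matrix.smul_mul, RingHom.id_apply, smul_sub] }
  have hinj : Function.Injective L := by
    rw [← LinearMap.ker_eq_bot, LinearMap.ker_eq_bot']
    intro Z hZ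
    have h := aeval_intertwine (sub_eq_zero.1 (hZ : A * Z - Z * D = 0))
    obtain ⟨k, hk⟩ := hD
    have h1 := h (p ^ k)
    rw [map_pow, map_pow, hk, Matrix.mul_zero] at h1
    obtain ⟨U, hU⟩ := (hA.pow k)
    calc Z = ((U⁻¹ : (Matrix α α F)ˣ) : Matrix α α F) * (U : Matrix α α F) * Z := by
          rw [Units.inv_mul, Matrix.one_mul]
      _ = 0 := by rw [Matrix.mul_assoc, hU, h1, Matrix.mul_zero]
  exact LinearMap.injective_iff_surjective.1 hinj B

theorem sim_fromBlocks_split {A : Matrix α α F} {B : Matrix α β F} {D : Matrix β β F} (p : F[X])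
    (hD : IsNilpotent (aeval D p)) (hA : IsUnit (aeval A p)) :
    Sim (fromBlocks A B 0 D) (fromBlocks A 0 0 D) := by
  obtain ⟨Z, hZ⟩ := exists_sylvester p hD hA B
  refine ⟨fromBlocks 1 (-Z) 0 1, fromBlocks 1 Z 0 1, ?_, ?_, ?_⟩
  · rw [fromBlocks_multiply]; simp
  · rw [fromBlocks_multiply]; simp
  · simp only [fromBlocks_multiply, Matrix.one_mul, Matrix.mul_one, Matrix.zero_mul, Matrix.mul_zero,
      add_zero, zero_add, Matrix.neg_mul, ← hZ]
    simp [sub_eq_add_neg]

theorem Sim.blocks {γ δ : Type*} [Fintype γ] [DecidableEq γ] [Fintype δ] [DecidableEq δ]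
    {A : Matrix α α F} {B : Matrix β β F} {C : Matrix γ γ F} {D : Matrix δ δ F} :
    Sim A C → Sim B D → Sim (fromBlocks A 0 0 B) (fromBlocks C 0 0 D) := by
  rintro ⟨P, Q, h1, h2, rfl⟩ ⟨R, S, h3, h4, rfl⟩
  exact ⟨fromBlocks P 0 0 R, fromBlocks Q 0 0 S, by simp [fromBlocks_multiply, h1, h3],
    by simp [fromBlocks_multiply, h2, h4], by simp [fromBlocks_multiply]⟩

theorem sim_blocks_comm (A : Matrix α α F) (B : Matrix β β F) :
    Sim (fromBlocks A 0 0 B) (fromBlocks B 0 0 A) := by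
  refine (sim_reindex (Equiv.sumComm α β) _).trans ?_
  rw [show Matrix.reindex (Equiv.sumComm α β) (Equiv.sumComm α β) (fromBlocks A 0 0 B) = fromBlocks B 0 0 A by
    ext i j; cases i <;> cases j <;> rfl]
  exact Sim.refl _

theorem sim_blocks_assoc {γ : Type*} [Fintype γ] [DecidableEq γ] (A : Matrix α α F) (B : Matrix β β F)
    (C : Matrix γ γ F) :
    Sim (fromBlocks (fromBlocks A 0 0 B) 0 0 C) (fromBlocks A 0 0 (fromBlocks B 0 0 C)) := by
  refine (sim_reindex (Equiv.sumAssoc α β γ) _).trans ?_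
  rw [show Matrix.reindex (Equiv.sumAssoc α β γ) (Equiv.sumAssoc α β γ)
      (fromBlocks (fromBlocks A 0 0 B) 0 0 C) = fromBlocks A 0 0 (fromBlocks B 0 0 C) by
    ext i j
    rcases i with i | i | i <;> rcases j with j | j | j <;> rfl]
  exact Sim.refl _

theorem isNilpotent_fromBlocks {A : Matrix α α F} {B : Matrix α β F} {D : Matrix β β F}
    (hA : IsNilpotent A) (hD : IsNilpotent D) : IsNilpotent (fromBlocks A B 0 D) := by
  have hpow : ∀ k : ℕ, ∃ E : Matrix α β F, (fromBlocks A B 0 D) ^ k = fromBlocks (A ^ k) E 0 (D ^ k) := by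
    intro k
    induction k with
    | zero => exact ⟨0, by rw [pow_zero, pow_zero, pow_zero, fromBlocks_one]⟩
    | succ k ih =>
      obtain ⟨E, hE⟩ := ih
      exact ⟨A ^ k * B + E * D, by rw [pow_succ, hE, fromBlocks_multiply]; simp [pow_succ]⟩
  obtain ⟨a, ha⟩ := hA
  obtain ⟨d, hd⟩ := hD
  obtain ⟨E, hE⟩ := hpow (a + d)
  refine ⟨(a + d) + (a + d), ?_⟩
  rw [pow_add, hE, pow_add, ha, Matrix.zero_mul, pow_add, hd, Matrix.mul_zero, fromBlocks_multiply]
  simp

theorem aeval_fromBlocks (A : Matrix α α F) (B : Matrix α β F) (D : Matrix β β F) (p : F[X]) :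
    ∃ E : Matrix α β F, aeval (fromBlocks A B 0 D) p = fromBlocks (aeval A p) E 0 (aeval D p) := by
  induction p using Polynomial.induction_on with
  | C c =>
    refine ⟨0, ?_⟩
    simp only [aeval_C, Algebra.algebraMap_eq_smul_one]
    rw [← fromBlocks_one, fromBlocks_smul, smul_zero, smul_zero]
  | add a b ha hb =>
    obtain ⟨E, hE⟩ := ha
    obtain ⟨E', hE'⟩ := hb
    exact ⟨E + E', by rw [map_add, hE, hE', fromBlocks_add, map_add, map_add, add_zero]⟩
  | monomial k c ih =>
    obtain ⟨E, hE⟩ := ih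
    refine ⟨aeval A (C c * X ^ k) * B + E * D, ?_⟩
    rw [pow_succ, ← mul_assoc, map_mul _ _ X, hE, aeval_X, fromBlocks_multiply]
    simp [Matrix.mul_zero]

theorem Sim.aeval_eq {A : Matrix ι ι F} {B : Matrix κ κ F} (p : F[X]) :
    Sim A B → Sim (aeval A p) (aeval B p) := by
  rintro ⟨P, Q, h1, h2, rfl⟩
  refine ⟨P, Q, h1, h2, ?_⟩
  have h : (P * B * Q) * P = P * B := by
    rw [Matrix.mul_assoc, h2, Matrix.mul_one]
  rw [← aeval_intertwine h p, Matrix.mul_assoc (aeval (P * B * Q) p) P Q, h1, Matrix.mul_one]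

theorem Sim.isNilpotent {A : Matrix ι ι F} {B : Matrix κ κ F} :
    Sim A B → IsNilpotent B → IsNilpotent A := by
  rintro ⟨P, Q, h1, h2, rfl⟩ ⟨k, hk⟩
  refine ⟨k + 1, ?_⟩
  have : ∀ j, (P * B * Q) ^ (j + 1) = P * B ^ (j + 1) * Q := by
    intro j
    induction j with
    | zero => rw [pow_one, pow_one]
    | succ j ih =>
      rw [pow_succ, ih, show P * B ^ (j + 1) * Q * (P * B * Q) = P * (B ^ (j + 1) * (Q * P) * B) * Q by
        simp only [Matrix.mul_assoc], h2, Matrix.mul_one, ← pow_succ]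
  rw [this, pow_succ, hk, Matrix.zero_mul, Matrix.mul_zero, Matrix.zero_mul]

/-! ### Commutators -/

/-- A commutator of two matrices of determinant one, the second one killed up to nilpotence by `p`. -/
def ComK (p : F[X]) (g : Matrix ι ι F) : Prop :=
  ∃ a b : Matrix ι ι F, a.det = 1 ∧ b.det = 1 ∧ g * b * a = a * b ∧ IsNilpotent (aeval b p)

/-- A commutator of two matrices of determinant one. -/
def Com (g : Matrix ι ι F) : Prop :=
  ∃ a b : Matrix ι ι F, a.det = 1 ∧ b.det = 1 ∧ g * b * a = a * b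

theorem ComK.com {p : F[X]} {g : Matrix ι ι F} : ComK p g → Com g := fun ⟨a, b, h1, h2, h3, _⟩ => ⟨a, b, h1, h2, h3⟩

theorem ComK.mono {p r : F[X]} (hpr : p ∣ r) {g : Matrix ι ι F} : ComK p g → ComK r g := by
  rintro ⟨a, b, h1, h2, h3, h4⟩
  obtain ⟨s, rfl⟩ := hpr
  refine ⟨a, b, h1, h2, h3, ?_⟩
  rw [map_mul]
  have hc : Commute (aeval b p) (aeval b s) := (Commute.all p s).map (aeval b)
  exact hc.isNilpotent_mul_right h4

theorem com_iff_zero (g : Matrix ι ι F) : Com g ↔ ComK (0 : F[X]) g := by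
  refine ⟨fun ⟨a, b, h1, h2, h3⟩ => ⟨a, b, h1, h2, h3, ?_⟩, ComK.com⟩
  rw [map_zero]
  exact IsNilpotent.zero

theorem ComK.sim {p : F[X]} {g : Matrix ι ι F} {g' : Matrix κ κ F} (hs : Sim g g') :
    ComK p g' → ComK p g := by
  obtain ⟨P, Q, h1, h2, rfl⟩ := hs
  rintro ⟨a, b, ha, hb, h, hn⟩
  have sa : Sim (P * a * Q) a := ⟨P, Q, h1, h2, rfl⟩
  have sb : Sim (P * b * Q) b := ⟨P, Q, h1, h2, rfl⟩
  refine ⟨P * a * Q, P * b * Q, sa.det_eq.trans ha, sb.det_eq.trans hb, ?_, (sb.aeval_eq p).isNilpotent hn⟩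
  calc P * g' * Q * (P * b * Q) * (P * a * Q) = P * (g' * (Q * P) * b * (Q * P) * a) * Q := by
        simp only [Matrix.mul_assoc]
    _ = P * (a * (Q * P) * b) * Q := by rw [h2, Matrix.mul_one, Matrix.mul_one, Matrix.mul_one, h]
    _ = _ := by simp only [Matrix.mul_assoc]

theorem Com.sim {g : Matrix ι ι F} {g' : Matrix κ κ F} (hs : Sim g g') (h : Com g') : Com g :=
  (((com_iff_zero g').1 h).sim hs).com

theorem com_one : Com (1 : Matrix ι ι F) :=
  ⟨1, 1, det_one, det_one, by simp⟩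

theorem comK_one (p : F[X]) (hp : p.eval 1 = 0) : ComK p (1 : Matrix ι ι F) := by
  refine ⟨1, 1, det_one, det_one, by simp, ?_⟩
  have : aeval (1 : Matrix ι ι F) p = algebraMap F (Matrix ι ι F) (p.eval 1) := by
    rw [← map_one (algebraMap F (Matrix ι ι F)), aeval_algebraMap_apply, coe_aeval_eq_eval]
  rw [this, hp, map_zero]
  exact IsNilpotent.zero

theorem ComK.blocks {p : F[X]} {A : Matrix α α F} {B : Matrix β β F} :
    ComK p A → ComK p B → ComK p (fromBlocks A 0 0 B) := by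
  rintro ⟨a, b, ha, hb, h, hn⟩ ⟨a', b', ha', hb', h', hn'⟩
  refine ⟨fromBlocks a 0 0 a', fromBlocks b 0 0 b', by simp [ha, ha'], by simp [hb, hb'],
    by simp [fromBlocks_multiply, h, h'], ?_⟩
  obtain ⟨E, hE⟩ := aeval_fromBlocks b 0 b' p
  rw [hE]
  exact isNilpotent_fromBlocks hn hn'

theorem Com.blocks {A : Matrix α α F} {B : Matrix β β F} (hA : Com A) (hB : Com B) :
    Com (fromBlocks A 0 0 B) :=
  (((com_iff_zero A).1 hA).blocks ((com_iff_zero B).1 hB)).com

/-- Commutators lift through a block triangular form whose two pairs are separated. -/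
theorem com_triangular {p : F[X]} {A : Matrix α α F} {G : Matrix α β F} {D : Matrix β β F}
    (hA : ∃ a b : Matrix α α F, a.det = 1 ∧ b.det = 1 ∧ A * b * a = a * b ∧ IsUnit (aeval b p))
    (hD : ComK p D) : Com (fromBlocks A G 0 D) := by
  obtain ⟨a, b, ha, hb, h, hu⟩ := hA
  obtain ⟨a', b', ha', hb', h', hn'⟩ := hD
  have hia : IsUnit a.det := ha ▸ isUnit_one
  have hAb : A * b = a * b * a⁻¹ := by
    rw [← h, Matrix.mul_assoc _ a, Matrix.mul_nonsing_inv _ hia, Matrix.mul_one]
  have hs : Sim (A * b) b := Sim.of_invertible hia hAb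
  have hu' : IsUnit (aeval (A * b) p) := by
    obtain ⟨P, Q, h1, h2, e⟩ := hs.aeval_eq p
    rw [e]
    exact ((IsUnit.of_mul_eq_one Q h1).mul hu).mul (IsUnit.of_mul_eq_one P h2)
  obtain ⟨Z, hZ⟩ := exists_sylvester p hn' hu' (-(G * (b' * a')))
  refine ⟨fromBlocks a Z 0 a', fromBlocks b 0 0 b', by simp [ha, ha'], by simp [hb, hb'], ?_⟩
  rw [fromBlocks_multiply, fromBlocks_multiply, fromBlocks_multiply]
  simp only [Matrix.mul_zero, Matrix.zero_mul, add_zero, zero_add, Matrix.mul_assoc] at h h' hZ ⊢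
  rw [h, h', show A * (b * Z) + G * (b' * a') = Z * b' from ?_]
  rw [eq_comm, ← sub_eq_zero]
  calc Z * b' - (A * (b * Z) + G * (b' * a')) = -(A * (b * Z) - Z * b') - G * (b' * a') := by abel
    _ = 0 := by rw [hZ]; simp

/-- A matrix whose translate by `X` is similar to `X` is a commutator, once the determinant can be corrected. -/
theorem com_of_sim {p : F[X]} {g X : Matrix ι ι F} (hX : X.det = 1) (hs : Sim (g * X) X)
    (hn : IsNilpotent (aeval X p)) (hc : ∀ t : F, t ≠ 0 → ∃ c : Matrix ι ι F, c * X = X * c ∧ c.det = t) :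
    ComK p g := by
  obtain ⟨P, Q, h1, h2, e⟩ := hs
  have hd : P.det * Q.det = 1 := by rw [← Matrix.det_mul, h1, Matrix.det_one]
  have hP0 : P.det ≠ 0 := left_ne_zero_of_mul_eq_one hd
  obtain ⟨c, hc1, hc2⟩ := hc P.det⁻¹ (inv_ne_zero hP0)
  refine ⟨P * c, X, by rw [Matrix.det_mul, hc2, mul_inv_cancel₀ hP0], hX, ?_, hn⟩
  rw [e, Matrix.mul_assoc P c X, hc1, show P * X * Q * (P * c) = P * (X * (Q * P)) * c by
    simp only [Matrix.mul_assoc], h2, Matrix.mul_one, Matrix.mul_assoc]

end Cfsg.Agent.Lie.SLComm
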