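import Mathlib
import Cfsg.Agent.Lib.Lie.SLComm.Basic

/-!
Matrices split off at their first index, triangular matrices with few distinct diagonal entries,
transvections and scalar matrices as commutators.
-/

set_option autoImplicit false
set_option linter.unusedSectionVars false

namespace Cfsg.Agent.Lie.SLComm

open Matrix Polynomial

universe u v

variable {F : Type u} [Field F] {n : ℕ}

/-- A matrix given by corner, first row, first column and the rest. -/
def blk (a : F) (r c : Fin n → F) (B : Matrix (Fin n) (Fin n) F) : Matrix (Fin (n + 1)) (Fin (n + 1)) F :=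
  Matrix.of (Fin.cons (Fin.cons a r) fun i => Fin.cons (c i) (B i))

@[simp] theorem blk_zz (a : F) (r c : Fin n → F) (B : Matrix (Fin n) (Fin n) F) : blk a r c B 0 0 = a := rfl

@[simp] theorem blk_zs (a : F) (r c : Fin n → F) (B : Matrix (Fin n) (Fin n) F) (j : Fin n) :
    blk a r c B 0 j.succ = r j := by simp [blk]

@[simp] theorem blk_sz (a : F) (r c : Fin n → F) (B : Matrix (Fin n) (Fin n) F) (i : Fin n) :
    blk a r c B i.succ 0 = c i := by simp [blk]

@[simp] theorem blk_ss (a : F) (r c : Fin n → F) (B : Matrix (Fin n) (Fin n) F) (i j : Fin n) :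
    blk a r c B i.succ j.succ = B i j := by simp [blk]

theorem eq_blk (M : Matrix (Fin (n + 1)) (Fin (n + 1)) F) :
    M = blk (M 0 0) (fun j => M 0 j.succ) (fun i => M i.succ 0) (Matrix.of fun i j => M i.succ j.succ) := by
  ext i j
  refine Fin.cases ?_ (fun i' => ?_) i <;> refine Fin.cases ?_ (fun j' => ?_) j <;> simp

theorem blk_mul (a a' : F) (r r' c c' : Fin n → F) (B B' : Matrix (Fin n) (Fin n) F) :
    blk a r c B * blk a' r' c' B' =
      blk (a * a' + r ⬝ᵥ c') (a • r' + r ᵥ* B') (a' • c + B *ᵥ c') (Matrix.vecMulVec c r' + B * B') := by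
  ext i j
  refine Fin.cases ?_ (fun i' => ?_) i <;> refine Fin.cases ?_ (fun j' => ?_) j <;>
    simp [Matrix.mul_apply, Fin.sum_univ_succ, dotProduct, Matrix.vecMul, Matrix.mulVec, Matrix.vecMulVec_apply] <;>
    ring

theorem blk_one : blk (1 : F) (0 : Fin n → F) 0 1 = 1 := by
  ext i j
  refine Fin.cases ?_ (fun i' => ?_) i <;> refine Fin.cases ?_ (fun j' => ?_) j <;>
    simp [Matrix.one_apply, Fin.succ_ne_zero, Ne.symm (Fin.succ_ne_zero _)]

theorem blk_det_lower (a : F) (c : Fin n → F) (B : Matrix (Fin n) (Fin n) F) :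
    (blk a 0 c B).det = a * B.det := by
  rw [Matrix.det_succ_row_zero, Fin.sum_univ_succ]
  have : (blk a 0 c B).submatrix Fin.succ Fin.succ = B := by ext i j; simp
  simp [this]

theorem blk_det_upper (a : F) (r : Fin n → F) (B : Matrix (Fin n) (Fin n) F) :
    (blk a r 0 B).det = a * B.det := by
  rw [Matrix.det_succ_column_zero, Fin.sum_univ_succ]
  have : (blk a r 0 B).submatrix Fin.succ Fin.succ = B := by ext i j; simp
  simp [this]

theorem Sim.blk {A B : Matrix (Fin n) (Fin n) F} (a : F) : Sim A B → Sim (blk a 0 0 A) (blk a 0 0 B) := by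
  rintro ⟨P, Q, h1, h2, rfl⟩
  refine ⟨SLComm.blk 1 0 0 P, SLComm.blk 1 0 0 Q, ?_, ?_, ?_⟩ <;>
    simp [blk_mul, h1, h2, blk_one]

theorem Sim.add_scalar {ι κ : Type*} [Fintype ι] [DecidableEq ι] [Fintype κ] [DecidableEq κ]
    {A : Matrix ι ι F} {B : Matrix κ κ F} (b : F) : Sim A B → Sim (b • 1 + A) (b • 1 + B) := by
  rintro ⟨P, Q, h1, h2, rfl⟩
  exact ⟨P, Q, h1, h2, by rw [Matrix.mul_add, Matrix.add_mul, Matrix.mul_smul, Matrix.mul_one, Matrix.smul_mul, h1]⟩

theorem Sim.inv {ι κ : Type*} [Fintype ι] [DecidableEq ι] [Fintype κ] [DecidableEq κ]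
    {A A' : Matrix ι ι F} {B B' : Matrix κ κ F} (hA : A * A' = 1) (hB : B' * B = 1) :
    Sim A B → Sim A' B' := by
  rintro ⟨P, Q, h1, h2, rfl⟩
  refine ⟨P, Q, h1, h2, ?_⟩
  calc A' = P * (B' * B) * Q * A' := by rw [hB, Matrix.mul_one, h1, Matrix.one_mul]
    _ = P * B' * (Q * P) * (B * Q * A') := by rw [h2, Matrix.mul_one]; simp only [Matrix.mul_assoc]
    _ = P * B' * Q * ((P * B * Q) * A') := by simp only [Matrix.mul_assoc]
    _ = P * B' * Q := by rw [hA, Matrix.mul_one]

/-- An eliminable first column. -/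
theorem sim_peel_lower (a : F) (c : Fin n → F) (M : Matrix (Fin n) (Fin n) F)
    (h : IsUnit (M - a • 1).det) : Sim (blk a 0 c M) (blk a 0 0 M) := by
  let z : Fin n → F := -((M - a • 1)⁻¹ *ᵥ c)
  have hz : a • z = c + M *ᵥ z := by
    have hh : (M - a • 1) *ᵥ z = -c := by
      rw [Matrix.mulVec_neg, Matrix.mulVec_mulVec, Matrix.mul_nonsing_inv _ h, Matrix.one_mulVec]
    rw [Matrix.sub_mulVec, Matrix.smul_mulVec, Matrix.one_mulVec] at hh
    linear_combination (norm := (ext i; simp <;> ring)) -hh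
  refine sim_of_conj (P := blk 1 0 z 1) (by rw [blk_det_lower, Matrix.det_one, mul_one]; exact isUnit_one) ?_
  simp [blk_mul, hz]

/-- An eliminable first row. -/
theorem sim_peel_upper (a : F) (r : Fin n → F) (M : Matrix (Fin n) (Fin n) F)
    (h : IsUnit (M - a • 1).det) : Sim (blk a r 0 M) (blk a 0 0 M) := by
  let z : Fin n → F := r ᵥ* (M - a • 1)⁻¹
  have hz : z ᵥ* M = a • z + r := by
    have hh : z ᵥ* (M - a • 1) = r := by
      rw [Matrix.vecMul_vecMul, Matrix.nonsing_inv_mul _ h, Matrix.vecMul_one]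
    rw [Matrix.vecMul_sub, Matrix.vecMul_smul, Matrix.vecMul_one] at hh
    linear_combination (norm := (ext i; simp; ring)) hh
  refine sim_of_conj (P := blk 1 z 0 1) (by rw [blk_det_upper, Matrix.det_one, mul_one]; exact isUnit_one) ?_
  simp [blk_mul, hz]

/-- A lower triangular matrix with constant diagonal and nonzero subdiagonal. -/
theorem sim_tail_lower {b : F} {L : Matrix (Fin n) (Fin n) F} (hd : ∀ i, L i i = b)
    (hz : ∀ i j, i < j → L i j = 0) (hs : ∀ i j : Fin n, (i : ℕ) = (j : ℕ) + 1 → L i j ≠ 0) :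
    Sim L (b • 1 + cmp n (X ^ n)) := by
  suffices h : Sim (L - b • 1) (cmp n (X ^ n)) by
    have := h.add_scalar b
    rwa [add_sub_cancel] at this
  set N := L - b • 1 with hN
  have hN0 : ∀ i j : Fin n, i ≤ j → N i j = 0 := by
    intro i j hij
    rcases hij.lt_or_eq with h | rfl
    · simp [hN, hz i j h, ne_of_lt h]
    · simp [hN, hd]
  have hNs : ∀ i j : Fin n, (i : ℕ) = (j : ℕ) + 1 → N i j ≠ 0 := by
    intro i j h
    have : i ≠ j := fun e => by subst e; omega
    simpa [hN, this] using hs i j h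
  rcases Nat.eq_zero_or_pos n with rfl | h0
  · exact ⟨1, 1, one_mul 1, one_mul 1, Matrix.ext fun i => i.elim0⟩
  set v : Fin n → F := Pi.single ⟨0, h0⟩ 1 with hv
  have key : ∀ (j : ℕ) (hj : j < n), (∀ i : Fin n, (i : ℕ) < j → kry N v j i = 0) ∧ kry N v j ⟨j, hj⟩ ≠ 0 := by
    intro j
    induction j with
    | zero =>
      intro hj
      rw [kry_zero]
      exact ⟨fun i hi => absurd hi (Nat.not_lt_zero _), by simp [hv]⟩
    | succ j ih =>
      intro hj
      obtain ⟨ih1, ih2⟩ := ih (by omega)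
      rw [kry_succ]
      refine ⟨fun i hi => ?_, ?_⟩
      · show ∑ k, N i k * kry N v j k = 0
        refine Finset.sum_eq_zero fun k _ => ?_
        by_cases hk : (k : ℕ) < j
        · rw [ih1 k hk, mul_zero]
        · rw [hN0 i k (by show (i : ℕ) ≤ k; omega), zero_mul]
      · show ∑ k, N _ k * kry N v j k ≠ 0
        rw [Finset.sum_eq_single ⟨j, by omega⟩]
        · exact mul_ne_zero (hNs _ _ rfl) ih2
        · intro k _ hk
          have hk' : (k : ℕ) ≠ j := fun h => hk (Fin.ext h)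
          by_cases hk2 : (k : ℕ) < j
          · rw [ih1 k hk2, mul_zero]
          · rw [hN0 _ k (by show j + 1 ≤ (k : ℕ); omega), zero_mul]
        · simp
  have hind : LinearIndependent F (fun j : Fin n => kry N v j) := by
    have h := independent_of_triangular (m := n) (ι := Fin n) Fin.revPerm (fun j => kry N v (Fin.rev j : Fin n))
      (fun j i hji => (key _ (Fin.rev j).2).1 _ (by
        show ((Fin.rev i : Fin n) : ℕ) < (Fin.rev j : Fin n)
        rw [Fin.val_rev, Fin.val_rev]
        have : (j : ℕ) < i := hji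
        omega))
      (fun j => (key _ (Fin.rev j).2).2)
    have h' := h.comp Fin.rev Fin.rev_injective
    have e : (fun j => kry N v (Fin.rev j : Fin n)) ∘ Fin.rev = fun j : Fin n => kry N v j := by
      funext j
      simp only [Function.comp_apply, Fin.rev_rev]
    exact e ▸ h'
  have hchar : N.charpoly = X ^ n := by
    have hB : BlockTriangular N OrderDual.toDual := fun i j hij => hN0 i j hij.le
    rw [← Matrix.charpoly_transpose, Matrix.charpoly_of_isUpperTriangular _ (show N.transpose.IsUpperTriangular from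
      fun i j hij => hN0 j i hij.le)]
    simp [hN0]
  rw [← hchar]
  exact sim_cmp (Fintype.card_fin n) hind

/-- An upper triangular matrix with constant diagonal and nonzero superdiagonal. -/
theorem sim_tail_upper {b : F} {U : Matrix (Fin n) (Fin n) F} (hd : ∀ i, U i i = b)
    (hz : ∀ i j, j < i → U i j = 0) (hs : ∀ i j : Fin n, (j : ℕ) = (i : ℕ) + 1 → U i j ≠ 0) :
    Sim U (b • 1 + cmp n (X ^ n)) := by
  refine (sim_reindex Fin.revPerm U).trans (sim_tail_lower (fun i => by simp [hd]) (fun i j h => ?_) (fun i j h => ?_))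
  · simp only [Matrix.reindex_apply, Matrix.submatrix_apply, Fin.revPerm_symm, Fin.revPerm_apply]
    exact hz _ _ (Fin.rev_lt_rev.2 h)
  · simp only [Matrix.reindex_apply, Matrix.submatrix_apply, Fin.revPerm_symm, Fin.revPerm_apply]
    exact hs _ _ (by rw [Fin.val_rev, Fin.val_rev]; omega)

/-- Transvections are commutators when the field has more than three elements. -/
theorem com_transvection {ι : Type*} [Fintype ι] [DecidableEq ι] (x f : ι → F) (hx : x ≠ 0) (hf : f ≠ 0)
    (hfx : f ⬝ᵥ x = 0) (t : F) (ht0 : t ≠ 0) (ht : t * t ≠ 1) : Com (1 + Matrix.vecMulVec x f) := by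
  classical
  obtain ⟨i, hi⟩ := Function.ne_iff.1 hf
  obtain ⟨k, hk⟩ := Function.ne_iff.1 hx
  rw [Pi.zero_apply] at hi hk
  let e : ι → F := (f i)⁻¹ • Pi.single i 1
  have hfe : f ⬝ᵥ e = 1 := by simp [e, hi]
  let ψ₀ : ι → F := (x k)⁻¹ • Pi.single k 1
  have hψ₀ : ψ₀ ⬝ᵥ x = 1 := by simp [ψ₀, hk]
  let ψ : ι → F := ψ₀ - (ψ₀ ⬝ᵥ e) • f
  have hψx : ψ ⬝ᵥ x = 1 := by simp [ψ, hψ₀, hfx, sub_dotProduct]
  have hψe : ψ ⬝ᵥ e = 0 := by simp [ψ, hfe, sub_dotProduct]
  let U : Matrix ι (Fin 2) F := Matrix.of fun j => ![(t - 1) * x j, (t⁻¹ - 1) * e j]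
  let V : Matrix (Fin 2) ι F := Matrix.of ![ψ, f]
  have hVU : V * U = !![t - 1, 0; 0, t⁻¹ - 1] := by
    ext a c
    have e1 : ∀ (s : F) (p q : ι → F), ∑ j, p j * (s * q j) = s * (p ⬝ᵥ q) := fun s p q => by
      rw [dotProduct, Finset.mul_sum]; exact Finset.sum_congr rfl fun j _ => by ring
    fin_cases a <;> fin_cases c <;> simp [U, V, Matrix.mul_apply, e1, hψx, hψe, hfe, hfx]
  have hUV : U * V = (t - 1) • Matrix.vecMulVec x ψ + (t⁻¹ - 1) • Matrix.vecMulVec e f := by
    ext a c
    simp [U, V, Matrix.mul_apply, Fin.sum_univ_two, Matrix.vecMulVec_apply]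
    ring
  set s : F := (t * t - 1)⁻¹ with hs
  refine ⟨1 + U * V, 1 + s • Matrix.vecMulVec x f, ?_, ?_, ?_⟩
  · rw [Matrix.det_one_add_mul_comm, hVU, Matrix.det_fin_two]
    simp [ht0]
  · rw [← Matrix.smul_vecMulVec, Matrix.vecMulVec_eq Unit, Matrix.det_one_add_replicateCol_mul_replicateRow]
    simp [dotProduct_comm x f, hfx]
  · have c1 : x ⬝ᵥ ψ = 1 := dotProduct_comm ψ x ▸ hψx
    have hmm : ∀ a b c d : ι → F, Matrix.vecMulVec a b * Matrix.vecMulVec c d = (b ⬝ᵥ c) • Matrix.vecMulVec a d := by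
      intro a b c d
      ext p q
      simp [Matrix.mul_apply, Matrix.vecMulVec_apply, dotProduct, Finset.sum_mul, Finset.mul_sum]
      exact Finset.sum_congr rfl fun j _ => by ring
    have hst : s * (t * t - 1) = 1 := inv_mul_cancel₀ (sub_ne_zero.2 ht)
    rw [hUV]
    simp only [Matrix.mul_add, Matrix.add_mul, Matrix.one_mul, Matrix.mul_one, Matrix.smul_mul, Matrix.mul_smul,
      hmm, hψx, hψe, hfe, hfx, smul_zero, zero_smul, one_smul, smul_add, add_zero, zero_add, smul_smul]
    match_scalars <;> first | ring1 | (field_simp; linear_combination -hst) | (field_simp; linear_combination hst)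

end Cfsg.Agent.Lie.SLComm
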