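import Mathlib
import Cfsg.Agent.Lib.Lie.SLComm.Blk

/-!
Unreduced Hessenberg matrices: merging coprime companion blocks, Jordan blocks and
the shearing of two nilpotent chains.
-/

set_option autoImplicit false
set_option linter.unusedSectionVars false

namespace Cfsg.Agent.Lie.SLComm

open Matrix Polynomial

universe u

variable {F : Type u} [Field F]

section General

variable {ι κ : Type*} [Fintype ι] [DecidableEq ι] [Fintype κ] [DecidableEq κ]

theorem Sim.charpoly_eq {A : Matrix ι ι F} {B : Matrix κ κ F} : Sim A B → A.charpoly = B.charpoly := by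
  rintro ⟨P, Q, h1, h2, rfl⟩
  have hc : Fintype.card ι = Fintype.card κ := by
    let e : (κ → F) ≃ₗ[F] (ι → F) := LinearEquiv.ofLinear P.mulVecLin Q.mulVecLin
      (by rw [← Matrix.mulVecLin_mul, h1, Matrix.mulVecLin_one]) (by rw [← Matrix.mulVecLin_mul, h2, Matrix.mulVecLin_one])
    simpa using e.finrank_eq.symm
  let e := Fintype.equivOfCardEq hc
  have h := Matrix.charpoly_mul_comm (((P * B).submatrix id e)) (Q.submatrix e id)
  rw [Matrix.submatrix_mul_equiv, Matrix.submatrix_id_id, ← Matrix.submatrix_mul _ _ _ id _ Function.bijective_id,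
    show Q * (P * B) = B by rw [← Matrix.mul_assoc, h2, Matrix.one_mul]] at h
  rw [h]
  exact Matrix.charpoly_reindex e.symm B

/-- Block triangular matrices with coprime characteristic polynomials split. -/
theorem sim_fromBlocks_coprime {A : Matrix ι ι F} {B : Matrix ι κ F} {D : Matrix κ κ F}
    (h : IsCoprime A.charpoly D.charpoly) : Sim (fromBlocks A B 0 D) (fromBlocks A 0 0 D) := by
  obtain ⟨x, y, hxy⟩ := h
  refine sim_fromBlocks_split D.charpoly ?_ ?_
  · rw [Matrix.aeval_self_charpoly]; exact IsNilpotent.zero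
  · have h := congrArg (aeval A) hxy
    rw [map_add, map_mul, map_mul, Matrix.aeval_self_charpoly, mul_zero, zero_add, map_one] at h
    exact IsUnit.of_mul_eq_one (aeval A y) (mul_eq_one_comm.1 h)

theorem sim_empty_left (A : Matrix (Fin 0) (Fin 0) F) (B : Matrix κ κ F) : Sim B (fromBlocks A 0 0 B) := by
  refine (sim_reindex (Equiv.emptySum (Fin 0) κ).symm B).trans ?_
  rw [show Matrix.reindex (Equiv.emptySum (Fin 0) κ).symm (Equiv.emptySum (Fin 0) κ).symm B = fromBlocks A 0 0 B by
    ext i j
    rcases i with i | i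
    · exact i.elim0
    rcases j with j | j
    · exact j.elim0
    rfl]
  exact Sim.refl _

theorem sim_comm_lower {A : Matrix ι ι F} {C : Matrix κ ι F} {D : Matrix κ κ F} :
    Sim (fromBlocks A 0 C D) (fromBlocks D C 0 A) := by
  refine (sim_reindex (Equiv.sumComm ι κ) _).trans ?_
  rw [show Matrix.reindex (Equiv.sumComm ι κ) (Equiv.sumComm ι κ) (fromBlocks A 0 C D) = fromBlocks D C 0 A by
    ext i j; cases i <;> cases j <;> rfl]
  exact Sim.refl _

theorem Sim.fromBlocks_swap {μ ν : Type*} [Fintype μ] [DecidableEq μ] [Fintype ν] [DecidableEq ν]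
    (A : Matrix ι ι F) (B : Matrix κ κ F) (C : Matrix μ μ F) (D : Matrix ν ν F) :
    Sim (fromBlocks (fromBlocks A 0 0 B) 0 0 (fromBlocks C 0 0 D))
      (fromBlocks (fromBlocks A 0 0 D) 0 0 (fromBlocks C 0 0 B)) := by
  let e : (ι ⊕ κ) ⊕ μ ⊕ ν ≃ (ι ⊕ ν) ⊕ μ ⊕ κ :=
    { toFun := fun x => match x with
        | .inl (.inl i) => .inl (.inl i)
        | .inl (.inr k) => .inr (.inr k)
        | .inr (.inl m) => .inr (.inl m)
        | .inr (.inr v) => .inl (.inr v)
      invFun := fun x => match x with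
        | .inl (.inl i) => .inl (.inl i)
        | .inl (.inr v) => .inr (.inr v)
        | .inr (.inl m) => .inr (.inl m)
        | .inr (.inr k) => .inl (.inr k)
      left_inv := by rintro ((i | i) | (i | i)) <;> rfl
      right_inv := by rintro ((i | i) | (i | i)) <;> rfl }
  refine (sim_reindex e _).trans ?_
  rw [show Matrix.reindex e e (fromBlocks (fromBlocks A 0 0 B) 0 0 (fromBlocks C 0 0 D)) =
      fromBlocks (fromBlocks A 0 0 D) 0 0 (fromBlocks C 0 0 B) by
    ext i j
    rcases i with (i | i) | (i | i) <;> rcases j with (j | j) | (j | j) <;> rfl]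
  exact Sim.refl _

end General

variable {m n : ℕ}

/-- Unreduced lower Hessenberg. -/
def Hess (M : Matrix (Fin n) (Fin n) F) : Prop :=
  (∀ i j : Fin n, (j : ℕ) + 1 < i → M i j = 0) ∧ ∀ i k : Fin n, (i : ℕ) = (k : ℕ) + 1 → M i k ≠ 0

theorem Hess.sim {M : Matrix (Fin n) (Fin n) F} (h : Hess M) : Sim M (cmp n M.charpoly) := by
  rcases Nat.eq_zero_or_pos n with rfl | h0
  · exact ⟨1, 1, one_mul 1, one_mul 1, Matrix.ext fun i => i.elim0⟩
  exact sim_cmp (Fintype.card_fin n) (hessenberg_independent M h0 h.1 h.2)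

theorem hess_cmp (f : F[X]) : Hess (cmp n f) :=
  ⟨cmp_low f, fun i k h => by rw [cmp_sub f i k h]; exact one_ne_zero⟩

/-- Two unreduced Hessenberg blocks glued by a corner entry. -/
theorem sim_glue {A : Matrix (Fin m) (Fin m) F} {B : Matrix (Fin n) (Fin n) F} (hA : Hess A) (hB : Hess B) :
    ∃ R : Matrix (Fin n) (Fin m) F, Sim (fromBlocks A 0 R B) (cmp (m + n) (A.charpoly * B.charpoly)) := by
  let R : Matrix (Fin n) (Fin m) F := Matrix.of fun i j => if (i : ℕ) = 0 ∧ (j : ℕ) + 1 = m then 1 else 0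
  refine ⟨R, ?_⟩
  let M : Matrix (Fin (m + n)) (Fin (m + n)) F := Matrix.reindex finSumFinEquiv finSumFinEquiv (fromBlocks A 0 R B)
  have hM : Hess M := by
    refine ⟨fun i j hij => ?_, fun i j hij => ?_⟩
    · revert hij
      refine Fin.addCases (fun i => ?_) (fun i => ?_) i <;> refine Fin.addCases (fun j => ?_) (fun j => ?_) j <;>
        intro hij <;> simp at hij <;> simp [M]
      all_goals first
        | exact hA.1 i j hij
        | exact hB.1 i j (by omega)
        | (simp [R]; intros; omega)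
    · revert hij
      refine Fin.addCases (fun i => ?_) (fun i => ?_) i <;> refine Fin.addCases (fun j => ?_) (fun j => ?_) j <;>
        intro hij <;> simp at hij <;> simp [M]
      · exact hA.2 i j hij
      · omega
      · have := j.2
        simp [R, show (i : ℕ) = 0 by omega, show (j : ℕ) + 1 = m by omega]
      · exact hB.2 i j (by omega)
  have hchar : M.charpoly = A.charpoly * B.charpoly := by
    rw [Matrix.charpoly_reindex, Matrix.charpoly_fromBlocks_zero₁₂]
  have := hM.sim
  rw [hchar] at this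
  exact (sim_reindex finSumFinEquiv _).trans this

/-- Coprime companion blocks merge. -/
theorem sim_merge {A : Matrix (Fin m) (Fin m) F} {B : Matrix (Fin n) (Fin n) F} (hA : Hess A) (hB : Hess B)
    (h : IsCoprime A.charpoly B.charpoly) :
    Sim (fromBlocks A 0 0 B) (cmp (m + n) (A.charpoly * B.charpoly)) := by
  obtain ⟨R, hR⟩ := sim_glue hA hB
  have hsplit : Sim (fromBlocks A 0 R B) (fromBlocks A 0 0 B) :=
    (sim_comm_lower.trans (sim_fromBlocks_coprime h.symm)).trans (sim_blocks_comm B A)
  exact hsplit.symm.trans hR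

theorem sim_merge_cmp {f g : F[X]} (hf : f.Monic) (hg : g.Monic) (h : IsCoprime f g) :
    Sim (fromBlocks (cmp f.natDegree f) 0 0 (cmp g.natDegree g)) (cmp (f * g).natDegree (f * g)) := by
  rw [hf.natDegree_mul hg]
  have := sim_merge (hess_cmp (n := f.natDegree) f) (hess_cmp (n := g.natDegree) g)
    (by rw [charpoly_cmp f hf rfl, charpoly_cmp g hg rfl]; exact h)
  rwa [charpoly_cmp f hf rfl, charpoly_cmp g hg rfl] at this

/-- A Jordan block with ones below the diagonal; computable. -/
def Jb {R : Type*} [Zero R] [One R] (n : ℕ) (ε : R) : Matrix (Fin n) (Fin n) R :=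
  Matrix.of fun i j => if i = j then ε else if (i : ℕ) = (j : ℕ) + 1 then 1 else 0

theorem Jb_map {R S : Type*} [Semiring R] [Semiring S] (φ : R →+* S) (n : ℕ) (ε : R) :
    (Jb n ε).map φ = Jb n (φ ε) := by
  ext i j
  simp only [Matrix.map_apply, Jb, Matrix.of_apply]
  split_ifs <;> simp

theorem hess_Jb (n : ℕ) (ε : F) : Hess (Jb n ε) := by
  refine ⟨fun i j h => ?_, fun i j h => ?_⟩
  · have : i ≠ j := fun e => by subst e; omega
    simp [Jb, this, show (i : ℕ) ≠ (j : ℕ) + 1 by omega]
  · have : i ≠ j := fun e => by subst e; omega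
    simp [Jb, this, h]

theorem charpoly_Jb (n : ℕ) (ε : F) : (Jb n ε).charpoly = (X - C ε) ^ n := by
  rw [← Matrix.charpoly_transpose, Matrix.charpoly_of_isUpperTriangular _
    (show (Jb n ε).transpose.IsUpperTriangular from fun i j (h : j < i) => by
      have h' : (j : ℕ) < i := h
      simp [Jb, ne_of_lt h, show ¬ (j : ℕ) = (i : ℕ) + 1 by omega])]
  simp [Jb]

theorem det_Jb (n : ℕ) (ε : F) : (Jb n ε).det = ε ^ n := by
  rw [← Matrix.det_transpose, Matrix.det_of_isUpperTriangular (M := (Jb n ε).transpose)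
    (fun i j (h : j < i) => by
      have h' : (j : ℕ) < i := h
      simp [Jb, ne_of_lt h, show ¬ (j : ℕ) = (i : ℕ) + 1 by omega])]
  simp [Jb]

theorem sim_Jb {ε : F} {f : F[X]} {d : ℕ} (hf : f = (X - C ε) ^ d) (hd : n = d) :
    Sim (cmp n f) (Jb n ε) := by
  subst hd
  rw [hf, ← charpoly_Jb]
  exact (hess_Jb n ε).sim.symm

theorem Jb_eq (n : ℕ) (ε : F) : Jb n ε = ε • 1 + Jb n 0 := by
  ext i j
  by_cases h : i = j
  · simp [Jb, h]
  · simp [Jb, h, Matrix.one_apply_ne h]

/-- The nilpotent shear of a short chain into a long one. -/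
theorem nil_shear {a r l : ℕ} (hl : a ≤ l) (hr : 0 < r) :
    ∃ G : Matrix (Fin (a + r)) (Fin l) F,
      Sim (fromBlocks (Jb a (0 : F)) 0 0 (Jb (r + l) 0)) (fromBlocks (Jb (a + r) (0 : F)) G 0 (Jb l (0 : F))) := by
  rcases Nat.eq_zero_or_pos a with rfl | ha
  · refine ⟨Matrix.of fun i j => if (i : ℕ) = 0 ∧ (j : ℕ) + 1 = l then 1 else 0, ?_⟩
    refine (sim_empty_left (Jb 0 (0 : F)) (Jb (r + l) 0)).symm.trans ?_
    refine (sim_reindex (finCongr (show r + l = l + (0 + r) by omega)) _).trans ?_
    refine (sim_reindex finSumFinEquiv.symm _).trans ?_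
    refine (sim_reindex (Equiv.sumComm _ _) _).trans ?_
    rw [show Matrix.reindex (Equiv.sumComm _ _) (Equiv.sumComm _ _) (Matrix.reindex finSumFinEquiv.symm finSumFinEquiv.symm
        (Matrix.reindex (finCongr (show r + l = l + (0 + r) by omega)) (finCongr (show r + l = l + (0 + r) by omega))
          (Jb (r + l) (0 : F)))) = fromBlocks (Jb (0 + r) (0 : F))
        (Matrix.of fun (i : Fin (0 + r)) (j : Fin l) => if (i : ℕ) = 0 ∧ (j : ℕ) + 1 = l then 1 else 0) 0 (Jb l (0 : F)) by
      ext i j
      rcases i with i | i <;> rcases j with j | j <;> simp [Jb, Fin.ext_iff]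
      all_goals first
        | (split_ifs <;> first | rfl | omega)
        | (intros; omega)]
    exact Sim.refl _
  -- coordinates: short chain, top of the long chain, rest of the long chain
  let G₀ : Matrix (Fin a ⊕ Fin r) (Fin l) F :=
    Matrix.of (Sum.elim (fun _ _ => 0) fun i j => if (i : ℕ) = 0 ∧ (j : ℕ) + 1 = l then 1 else 0)
  let A : Matrix (Fin a ⊕ Fin r) (Fin a ⊕ Fin r) F := fromBlocks (Jb a (0 : F)) 0 0 (Jb r (0 : F))
  let Z : Matrix (Fin l) (Fin a ⊕ Fin r) F :=
    Matrix.of fun i => Sum.elim (fun j : Fin a => if (i : ℕ) + a = (j : ℕ) + l then 1 else 0) fun _ => 0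
  have step1 : Sim (fromBlocks (Jb a (0 : F)) 0 0 (Jb (r + l) 0)) (fromBlocks A G₀ 0 (Jb l (0 : F))) := by
    refine ((Sim.refl (Jb a (0 : F))).blocks ((sim_reindex (finCongr (show r + l = l + r by omega)) _).trans
      ((sim_reindex finSumFinEquiv.symm _).trans (sim_reindex (Equiv.sumComm _ _) _)))).trans ?_
    refine (sim_reindex (Equiv.sumAssoc _ _ _).symm _).trans ?_
    rw [show Matrix.reindex (Equiv.sumAssoc _ _ _).symm (Equiv.sumAssoc _ _ _).symm
        (fromBlocks (Jb a (0 : F)) 0 0 (Matrix.reindex (Equiv.sumComm _ _) (Equiv.sumComm _ _)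
          (Matrix.reindex finSumFinEquiv.symm finSumFinEquiv.symm
            (Matrix.reindex (finCongr (show r + l = l + r by omega)) (finCongr (show r + l = l + r by omega))
              (Jb (r + l) (0 : F)))))) = fromBlocks A G₀ 0 (Jb l (0 : F)) by
      ext i j
      rcases i with (i | i) | i <;> rcases j with (j | j) | j <;> simp [A, G₀, Jb, Fin.ext_iff]
      all_goals first
        | (split_ifs <;> first | rfl | omega)
        | (intros; omega)]
    exact Sim.refl _
  have hZG : Z * G₀ = 0 := by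
    ext i j
    simp [Matrix.mul_apply, Fintype.sum_sum_type, Z, G₀]
  have hcomm : Jb l (0 : F) * Z = Z * A := by
    ext i j
    rcases j with j | j
    · simp only [Matrix.mul_apply, Fintype.sum_sum_type, A, fromBlocks_apply₁₁, fromBlocks_apply₂₁, Z,
        Matrix.of_apply, Sum.elim_inl, Sum.elim_inr, Matrix.zero_apply, zero_mul, mul_zero, Finset.sum_const_zero,
        add_zero]
      rw [Finset.sum_eq_single ⟨(j : ℕ) + l - a, by omega⟩]
      · by_cases h : (j : ℕ) + 1 < a
        · rw [Finset.sum_eq_single ⟨(j : ℕ) + 1, h⟩]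
          · simp [Jb, Fin.ext_iff, show (j : ℕ) + l - a + a = j + l by omega]
            split_ifs <;> first | rfl | omega
          · intro k _ hk
            simp [Fin.ext_iff] at hk
            simp [Jb, Fin.ext_iff, hk]
          · simp
        · rw [Finset.sum_eq_zero]
          · simp [Jb, Fin.ext_iff]
            intros; omega
          · intro k _
            simp [Jb, Fin.ext_iff]
            intros; omega
      · intro k _ hk
        simp [Fin.ext_iff] at hk
        simp [show ¬ (k : ℕ) + a = j + l by omega]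
      · simp
    · simp [Matrix.mul_apply, Fintype.sum_sum_type, A, Z]
  have step2 : Sim (fromBlocks A G₀ 0 (Jb l (0 : F))) (fromBlocks (A + G₀ * Z) G₀ 0 (Jb l (0 : F))) := by
    refine ⟨fromBlocks 1 0 Z 1, fromBlocks 1 0 (-Z) 1, by simp [fromBlocks_multiply],
      by simp [fromBlocks_multiply], ?_⟩
    simp [fromBlocks_multiply, hZG, hcomm, Matrix.mul_add, Matrix.mul_neg, ← Matrix.mul_assoc]
  have step3 : Sim (A + G₀ * Z) (Jb (a + r) (0 : F)) := by
    refine (sim_reindex finSumFinEquiv _).trans ?_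
    rw [show Matrix.reindex finSumFinEquiv finSumFinEquiv (A + G₀ * Z) = Jb (a + r) (0 : F) by
      ext i j
      refine Fin.addCases (fun i => ?_) (fun i => ?_) i <;> refine Fin.addCases (fun j => ?_) (fun j => ?_) j <;>
        simp [A, G₀, Z, Matrix.mul_apply, Jb, Fin.ext_iff]
      · intros; omega
      · rw [Finset.sum_eq_single ⟨l - 1, by omega⟩]
        · simp only [show l - 1 + 1 = l by omega, and_true, ite_mul, one_mul, zero_mul]
          rw [if_neg (show ¬ (a + i : ℕ) = j by omega)]
          split_ifs <;> first | rfl | omega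
        · intro k _ hk
          simp [Fin.ext_iff] at hk
          simp [show ¬ (k : ℕ) + 1 = l by omega]
        · simp
      · split_ifs <;> first | rfl | omega]
    exact Sim.refl _
  obtain ⟨P, Q, h1, h2, e⟩ := step3
  refine ⟨Q * G₀, step1.trans (step2.trans ⟨fromBlocks P 0 0 1, fromBlocks Q 0 0 1, ?_, ?_, ?_⟩)⟩
  · simp [fromBlocks_multiply, h1]
  · simp [fromBlocks_multiply, h2]
  · simp [fromBlocks_multiply, ← e, ← Matrix.mul_assoc, h1]

/-- The shear for a common eigenvalue. -/
theorem jordan_shear {a r l : ℕ} (ε : F) (hl : a ≤ l) (hr : 0 < r) :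
    ∃ G : Matrix (Fin (a + r)) (Fin l) F,
      Sim (fromBlocks (Jb a ε) 0 0 (Jb (r + l) ε)) (fromBlocks (Jb (a + r) ε) G 0 (Jb l ε)) := by
  obtain ⟨G, hG⟩ := nil_shear (F := F) hl hr
  refine ⟨G, ?_⟩
  have h := hG.add_scalar ε
  simp only [← fromBlocks_one, fromBlocks_smul, fromBlocks_add, smul_zero, zero_add, ← Jb_eq] at h
  exact h

end Cfsg.Agent.Lie.SLComm
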