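import Mathlib
import Cfsg.Agent.Lib.Lie.SLComm.Basic

/-!
Central elements of the special linear group over a finite field as commutators.
-/

set_option autoImplicit false

namespace Cfsg.Agent.Lie.SLComm

open Matrix Polynomial

variable {F : Type*} [Field F] [Fintype F]

theorem exists_sum_two_squares (x : F) : ∃ a b : F, a ^ 2 + b ^ 2 = x := by
  classical
  by_cases h : ringChar F = 2
  · obtain ⟨r, hr⟩ := FiniteField.isSquare_of_char_two h x
    exact ⟨r, 0, by rw [hr]; ring⟩
  · obtain ⟨a, b, hab⟩ := FiniteField.exists_root_sum_quadratic (f := (X : F[X]) ^ 2) (g := X ^ 2 - C x)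
      (degree_X_pow 2) (degree_X_pow_sub_C (by norm_num) x) (FiniteField.odd_card_of_char_ne_two h)
    refine ⟨a, b, ?_⟩
    simp at hab
    linear_combination hab

/-- The square roots of minus one split the space evenly: the determinant of `c₀ + c₁ J`. -/
theorem det_add_smul_sqrt_neg_one {m k : ℕ} (hm : m = 2 * k) (h2 : (2 : F) ≠ 0) (J : Matrix (Fin m) (Fin m) F)
    (hJ : J * J = -1) (hs : Sim J (-J)) (c₀ c₁ : F) :
    (c₀ • 1 + c₁ • J).det = (c₀ ^ 2 + c₁ ^ 2) ^ k := by
  have hchar : J.charpoly = (X ^ 2 + 1) ^ k := by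
    obtain ⟨P, Q, h1, h2', e⟩ := hs.symm
    have hneg : (-J).charpoly = J.charpoly := by
      rw [e, Matrix.charpoly_mul_comm, ← Matrix.mul_assoc, h2', Matrix.one_mul]
    have hmap : (C : F →+* F[X]).mapMatrix J * (C : F →+* F[X]).mapMatrix J = -1 := by
      rw [← map_mul, hJ, map_neg, map_one]
    have hprod : J.charpoly * (-J).charpoly = ((X ^ 2 + 1) ^ k) ^ 2 := by
      rw [Matrix.charpoly, Matrix.charpoly, ← Matrix.det_mul, ← pow_mul, mul_comm k, ← hm]
      have : J.charmatrix * (-J).charmatrix = ((X : F[X]) ^ 2 + 1) • (1 : Matrix (Fin m) (Fin m) F[X]) := by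
        rw [Matrix.charmatrix, Matrix.charmatrix, map_neg, sub_neg_eq_add, Matrix.scalar_apply,
          ← Matrix.smul_one_eq_diagonal, sub_mul, mul_add, mul_add, Matrix.smul_mul, Matrix.one_mul,
          Matrix.smul_mul, Matrix.one_mul, Matrix.mul_smul, Matrix.mul_one, hmap, smul_smul, add_smul, one_smul,
          pow_two]
        abel
      rw [this, Matrix.det_smul, Matrix.det_one, Fintype.card_fin, mul_one]
    rw [hneg, ← pow_two] at hprod
    rcases sq_eq_sq_iff_eq_or_eq_neg.1 hprod with h | h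
    · exact h
    · exfalso
      have hlead := congrArg Polynomial.leadingCoeff h
      have hmon : ((X : F[X]) ^ 2 + 1).Monic := by
        have := monic_X_pow_add_C (1 : F) (show 2 ≠ 0 by norm_num)
        simpa using this
      rw [(Matrix.charpoly_monic J).leadingCoeff, leadingCoeff_neg, (hmon.pow k).leadingCoeff] at hlead
      exact h2 (by linear_combination hlead)
  by_cases hc : c₁ = 0
  · subst hc
    rw [zero_smul, add_zero, Matrix.det_smul, Matrix.det_one, Fintype.card_fin, mul_one, hm, pow_mul]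
    ring
  · have e : c₀ • 1 + c₁ • J = (-c₁) • (Matrix.scalar (Fin m) (-c₀ / c₁) - J) := by
      rw [Matrix.scalar_apply, ← Matrix.smul_one_eq_diagonal, smul_sub, smul_smul]
      match_scalars <;> field_simp
    rw [e, Matrix.det_smul, Fintype.card_fin, ← Matrix.eval_charpoly, hchar, eval_pow, hm, pow_mul, ← mul_pow]
    congr 1
    simp only [eval_add, eval_pow, eval_X, eval_one]
    field_simp

/-- Scalars of determinant one are commutators. -/
theorem com_scalar {m : ℕ} (hm0 : 0 < m) (lam : F) (hl : lam ^ m = 1) :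
    Com (lam • (1 : Matrix (Fin m) (Fin m) F)) := by
  classical
  let a₀ : Matrix (Fin m) (Fin m) F := Matrix.diagonal fun i => lam ^ (i : ℕ)
  let f : F[X] := X ^ m + C ((-1) ^ m)
  have hfm : f.Monic := monic_X_pow_add_C _ hm0.ne'
  have hfd : f.natDegree = m := natDegree_X_pow_add_C
  let b : Matrix (Fin m) (Fin m) F := cmp m f
  have hb : b.det = 1 := by
    rw [det_cmp f hfm hfd]
    simp only [f, coeff_add, coeff_X_pow, coeff_C, hm0.ne, if_true, if_false, zero_add, ← mul_pow]
    norm_num
  have hab : a₀ * b = lam • (b * a₀) := by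
    ext i j
    rw [Matrix.smul_apply, Matrix.diagonal_mul, Matrix.mul_diagonal, smul_eq_mul]
    by_cases hj : (j : ℕ) + 1 < m
    · by_cases hi : (i : ℕ) = (j : ℕ) + 1
      · simp only [b, cmp, Matrix.of_apply, hj, hi, if_true]
        ring
      · simp [b, cmp, hj, hi]
    · by_cases hi : (i : ℕ) = 0
      · have hjm : (j : ℕ) = m - 1 := by omega
        rw [hi, hjm, pow_zero, one_mul, mul_left_comm, ← pow_succ', Nat.sub_add_cancel hm0, hl, mul_one]
      · have : f.coeff (i : ℕ) = 0 := by
          simp only [f, coeff_add, coeff_X_pow, coeff_C, hi, i.2.ne, if_false, add_zero]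
        simp [b, cmp, hj, this]
  have hd2 : a₀.det * a₀.det = 1 := by
    rw [Matrix.det_diagonal, Finset.prod_pow_eq_pow_sum, Fin.sum_univ_eq_sum_range (fun i => i), ← pow_add,
      ← two_mul, mul_comm, Finset.sum_range_id_mul_two, pow_mul, hl, one_pow]
  rcases mul_self_eq_one_iff.1 hd2 with h | h
  · refine ⟨a₀, b, h, hb, ?_⟩
    rw [Matrix.smul_mul, Matrix.smul_mul, Matrix.one_mul, hab]
  by_cases h1 : (-1 : F) = 1
  · refine ⟨a₀, b, h.trans h1, hb, ?_⟩
    rw [Matrix.smul_mul, Matrix.smul_mul, Matrix.one_mul, hab]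
  have h2 : (2 : F) ≠ 0 := fun e => h1 (by linear_combination -e)
  have hdet : a₀.det = lam ^ (∑ i ∈ Finset.range m, i) := by
    rw [Matrix.det_diagonal, Finset.prod_pow_eq_pow_sum, Fin.sum_univ_eq_sum_range (fun i => i)]
  rcases Nat.even_or_odd m with ⟨k, hk⟩ | ⟨k, hk⟩
  swap
  · exfalso
    refine h1 (h.symm.trans ?_)
    have hs : (∑ i ∈ Finset.range m, i) = m * k := by
      have := Finset.sum_range_id_mul_two m
      rw [show m - 1 = 2 * k by omega] at this
      linarith
    rw [hdet, hs, pow_mul, hl, one_pow]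
  have hlk : lam ^ k = -1 := by
    have hs : (∑ i ∈ Finset.range m, i) = k * (m - 1) := by
      have := Finset.sum_range_id_mul_two m
      rw [show m * (m - 1) = k * (m - 1) * 2 by rw [hk]; ring] at this
      omega
    have hsq : lam ^ k * lam ^ k = 1 := by rw [← pow_add, ← hk, hl]
    rcases mul_self_eq_one_iff.1 hsq with e | e
    · rw [hdet, hs, pow_mul, e, one_pow] at h
      exact absurd h.symm h1
    · exact e
  let J := b ^ k
  have hJ : J * J = -1 := by
    have h0 := Matrix.aeval_self_charpoly b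
    rw [charpoly_cmp f hfm hfd] at h0
    simp only [f, map_add, map_pow, aeval_X, aeval_C, map_neg, map_one] at h0
    rw [(show Even m from ⟨k, hk⟩).neg_one_pow] at h0
    rw [show J * J = b ^ m by rw [← pow_add, show k + k = m by omega]]
    exact eq_neg_of_add_eq_zero_left h0
  have haJ : ∀ j : ℕ, a₀ * b ^ j = lam ^ j • (b ^ j * a₀) := by
    intro j
    induction j with
    | zero => simp
    | succ j ih =>
      rw [pow_succ, ← Matrix.mul_assoc, ih, Matrix.smul_mul, Matrix.mul_assoc, hab, Matrix.mul_smul, smul_smul,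
        ← pow_succ, Matrix.mul_assoc]
  have hsim : Sim (-J) J := by
    refine sim_of_conj (P := a₀) (by rw [h]; exact isUnit_one.neg) ?_
    rw [haJ k, hlk, Matrix.neg_mul, neg_smul, one_smul]
  obtain ⟨c₀, c₁, hc⟩ := exists_sum_two_squares lam
  let z : Matrix (Fin m) (Fin m) F := c₀ • 1 + c₁ • J
  have hzb : z * b = b * z := by
    simp only [z, Matrix.add_mul, Matrix.mul_add, Matrix.smul_mul, Matrix.mul_smul, Matrix.one_mul, Matrix.mul_one, J,
      (Commute.pow_self b k).eq]
  refine ⟨a₀ * z, b, ?_, hb, ?_⟩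
  · rw [Matrix.det_mul, h, det_add_smul_sqrt_neg_one (show m = 2 * k by omega) h2 J hJ hsim.symm, hc, hlk]
    ring
  · rw [Matrix.smul_mul, Matrix.smul_mul, Matrix.one_mul, Matrix.mul_assoc a₀, hzb, ← Matrix.mul_assoc,
      ← Matrix.mul_assoc, hab, Matrix.smul_mul]

end Cfsg.Agent.Lie.SLComm
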