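import Mathlib
import Cfsg.Agent.Lib.Lie.SLComm.Blk

/-!
One step of Sourour's triangular factorisation over a field with at least four elements: a first basis
vector and a first coordinate keeping the Schur complement non-scalar and away from the transvections.
-/

set_option autoImplicit false
set_option linter.unusedSectionVars false

namespace Cfsg.Agent.Lie.SLComm

open Matrix Polynomial Module

variable {F : Type*} [Field F] [Fintype F] {n : ℕ}

/-- Finitely many proper subspaces, at most as many as the scalars, do not cover. -/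
theorem exists_not_mem {V : Type*} [AddCommGroup V] [Module F V] [Finite V]
    (L : List (Submodule F V)) (hlen : L.length ≤ Fintype.card F) (hne : ∀ W ∈ L, W ≠ ⊤) :
    ∃ x : V, ∀ W ∈ L, x ∉ W := by
  classical
  haveI : Fintype V := Fintype.ofFinite V
  by_contra hcov
  push Not at hcov
  set q := Fintype.card F with hq
  set d := finrank F V with hd
  have hd0 : L ≠ [] := by
    rintro rfl
    obtain ⟨W, hW, -⟩ := hcov 0
    exact (List.not_mem_nil hW)
  obtain ⟨W₀, hW₀⟩ := List.exists_mem_of_ne_nil L hd0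
  have hd1 : 0 < d := lt_of_le_of_lt (Nat.zero_le _) (Submodule.finrank_lt (hne W₀ hW₀))
  have hsub : (Finset.univ : Finset V).erase 0 ⊆
      L.toFinset.biUnion fun W => ((W : Set V).toFinset).erase 0 := by
    intro x hx
    obtain ⟨W, hW, hxW⟩ := hcov x
    simp only [Finset.mem_biUnion, List.mem_toFinset]
    exact ⟨W, hW, Finset.mem_erase.2 ⟨(Finset.mem_erase.1 hx).1, by simpa using hxW⟩⟩
  have hle := (Finset.card_le_card hsub).trans (Finset.card_biUnion_le_card_mul _ _ (q ^ (d - 1) - 1) ?_)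
  · rw [Finset.card_erase_of_mem (Finset.mem_univ _), Finset.card_univ,
      Module.card_eq_pow_finrank (K := F) (V := V), ← hd, ← hq] at hle
    have h2 : L.toFinset.card ≤ q := (List.toFinset_card_le L).trans hlen
    have h3 := hle.trans (Nat.mul_le_mul_right _ h2)
    have h4 : q ^ d = q * q ^ (d - 1) := by rw [← pow_succ', Nat.sub_add_cancel hd1]
    have hq1 : 1 < q := Fintype.one_lt_card
    have h5 : 1 ≤ q ^ (d - 1) := Nat.one_le_pow _ _ (by omega)
    rw [h4, Nat.mul_sub, mul_one] at h3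
    have h6 : q ≤ q * q ^ (d - 1) := Nat.le_mul_of_pos_right q h5
    omega
  · intro W hW
    rw [Finset.card_erase_of_mem (by simp)]
    refine Nat.sub_le_sub_right ?_ 1
    rw [Set.toFinset_card, ← Nat.card_eq_fintype_card]
    show Nat.card W ≤ _
    rw [Module.natCard_eq_pow_finrank (K := F), Nat.card_eq_fintype_card]
    exact Nat.pow_le_pow_right (Fintype.card_pos) (Nat.le_sub_one_of_lt (Submodule.finrank_lt (hne W (List.mem_toFinset.1 hW))))

/-- A vector outside two proper subspaces which is not an eigenvector. -/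
theorem exists_not_eigen {V : Type*} [AddCommGroup V] [Module F V] [Finite V] (h4 : 4 ≤ Fintype.card F)
    (T : V →ₗ[F] V) (hT : ∀ a : F, T ≠ a • LinearMap.id) (H P : Submodule F V) (hH : H ≠ ⊤) (hP : P ≠ ⊤) :
    ∃ x : V, x ∉ H ∧ x ∉ P ∧ ∀ a : F, T x ≠ a • x := by
  classical
  by_contra hall
  push Not at hall
  obtain ⟨x, hx⟩ := exists_not_mem [H, P] (by simp; omega) (by simp [hH, hP])
  obtain ⟨hxH, hxP⟩ : x ∉ H ∧ x ∉ P := ⟨hx H (by simp), hx P (by simp)⟩
  obtain ⟨a, ha⟩ := hall x hxH hxP
  have hgood : ∀ y : V, ∃ t : F, t ≠ 0 ∧ x + t • y ∉ H ∧ x + t • y ∉ P := by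
    intro y
    by_contra hno
    push Not at hno
    have hone : ∀ (W : Submodule F V), x ∉ W → ∀ s t : F, x + s • y ∈ W → x + t • y ∈ W → s = t := by
      intro W hxW s t hs ht
      by_contra hne
      have h1 : (s - t) • y ∈ W := by
        have := W.sub_mem hs ht
        rwa [add_sub_add_left_eq_sub, ← sub_smul] at this
      have h2 : y ∈ W := by
        have := W.smul_mem (s - t)⁻¹ h1
        rwa [smul_smul, inv_mul_cancel₀ (sub_ne_zero.2 hne), one_smul] at this
      exact hxW (by simpa using W.sub_mem hs (W.smul_mem s h2))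
    let A : Finset F := Finset.univ.filter fun t => x + t • y ∈ H
    let B : Finset F := Finset.univ.filter fun t => x + t • y ∈ P
    have hcard : (Finset.univ : Finset F).erase 0 ⊆ A ∪ B := by
      intro t ht
      simp only [A, B, Finset.mem_union, Finset.mem_filter, Finset.mem_univ, true_and]
      by_cases h : x + t • y ∈ H
      · exact Or.inl h
      · exact Or.inr (hno t (Finset.mem_erase.1 ht).1 h)
    have hA : A.card ≤ 1 := Finset.card_le_one.2 fun s hs t ht =>
      hone H hxH s t (by simpa [A] using hs) (by simpa [A] using ht)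
    have hB : B.card ≤ 1 := Finset.card_le_one.2 fun s hs t ht =>
      hone P hxP s t (by simpa [B] using hs) (by simpa [B] using ht)
    have := (Finset.card_le_card hcard).trans (Finset.card_union_le A B)
    rw [Finset.card_erase_of_mem (Finset.mem_univ _), Finset.card_univ] at this
    omega
  -- vectors outside both subspaces share the eigenvalue
  have hsame : ∀ y, y ∉ H → y ∉ P → T y = a • y := by
    intro y hyH hyP
    obtain ⟨b, hb⟩ := hall y hyH hyP
    obtain ⟨t, ht, htH, htP⟩ := hgood y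
    obtain ⟨c, hc⟩ := hall _ htH htP
    rw [map_add, map_smul, ha, hb, smul_add, smul_smul, smul_smul] at hc
    have h : (a - c) • x = (t * (c - b)) • y := by
      linear_combination (norm := module) hc
    by_cases hac : a = c
    · subst hac
      rw [sub_self, zero_smul, eq_comm, smul_eq_zero, mul_eq_zero, or_iff_right ht] at h
      rcases h with h | h
      · rw [hb, sub_eq_zero.1 h]
      · rw [h, map_zero, smul_zero]
    · have hxy : x = ((a - c)⁻¹ * (t * (c - b))) • y := by
        rw [← smul_smul, ← h, smul_smul, inv_mul_cancel₀ (sub_ne_zero.2 hac), one_smul]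
      set k := (a - c)⁻¹ * (t * (c - b))
      have hk : k ≠ 0 := fun e => hxH (by rw [hxy, e, zero_smul]; exact H.zero_mem)
      have e : k • T y = k • (a • y) := by
        rw [← map_smul, ← hxy, ha, hxy, smul_comm]
      exact smul_right_injective V hk e
  refine hT a (LinearMap.ext fun y => ?_)
  obtain ⟨t, ht, htH, htP⟩ := hgood y
  have h := hsame _ htH htP
  rw [map_add, map_smul, ha, smul_add, smul_comm a t] at h
  exact smul_right_injective V ht (add_left_cancel h)

/-- The invariant of the induction. -/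
def Inv (S : Matrix (Fin n) (Fin n) F) : Prop :=
  S.det = 1 ∧ 2 ≤ (S - 1).rank ∧ ∀ a : F, S ≠ a • 1

theorem exists_basis_matrix (e : Fin (n + 1) → F) (φ : Fin (n + 1) → F) (hφe : φ ⬝ᵥ e = 1) :
    ∃ P Q : Matrix (Fin (n + 1)) (Fin (n + 1)) F, P * Q = 1 ∧ Q * P = 1 ∧ (∀ i, P i 0 = e i) ∧ (∀ j, Q 0 j = φ j) := by
  obtain ⟨k, hk⟩ : ∃ k, e k ≠ 0 := by
    by_contra h
    push Not at h
    simp [dotProduct, h] at hφe
  let σ : Fin n → Fin (n + 1) := k.succAbove
  let P : Matrix (Fin (n + 1)) (Fin (n + 1)) F :=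
    Matrix.of fun i => Fin.cons (e i) fun j => (Pi.single (σ j) 1 : Fin (n + 1) → F) i - φ (σ j) * e i
  let Q : Matrix (Fin (n + 1)) (Fin (n + 1)) F :=
    Matrix.of (Fin.cons φ fun j l => (Pi.single (σ j) 1 : Fin (n + 1) → F) l -
      e (σ j) / e k * (Pi.single k 1 : Fin (n + 1) → F) l)
  have hσk : ∀ j, σ j ≠ k := fun j => Fin.succAbove_ne k j
  have hQP : Q * P = 1 := by
    ext i j
    simp only [dotProduct] at hφe
    refine Fin.cases ?_ (fun i' => ?_) i <;> refine Fin.cases ?_ (fun j' => ?_) j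
    · simp [Q, P, Matrix.mul_apply, hφe]
    · simp [Q, P, Matrix.mul_apply, mul_sub, Finset.sum_sub_distrib, Pi.single_apply,
        Ne.symm (Fin.succ_ne_zero _), show ∀ l, φ l * (φ (σ j') * e l) = φ (σ j') * (φ l * e l) from
          fun l => by ring, ← Finset.mul_sum, hφe]
    · simp [Q, P, Matrix.mul_apply, sub_mul, Finset.sum_sub_distrib, Pi.single_apply, Fin.succ_ne_zero,
        mul_assoc, ← Finset.mul_sum, div_mul_cancel₀ _ hk]
    · simp [Q, P, Matrix.mul_apply, sub_mul, mul_sub, Finset.sum_sub_distrib, Pi.single_apply, Matrix.one_apply,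
        Fin.succ_inj, (Fin.succAbove_right_injective (p := k)).eq_iff, hσk, Ne.symm (hσk _), σ]
      field_simp
      ring_nf
      simp [eq_comm]
  exact ⟨P, Q, mul_eq_one_comm.1 hQP, hQP, fun i => rfl, fun j => rfl⟩

theorem mem_range_of_rank {D : Matrix (Fin n) (Fin n) F} (h : 2 ≤ D.rank) (w : Fin n → F) :
    ∃ i ∈ LinearMap.range D.mulVecLin, i ∉ Submodule.span F {w} := by
  by_contra hno
  push Not at hno
  have h1 := (Submodule.finrank_mono (show LinearMap.range D.mulVecLin ≤ _ from hno)).trans (finrank_span_le_card ({w} : Set (Fin n → F)))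
  simp [Matrix.rank] at h h1
  omega

/-- The choice of the coordinate: value one at `e`, zero at `w`, avoiding given vectors and given exceptions. -/
theorem exists_functional (h4 : 4 ≤ Fintype.card F) {e w : Fin (n + 2) → F} (hw : w ≠ 0)
    (hew : ∀ a : F, e ≠ a • w) (L : List (Fin (n + 2) → F)) (hL : L.length ≤ 3)
    (hLw : ∀ x ∈ L, ∀ a : F, x ≠ a • w) (bad : F → (Fin (n + 2) → F) → Prop)
    (hbad : ∀ μ φ, bad μ φ → μ ≠ 1 ∧ μ ^ (n + 1) = 1)
    (huniq : ∀ μ φ φ', bad μ φ → bad μ φ' → φ ⬝ᵥ e = 1 → φ' ⬝ᵥ e = 1 → φ = φ') :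
    ∃ φ : Fin (n + 2) → F, φ ⬝ᵥ e = 1 ∧ φ ⬝ᵥ w = 0 ∧ (∀ x ∈ L, φ ⬝ᵥ x ≠ 0) ∧ (1 ≤ n → ∀ μ, ¬ bad μ φ) := by
  classical
  set q := Fintype.card F with hq
  have hind : LinearIndependent F ![e, w] := by
    rw [LinearIndependent.pair_iff]
    intro a b hab
    by_cases ha : a = 0
    · subst ha
      simp only [zero_smul, zero_add, smul_eq_zero] at hab
      exact ⟨rfl, hab.resolve_right hw⟩
    · exact absurd (show e = (-(a⁻¹ * b)) • w by
        have := congrArg (a⁻¹ • ·) hab
        simp only [smul_add, smul_smul, inv_mul_cancel₀ ha, one_smul, smul_zero] at this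
        rw [neg_smul]; exact eq_neg_of_add_eq_zero_left this) (hew _)
  let M : Matrix (Fin 2) (Fin (n + 2)) F := Matrix.of ![e, w]
  have hMrank : M.rank = 2 := by
    have h := LinearIndependent.rank_matrix (M := M) hind
    simpa using h
  have hsurj : Function.Surjective M.mulVecLin := by
    rw [← LinearMap.range_eq_top]
    refine Submodule.eq_top_of_finrank_eq ?_
    rw [← Matrix.rank, hMrank]
    simp
  have hker : finrank F (LinearMap.ker M.mulVecLin) = n := by
    have h := LinearMap.finrank_range_add_finrank_ker M.mulVecLin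
    rw [← Matrix.rank, hMrank] at h
    simp at h
    omega
  obtain ⟨φ₀, hφ₀⟩ := hsurj ![1, 0]
  have hmul : ∀ φ : Fin (n + 2) → F, M.mulVecLin φ = ![φ ⬝ᵥ e, φ ⬝ᵥ w] := by
    intro φ
    ext i
    fin_cases i <;> simp [M, Matrix.mulVec, dotProduct_comm]
  let A : Finset (Fin (n + 2) → F) := Finset.univ.filter fun φ => φ ⬝ᵥ e = 1 ∧ φ ⬝ᵥ w = 0
  have hAmem : ∀ φ, φ ∈ A ↔ φ ⬝ᵥ e = 1 ∧ φ ⬝ᵥ w = 0 := fun φ => by simp [A]
  have hA : q ^ n ≤ A.card := by
    have h : Nat.card (LinearMap.ker M.mulVecLin) = q ^ n := by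
      rw [Module.natCard_eq_pow_finrank (K := F), hker, Nat.card_eq_fintype_card]
    rw [← h, ← Nat.card_eq_finsetCard]
    refine Nat.card_le_card_of_injective (fun x => ⟨φ₀ + x.1, ?_⟩) ?_
    · rw [hAmem]
      have h1 := hmul (φ₀ + x.1)
      rw [map_add, hφ₀, LinearMap.mem_ker.1 x.2, add_zero] at h1
      exact ⟨(congrFun h1 0).symm, (congrFun h1 1).symm⟩
    · intro x y h
      exact Subtype.ext (add_left_cancel (congrArg Subtype.val h))
  have hzero : ∀ x ∈ L, q * (A.filter fun φ => φ ⬝ᵥ x = 0).card ≤ A.card := by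
    intro x hx
    by_cases hxs : ∃ a b : F, x = a • e + b • w
    · obtain ⟨a, b, rfl⟩ := hxs
      have ha : a ≠ 0 := fun h => hLw _ hx b (by rw [h, zero_smul, zero_add])
      rw [Finset.filter_false_of_mem, Finset.card_empty, mul_zero]
      · exact Nat.zero_le _
      · intro φ hφ
        rw [hAmem] at hφ
        simp [dotProduct_add, dotProduct_smul, hφ.1, hφ.2, ha]
    · push Not at hxs
      obtain ⟨ψ, hψe, hψw, hψx⟩ : ∃ ψ : Fin (n + 2) → F, ψ ⬝ᵥ e = 0 ∧ ψ ⬝ᵥ w = 0 ∧ ψ ⬝ᵥ x ≠ 0 := by
        let N : Matrix (Fin 3) (Fin (n + 2)) F := Matrix.of ![e, w, x]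
        have hind3 : LinearIndependent F ![e, w, x] := by
          rw [Fintype.linearIndependent_iff]
          intro g hg
          simp [Fin.sum_univ_three] at hg
          by_cases h2 : g 2 = 0
          · rw [h2, zero_smul, add_zero] at hg
            obtain ⟨h0, h1⟩ := LinearIndependent.pair_iff.1 hind (g 0) (g 1) hg
            intro i; fin_cases i <;> assumption
          · refine absurd ?_ (hxs (-(g 2)⁻¹ * g 0) (-(g 2)⁻¹ * g 1))
            have h3 := congrArg ((g 2)⁻¹ • ·) hg
            simp only [smul_add, smul_smul, inv_mul_cancel₀ h2, one_smul, smul_zero] at h3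
            rw [eq_neg_of_add_eq_zero_right h3]
            module
        have h := LinearIndependent.rank_matrix (M := N) hind3
        have hs : Function.Surjective N.mulVecLin := by
          rw [← LinearMap.range_eq_top]
          refine Submodule.eq_top_of_finrank_eq ?_
          rw [← Matrix.rank, h]
          simp
        obtain ⟨ψ, hψ⟩ := hs ![0, 0, 1]
        refine ⟨ψ, ?_, ?_, ?_⟩
        · simpa [N, Matrix.mulVec, dotProduct_comm] using congrFun hψ 0
        · simpa [N, Matrix.mulVec, dotProduct_comm] using congrFun hψ 1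
        · have := congrFun hψ 2
          simp [N, Matrix.mulVec, dotProduct_comm] at this
          rw [show ψ ⬝ᵥ x = 1 from (dotProduct_comm _ _).trans this]; exact one_ne_zero
      rw [hq, ← Finset.card_univ, ← Finset.card_product]
      refine Finset.card_le_card_of_injOn (fun p => p.2 + p.1 • ψ) ?_ ?_
      · intro p hp
        simp only [Finset.coe_product, Set.mem_prod, Finset.mem_coe, Finset.mem_filter, hAmem] at hp
        simp [hAmem, add_dotProduct, smul_dotProduct, hp.2.1.1, hp.2.1.2, hψe, hψw]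
      · intro p hp r hr hpr
        simp only [Finset.coe_product, Set.mem_prod, Finset.mem_coe, Finset.mem_filter] at hp hr
        have h1 := congrArg (· ⬝ᵥ x) hpr
        simp [add_dotProduct, smul_dotProduct, hp.2.2, hr.2.2] at h1
        have h2 : p.1 = r.1 := h1.resolve_right hψx
        have h3 : p.2 + p.1 • ψ = r.2 + r.1 • ψ := hpr
        rw [h2] at h3
        exact Prod.ext h2 (add_right_cancel h3)
  by_contra hno
  push Not at hno
  let Z : Finset F := if 1 ≤ n then Finset.univ.filter fun μ => μ ≠ 1 ∧ μ ^ (n + 1) = 1 else ∅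
  have hcover : A ⊆ (L.toFinset.biUnion fun x => A.filter fun φ => φ ⬝ᵥ x = 0) ∪
      Z.biUnion fun μ => A.filter fun φ => bad μ φ := by
    intro φ hφ
    rw [Finset.mem_union]
    by_cases hx : ∀ x ∈ L, φ ⬝ᵥ x ≠ 0
    · obtain ⟨h1, μ, hμ⟩ := hno φ ((hAmem φ).1 hφ).1 ((hAmem φ).1 hφ).2 hx
      refine Or.inr (Finset.mem_biUnion.2 ⟨μ, ?_, Finset.mem_filter.2 ⟨hφ, hμ⟩⟩)
      simp [Z, h1, hbad μ φ hμ]
    · push Not at hx
      obtain ⟨x, hx, hx0⟩ := hx
      exact Or.inl (Finset.mem_biUnion.2 ⟨x, List.mem_toFinset.2 hx, Finset.mem_filter.2 ⟨hφ, hx0⟩⟩)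
  have h1 := (Finset.card_le_card hcover).trans (Finset.card_union_le _ _)
  have h2 : (Z.biUnion fun μ => A.filter fun φ => bad μ φ).card ≤ Z.card * 1 :=
    Finset.card_biUnion_le_card_mul _ _ 1 fun μ _ => Finset.card_le_one.2 fun a ha b hb => by
      rw [Finset.mem_filter, hAmem] at ha hb
      exact huniq μ a b ha.2 hb.2 ha.1.1 hb.1.1
  have h3 : q * (L.toFinset.biUnion fun x => A.filter fun φ => φ ⬝ᵥ x = 0).card ≤ 3 * A.card := by
    refine (Nat.mul_le_mul_left q Finset.card_biUnion_le).trans ?_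
    rw [Finset.mul_sum]
    refine (Finset.sum_le_card_nsmul _ _ A.card fun x hx => hzero x (List.mem_toFinset.1 hx)).trans ?_
    rw [smul_eq_mul]
    exact Nat.mul_le_mul_right _ ((List.toFinset_card_le L).trans hL)
  -- the number of exceptional scalars
  have hZ : q * Z.card < (q - 3) * q ^ n := by
    rcases Nat.lt_or_ge n 1 with hn | hn
    · simp [Z, show ¬ 1 ≤ n by omega, show n = 0 by omega]
      omega
    · rcases Nat.lt_or_ge n 2 with hn2 | hn2
      · obtain rfl : n = 1 := by omega
        rw [pow_one, mul_comm (q - 3)]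
        refine Nat.mul_lt_mul_of_pos_left ?_ (by omega)
        have hZ1 : Z ⊆ ({-1} : Finset F) := by
          intro μ hμ
          simp [Z] at hμ
          rcases hμ.2 with h | h
          · exact absurd h hμ.1
          · simpa using h
        by_cases hq5 : q = 4
        · have h2F : (2 : F) = 0 := by
            have h4F : ((4 : ℕ) : F) = 0 := by rw [← hq5]; exact Nat.cast_card_eq_zero F
            have : (2 : F) * 2 = 0 := by norm_num at h4F ⊢; exact h4F
            exact mul_self_eq_zero.mp this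
          have : Z = ∅ := by
            ext μ
            simp only [Finset.notMem_empty, iff_false]
            intro hμ
            have h' := Finset.mem_singleton.1 (hZ1 hμ)
            simp [Z] at hμ
            exact hμ.1 (by rw [h']; linear_combination -h2F)
          rw [this, Finset.card_empty]
          omega
        · have := Finset.card_le_card hZ1
          rw [Finset.card_singleton] at this
          omega
      · have hZ2 : Z.card < q := by
          rw [hq, ← Finset.card_univ]
          refine Finset.card_lt_card (Finset.ssubset_univ_iff.2 fun h => ?_)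
          have h1 : (1 : F) ∈ Z := h ▸ Finset.mem_univ _
          simp [Z, show 1 ≤ n by omega] at h1
        calc q * Z.card < q * q := Nat.mul_lt_mul_of_pos_left hZ2 (by omega)
          _ = 1 * q ^ 2 := by ring
          _ ≤ (q - 3) * q ^ n := Nat.mul_le_mul (by omega) (Nat.pow_le_pow_right (by omega) hn2)
  have h5 := Nat.mul_le_mul_left q h1
  have h6 := Nat.mul_le_mul_left (q - 3) hA
  rw [Nat.mul_add] at h5
  have h7 := Nat.mul_le_mul_left q h2
  rw [mul_one] at h7
  have h8 : (q - 3) * A.card + 3 * A.card = q * A.card := by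
    rw [← Nat.add_mul, Nat.sub_add_cancel (by omega)]
  omega

/-- One step. -/
theorem exists_step (h4 : 4 ≤ Fintype.card F) (S : Matrix (Fin (n + 2)) (Fin (n + 2)) F) (hS : Inv S)
    (c r : Fin (n + 2) → F) (hc : c ≠ 0) (hr : r ≠ 0) :
    ∃ (P Q : Matrix (Fin (n + 2)) (Fin (n + 2)) F) (c₁ r₁ : Fin (n + 1) → F)
      (S' : Matrix (Fin (n + 1)) (Fin (n + 1)) F),
      P * Q = 1 ∧ Q * P = 1 ∧ Q * S * P = blk 1 r₁ c₁ (S' + Matrix.vecMulVec c₁ r₁) ∧
      (Q *ᵥ c) 0 ≠ 0 ∧ (r ᵥ* P) 0 ≠ 0 ∧ c₁ ≠ 0 ∧ r₁ ≠ 0 ∧ S'.det = 1 ∧ (1 ≤ n → Inv S') := by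
  classical
  obtain ⟨hdet, hrk, hns⟩ := hS
  set D := S - 1 with hD
  let Dl := D.mulVecLin
  have hSd : ∀ x, S *ᵥ x = x + D *ᵥ x := fun x => by rw [hD, Matrix.sub_mulVec, Matrix.one_mulVec]; abel
  set H : Submodule F (Fin (n + 2) → F) := LinearMap.ker ((Matrix.of fun (_ : Fin 1) => r).mulVecLin) with hHdef
  have hH : H ≠ ⊤ := by
    intro h
    refine hr (funext fun i => ?_)
    have h1 : (Pi.single i (1 : F)) ∈ H := h ▸ Submodule.mem_top
    rw [hHdef, LinearMap.mem_ker] at h1
    simpa [Matrix.mulVec] using congrFun h1 0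
  set Pc : Submodule F (Fin (n + 2) → F) := Submodule.comap Dl (Submodule.span F {c}) with hPdef
  have hPc : Pc ≠ ⊤ := by
    intro h
    have : LinearMap.range Dl ≤ Submodule.span F {c} := by
      rintro _ ⟨x, rfl⟩
      exact (h ▸ Submodule.mem_top : x ∈ Pc)
    have h1 := (Submodule.finrank_mono this).trans (finrank_span_le_card ({c} : Set (Fin (n + 2) → F)))
    simp [Matrix.rank] at hrk h1
    change finrank F (LinearMap.range D.mulVecLin) ≤ 1 at h1
    omega
  have hns' : ∀ a : F, Dl ≠ a • LinearMap.id := by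
    intro a h
    refine hns (1 + a) (Matrix.ext_of_mulVec_single fun i => ?_)
    have h1 : D *ᵥ Pi.single i (1 : F) = a • Pi.single i 1 := LinearMap.congr_fun h _
    rw [hSd, h1, Matrix.smul_mulVec, Matrix.one_mulVec, add_smul, one_smul]
  -- the vector
  obtain ⟨e, her, hecP, hew, hfull, hthree, hKw⟩ : ∃ e : Fin (n + 2) → F, r ⬝ᵥ e ≠ 0 ∧
      (∀ a : F, D *ᵥ e ≠ a • c) ∧ (∀ a : F, e ≠ a • (D *ᵥ e)) ∧
      (D.rank < n + 2 → D.rank ≤ 3 → S *ᵥ e ∉ LinearMap.range Dl) ∧
      (D.rank = n + 2 → D.rank ≤ 3 → 1 ≤ n → ∀ a : F, S *ᵥ e ≠ a • (D *ᵥ (D *ᵥ e))) ∧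
      (D.rank < n + 2 → D.rank = 2 → ∃ κ, D *ᵥ κ = 0 ∧ ∀ a : F, κ ≠ a • (D *ᵥ e)) := by
    have hrH : ∀ e, e ∉ H → r ⬝ᵥ e ≠ 0 := by
      intro e he h0
      exact he (by rw [hHdef, LinearMap.mem_ker]; ext; simpa [Matrix.mulVec] using h0)
    have hPP : ∀ e, e ∉ Pc → ∀ a : F, D *ᵥ e ≠ a • c := fun e he a h =>
      he (Submodule.mem_comap.2 (Submodule.mem_span_singleton.2 ⟨a, h.symm⟩))
    by_cases hk : D.rank = n + 2
    · have hinj : Function.Injective D.mulVec := by
        have h1 : LinearMap.range Dl = ⊤ := Submodule.eq_top_of_finrank_eq (by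
          change D.rank = _; rw [hk]; simp)
        exact LinearMap.injective_iff_surjective.2 (LinearMap.range_eq_top.1 h1)
      have hDunit : IsUnit D := Matrix.mulVec_injective_iff_isUnit.1 hinj
      by_cases hthree : D.rank ≤ 3 ∧ 1 ≤ n
      · obtain rfl : n = 1 := by omega
        obtain ⟨Di, hDi⟩ := hDunit.exists_left_inv
        have hcomm : Di * Di * S * D = D * (Di * Di * S) := by
          have hDr : D * Di = 1 := mul_eq_one_comm.1 hDi
          have hSD : S * D = D * S := by rw [hD, Matrix.mul_sub, Matrix.sub_mul, Matrix.mul_one, Matrix.one_mul]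
          rw [Matrix.mul_assoc (Di * Di), hSD, ← Matrix.mul_assoc (Di * Di), Matrix.mul_assoc Di Di D, hDi,
            Matrix.mul_one, ← Matrix.mul_assoc D, ← Matrix.mul_assoc D, hDr, Matrix.one_mul]
        obtain ⟨e, h1, h2, h3⟩ := exists_not_eigen h4 (Di * Di * S).mulVecLin (fun a h => by
          have hM : Di * Di * S = a • 1 := Matrix.ext_of_mulVec_single fun i => by
            rw [Matrix.smul_mulVec, Matrix.one_mulVec]; exact LinearMap.congr_fun h _
          have hDr : D * Di = 1 := mul_eq_one_comm.1 hDi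
          have hS2 : S = a • (D * D) := by
            calc S = D * ((D * Di) * (Di * S)) := by rw [hDr, Matrix.one_mul, ← Matrix.mul_assoc, hDr, Matrix.one_mul]
              _ = D * (D * (Di * Di * S)) := by simp only [Matrix.mul_assoc]
              _ = _ := by rw [hM, Matrix.mul_smul, Matrix.mul_one, Matrix.mul_smul]
          -- the characteristic polynomial forbids this
          have hCH := Matrix.aeval_self_charpoly S
          rw [Polynomial.aeval_eq_sum_range' (n := 4) (by rw [Matrix.charpoly_natDegree_eq_dim]; simp)] at hCH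
          have h3c : S.charpoly.coeff 3 = 1 := by
            have := (Matrix.charpoly_monic S).coeff_natDegree
            rwa [Matrix.charpoly_natDegree_eq_dim, Fintype.card_fin] at this
          have h0c : S.charpoly.coeff 0 = -1 := by
            have := Matrix.det_eq_sign_charpoly_coeff S
            rw [hdet, Fintype.card_fin] at this
            linear_combination this
          simp only [Finset.sum_range_succ, Finset.sum_range_zero, zero_add, h3c, h0c, one_smul, pow_zero, pow_one] at hCH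
          set b₁ := S.charpoly.coeff 1
          set b₂ := S.charpoly.coeff 2
          have ha : a ≠ 0 := by
            rintro rfl
            rw [zero_smul] at hS2
            rw [hS2, Matrix.det_zero] at hdet
            exact zero_ne_one hdet
          have hq2 : S * S = (2 + a⁻¹) • S - 1 := by
            have : D * D = a⁻¹ • S := by rw [hS2, smul_smul, inv_mul_cancel₀ ha, one_smul]
            rw [hD, Matrix.mul_sub, Matrix.sub_mul, Matrix.sub_mul, Matrix.mul_one, Matrix.one_mul, Matrix.one_mul] at this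
            linear_combination (norm := module) this
          have hq3 : S ^ 3 = ((2 + a⁻¹) * (2 + a⁻¹) - 1) • S - (2 + a⁻¹) • (1 : Matrix _ _ F) := by
            rw [pow_succ, pow_two, hq2, Matrix.sub_mul, Matrix.smul_mul, hq2, Matrix.one_mul]
            module
          rw [pow_two, hq2, hq3] at hCH
          have hlin : ((2 + a⁻¹) * (2 + a⁻¹) - 1 + b₂ * (2 + a⁻¹) + b₁) • S =
              ((2 + a⁻¹) + b₂ + 1) • (1 : Matrix _ _ F) := by linear_combination (norm := module) hCH
          have hA : (2 + a⁻¹) * (2 + a⁻¹) - 1 + b₂ * (2 + a⁻¹) + b₁ = 0 := by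
            by_contra hne
            refine hns (((2 + a⁻¹) * (2 + a⁻¹) - 1 + b₂ * (2 + a⁻¹) + b₁)⁻¹ * ((2 + a⁻¹) + b₂ + 1)) ?_
            rw [← smul_smul, ← hlin, smul_smul, inv_mul_cancel₀ hne, one_smul]
          rw [hA, zero_smul, eq_comm, smul_eq_zero, or_iff_left one_ne_zero] at hlin
          have hdetD : (1 - S).det = 0 := by
            have h := Matrix.eval_charpoly S 1
            rw [map_one] at h
            rw [← h, Polynomial.eval_eq_sum_range' (n := 4) (by rw [Matrix.charpoly_natDegree_eq_dim]; simp)]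
            simp only [Finset.sum_range_succ, Finset.sum_range_zero, zero_add, h3c, h0c, one_pow, mul_one]
            linear_combination hA - (1 + a⁻¹) * hlin
          have hu : IsUnit (1 - S).det := by
            rw [show 1 - S = -D by rw [hD, neg_sub], Matrix.det_neg]
            exact (IsUnit.neg isUnit_one).pow _ |>.mul ((Matrix.isUnit_iff_isUnit_det D).1 hDunit)
          exact hu.ne_zero hdetD) H Pc hH hPc
        refine ⟨e, hrH e h1, hPP e h2, fun a ha => ?_, fun h => absurd hk h.ne, fun _ _ _ a ha => ?_,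
          fun h => absurd hk h.ne⟩
        · -- eigenvectors of `D` are eigenvectors of the auxiliary map
          have ha0 : a ≠ 0 := fun h => by rw [h, zero_smul] at ha; exact h1 (ha ▸ H.zero_mem)
          have hDe : D *ᵥ e = a⁻¹ • e := by
            conv_rhs => rw [ha, smul_smul, inv_mul_cancel₀ ha0, one_smul]
          have hDie : Di *ᵥ e = a • e := by
            have := congrArg (Di *ᵥ ·) hDe
            simp only [Matrix.mulVec_mulVec, hDi, Matrix.one_mulVec, Matrix.mulVec_smul] at this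
            conv_rhs => rw [this, smul_smul, mul_inv_cancel₀ ha0, one_smul]
          refine h3 ((1 + a⁻¹) * a * a) ?_
          show (Di * Di * S) *ᵥ e = _
          rw [← Matrix.mulVec_mulVec, hSd, hDe, Matrix.mulVec_add, Matrix.mulVec_smul, ← Matrix.mulVec_mulVec,
            hDie, Matrix.mulVec_smul, hDie]
          module
        · refine h3 a ?_
          show (Di * Di * S) *ᵥ e = _
          rw [← Matrix.mulVec_mulVec, ha, Matrix.mulVec_smul, Matrix.mulVec_mulVec, Matrix.mulVec_mulVec,
            Matrix.mul_assoc Di Di D, hDi, Matrix.mul_one, hDi, Matrix.one_mulVec]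
      · obtain ⟨e, h1, h2, h3⟩ := exists_not_eigen h4 Dl hns' H Pc hH hPc
        refine ⟨e, hrH e h1, hPP e h2, fun a ha => ?_, fun h => absurd hk h.ne,
          fun _ h3' hn => absurd ⟨h3', hn⟩ hthree, fun h => absurd hk h.ne⟩
        have ha0 : a ≠ 0 := fun h => by rw [h, zero_smul] at ha; exact h1 (ha ▸ H.zero_mem)
        exact h3 a⁻¹ (show D *ᵥ e = _ by conv_rhs => rw [ha, smul_smul, inv_mul_cancel₀ ha0, one_smul])
    · have hk' : D.rank < n + 2 := lt_of_le_of_ne ((Matrix.rank_le_card_width D).trans (by simp)) hk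
      have hI : LinearMap.range Dl ≠ ⊤ := fun h => hk (by
        show finrank F (LinearMap.range Dl) = _; rw [h]; simp)
      let W₂ : Submodule F (Fin (n + 2) → F) :=
        if D * D = 0 then ⊥ else LinearMap.ker (D * D).mulVecLin
      have hW₂ : W₂ ≠ ⊤ := by
        simp only [W₂]
        split_ifs with h
        · exact bot_ne_top
        · intro ht
          refine h (Matrix.ext_of_mulVec_single fun i => ?_)
          have : Pi.single i (1 : F) ∈ LinearMap.ker (D * D).mulVecLin := ht ▸ Submodule.mem_top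
          rw [Matrix.zero_mulVec]
          exact this
      obtain ⟨e, he⟩ := exists_not_mem [H, Pc, LinearMap.range Dl, W₂] (by simp; omega) (by simp [hH, hPc, hI, hW₂])
      have heI : e ∉ LinearMap.range Dl := he _ (by simp)
      refine ⟨e, hrH e (he H (by simp)), hPP e (he Pc (by simp)), fun a ha => ?_, fun _ _ => ?_,
        fun h => absurd h hk, fun _ h2 => ?_⟩
      · exact heI ⟨a • e, by show D *ᵥ (a • e) = e; rw [Matrix.mulVec_smul, ← ha]⟩
      · rintro ⟨x, hx⟩
        refine heI ⟨x - e, ?_⟩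
        show D *ᵥ (x - e) = e
        rw [Matrix.mulVec_sub, show D *ᵥ x = S *ᵥ e from hx, hSd]; abel
      · by_contra hno
        push Not at hno
        have hle : LinearMap.ker Dl ≤ Submodule.span F {D *ᵥ e} := fun κ hκ => by
          obtain ⟨a, ha⟩ := hno κ hκ
          exact Submodule.mem_span_singleton.2 ⟨a, ha.symm⟩
        have hdim := LinearMap.finrank_range_add_finrank_ker Dl
        have h1 := (Submodule.finrank_mono hle).trans (finrank_span_le_card ({D *ᵥ e} : Set (Fin (n + 2) → F)))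
        simp at h1 hdim
        have hrange : finrank F (LinearMap.range Dl) = 2 := h2
        by_cases hDD : D * D = 0
        · have hIK : LinearMap.range Dl ≤ LinearMap.ker Dl := by
            rintro _ ⟨x, rfl⟩
            show D *ᵥ (D *ᵥ x) = 0
            rw [Matrix.mulVec_mulVec, hDD, Matrix.zero_mulVec]
          have := Submodule.finrank_mono hIK
          omega
        · have hW := he W₂ (by simp)
          simp only [W₂, if_neg hDD, LinearMap.mem_ker, Matrix.mulVecLin_apply] at hW
          -- the kernel is one-dimensional inside the line of `D e`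
          obtain ⟨κ, hκ, hκ0⟩ : ∃ κ ∈ LinearMap.ker Dl, κ ≠ 0 := by
            refine Submodule.exists_mem_ne_zero_of_ne_bot fun hb => ?_
            rw [hb, finrank_bot] at hdim
            omega
          obtain ⟨a, ha⟩ := hno κ hκ
          have ha0 : a ≠ 0 := fun h => hκ0 (by rw [ha, h, zero_smul])
          have h0 : D *ᵥ κ = 0 := hκ
          rw [ha, Matrix.mulVec_smul, smul_eq_zero, or_iff_right ha0, Matrix.mulVec_mulVec] at h0
          exact hW h0
  set w := D *ᵥ e with hw
  have hw0 : w ≠ 0 := fun h => hecP 0 (by rw [zero_smul, h])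
  have hSe : S *ᵥ e = e + w := hSd e
  -- vectors the coordinate must not kill
  obtain ⟨i₀, hi₀, hi₀w⟩ := mem_range_of_rank hrk w
  obtain ⟨j₀, hj₀⟩ := hi₀
  have hcw : ∀ a : F, c ≠ a • w := by
    intro a ha
    have ha0 : a ≠ 0 := fun h => hc (by rw [ha, h, zero_smul])
    exact hecP a⁻¹ (by show w = _; rw [ha, smul_smul, inv_mul_cancel₀ ha0, one_smul])
  obtain ⟨L, hLlen, hLw, hLmain⟩ : ∃ L : List (Fin (n + 2) → F), L.length ≤ 3 ∧ (∀ x ∈ L, ∀ a : F, x ≠ a • w) ∧
      ∀ φ : Fin (n + 2) → F, (∀ x ∈ L, φ ⬝ᵥ x ≠ 0) → φ ⬝ᵥ c ≠ 0 ∧ φ ⬝ᵥ i₀ ≠ 0 ∧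
        (D.rank < n + 2 → D.rank = 2 → ∃ κ, D *ᵥ κ = 0 ∧ φ ⬝ᵥ κ ≠ 0) ∧
        (D.rank = n + 2 → D.rank ≤ 3 → 1 ≤ n → ∀ z, D *ᵥ z = S *ᵥ e → φ ⬝ᵥ z ≠ 0) := by
    have hi₀' : ∀ a : F, i₀ ≠ a • w := fun a ha => hi₀w (Submodule.mem_span_singleton.2 ⟨a, ha.symm⟩)
    by_cases h2 : D.rank < n + 2 ∧ D.rank = 2
    · obtain ⟨κ, hκ, hκw⟩ := hKw h2.1 h2.2
      refine ⟨[c, i₀, κ], by simp, by simp [hcw, hi₀', hκw], fun φ hφ => ⟨hφ c (by simp), hφ i₀ (by simp),
        fun _ _ => ⟨κ, hκ, hφ κ (by simp)⟩, fun h => absurd h h2.1.ne⟩⟩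
    by_cases h3 : D.rank = n + 2 ∧ D.rank ≤ 3 ∧ 1 ≤ n
    · have h1 : LinearMap.range Dl = ⊤ := Submodule.eq_top_of_finrank_eq (by
        change D.rank = _; rw [h3.1]; simp)
      obtain ⟨z, hz⟩ := LinearMap.range_eq_top.1 h1 (S *ᵥ e)
      have hinj := LinearMap.injective_iff_surjective.2 (LinearMap.range_eq_top.1 h1)
      refine ⟨[c, i₀, z], by simp, by
        simp only [List.forall_mem_cons, List.not_mem_nil, IsEmpty.forall_iff, implies_true, and_true]
        refine ⟨hcw, hi₀', fun a ha => hthree h3.1 h3.2.1 h3.2.2 a ?_⟩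
        have hz' : D *ᵥ z = S *ᵥ e := hz
        rw [← hz', ha, Matrix.mulVec_smul], fun φ hφ => ⟨hφ c (by simp), hφ i₀ (by simp),
        fun h h' => absurd ⟨h, h'⟩ h2, fun _ _ _ z' hz' => by
          have : z' = z := hinj (hz'.trans hz.symm)
          rw [this]; exact hφ z (by simp)⟩⟩
    exact ⟨[c, i₀], by simp, by simp [hcw, hi₀'], fun φ hφ => ⟨hφ c (by simp), hφ i₀ (by simp),
      fun h h' => absurd ⟨h, h'⟩ h2, fun a b d => absurd ⟨a, b, d⟩ h3⟩⟩
  -- scalar Schur complements
  let bad : F → (Fin (n + 2) → F) → Prop := fun μ φ =>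
    μ ≠ 1 ∧ μ ^ (n + 1) = 1 ∧ ∀ x, φ ⬝ᵥ x = 0 → ∃ s : F, S *ᵥ x = μ • x + s • (S *ᵥ e)
  have huniq : ∀ μ φ φ', bad μ φ → bad μ φ' → φ ⬝ᵥ e = 1 → φ' ⬝ᵥ e = 1 → φ = φ' := by
    intro μ φ φ' hb hb' h1 h1'
    have hμ0 : μ ≠ 0 := fun h => by
      have := hb.2.1; rw [h, zero_pow (by omega)] at this; exact zero_ne_one this
    by_contra hne
    obtain ⟨x, hx, hx'⟩ : ∃ x, φ ⬝ᵥ x = 0 ∧ φ' ⬝ᵥ x ≠ 0 := by
      by_contra hno
      push Not at hno
      refine hne (funext fun i => ?_)
      have := hno (Pi.single i 1 - φ i • e) (by simp [dotProduct_sub, h1])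
      simp [dotProduct_sub, h1'] at this
      linear_combination -this
    -- the whole space is then mapped into the line of `S e`
    have hall : ∀ y, ∃ s : F, S *ᵥ y = μ • y + s • (S *ᵥ e) := by
      intro y
      set z := y - (φ ⬝ᵥ y) • e with hzdef
      have hz : φ ⬝ᵥ z = 0 := by simp [hzdef, dotProduct_sub, h1]
      set u := e - (φ' ⬝ᵥ x)⁻¹ • x with hudef
      have hu : φ' ⬝ᵥ u = 0 := by simp [hudef, dotProduct_sub, h1', hx']
      obtain ⟨s1, e1⟩ := hb.2.2 z hz
      obtain ⟨s2, e2⟩ := hb.2.2 x hx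
      obtain ⟨s3, e3⟩ := hb'.2.2 u hu
      refine ⟨s1 + (φ ⬝ᵥ y) * (s3 + (φ' ⬝ᵥ x)⁻¹ * s2), ?_⟩
      have ey : y = z + (φ ⬝ᵥ y) • (u + (φ' ⬝ᵥ x)⁻¹ • x) := by rw [hzdef, hudef]; simp
      conv_lhs => rw [ey, Matrix.mulVec_add, Matrix.mulVec_smul, Matrix.mulVec_add, Matrix.mulVec_smul, e1, e2, e3]
      conv_rhs => rw [show μ • y = μ • (z + (φ ⬝ᵥ y) • (u + (φ' ⬝ᵥ x)⁻¹ • x)) by rw [← ey]]
      module
    obtain ⟨s, hs⟩ := hall e
    have h : (1 - s) • (e + w) = μ • e := by
      rw [hSe] at hs
      linear_combination (norm := module) hs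
    by_cases hs1 : (1 : F) - s = 0
    · rw [hs1, zero_smul, eq_comm, smul_eq_zero, or_iff_right hμ0] at h
      rw [h] at h1; simp at h1
    · have h' : (μ - (1 - s)) • e = (1 - s) • w := by linear_combination (norm := module) -h
      by_cases hm : μ - (1 - s) = 0
      · rw [hm, zero_smul, eq_comm, smul_eq_zero, or_iff_right hs1] at h'
        exact hw0 h'
      · exact hew ((μ - (1 - s))⁻¹ * (1 - s)) (by rw [← smul_smul, ← h', smul_smul, inv_mul_cancel₀ hm, one_smul])
  obtain ⟨φ, hφe, hφw, hφL, hφbad⟩ := exists_functional h4 hw0 hew L hLlen hLw bad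
    (fun μ φ h => ⟨h.1, h.2.1⟩) huniq
  obtain ⟨hφc, hφi, hφK, hφz⟩ := hLmain φ hφL
  obtain ⟨P, Q, hPQ, hQP, hP0, hQ0⟩ := exists_basis_matrix e φ hφe
  have hPe : P *ᵥ Pi.single 0 1 = e := by ext i; simp [hP0]
  set M := Q * S * P with hM
  set c₁ : Fin (n + 1) → F := fun i => M i.succ 0 with hc₁
  set r₁ : Fin (n + 1) → F := fun j => M 0 j.succ with hr₁
  set S' : Matrix (Fin (n + 1)) (Fin (n + 1)) F := Matrix.of (fun i j => M i.succ j.succ) - Matrix.vecMulVec c₁ r₁ with hS'
  have hQx : ∀ x, (Q *ᵥ x) 0 = φ ⬝ᵥ x := fun x => by simp [Matrix.mulVec, dotProduct, hQ0]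
  have hMe : Q *ᵥ (S *ᵥ e) = fun i => M i 0 := by
    rw [hM, ← hPe, Matrix.mulVec_mulVec, Matrix.mulVec_mulVec]
    ext i; simp
  have hM00 : M 0 0 = 1 := by
    rw [← congrFun hMe 0, hQx, hSe, dotProduct_add, hφe, hφw, add_zero]
  have hblk : M = blk 1 r₁ c₁ (S' + Matrix.vecMulVec c₁ r₁) := by
    conv_lhs => rw [eq_blk M, hM00]
    rw [hS', sub_add_cancel]
  -- the embedded complement
  let emb : (Fin (n + 1) → F) → (Fin (n + 2) → F) := fun y => P *ᵥ Fin.cons 0 y
  have hembφ : ∀ y, φ ⬝ᵥ emb y = 0 := fun y => by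
    rw [← hQx, Matrix.mulVec_mulVec, hQP, Matrix.one_mulVec]; rfl
  have hembinj : ∀ y, emb y = 0 → y = 0 := fun y h => by
    have := congrArg (Q *ᵥ ·) h
    simp only [emb, Matrix.mulVec_mulVec, hQP, Matrix.one_mulVec, Matrix.mulVec_zero] at this
    ext i
    simpa using congrFun this i.succ
  have hsurj : ∀ x, φ ⬝ᵥ x = 0 → ∃ y, x = emb y := fun x hx => ⟨Fin.tail (Q *ᵥ x), by
    show x = P *ᵥ Fin.cons 0 (Fin.tail (Q *ᵥ x))
    rw [← hx, ← hQx, Fin.cons_self_tail, Matrix.mulVec_mulVec, hPQ, Matrix.one_mulVec]⟩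
  have hSemb : ∀ y, S *ᵥ emb y = emb (S' *ᵥ y) + (r₁ ⬝ᵥ y) • (S *ᵥ e) := by
    intro y
    have key : Q *ᵥ (S *ᵥ emb y) = Q *ᵥ (emb (S' *ᵥ y) + (r₁ ⬝ᵥ y) • (S *ᵥ e)) := by
      rw [Matrix.mulVec_add, Matrix.mulVec_smul, hMe]
      simp only [emb, Matrix.mulVec_mulVec, ← Matrix.mul_assoc, hQP, Matrix.one_mulVec, ← hM]
      ext i
      refine Fin.cases ?_ (fun i' => ?_) i
      · simp [Matrix.mulVec, dotProduct, Fin.sum_univ_succ, hM00, hr₁]
      · simp [Matrix.mulVec, dotProduct, Fin.sum_univ_succ, hS', hc₁, hr₁, sub_mul, Finset.sum_sub_distrib,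
          Matrix.vecMulVec_apply, mul_assoc, ← Finset.mul_sum]
        ring
    have h1 := congrArg (P *ᵥ ·) key
    simpa only [Matrix.mulVec_mulVec, ← Matrix.mul_assoc, hPQ, Matrix.one_mulVec, Matrix.one_mul] using h1
  have hc₁0 : c₁ ≠ 0 := by
    intro h
    refine hw0 ?_
    have h1 : Q *ᵥ w = 0 := by
      ext i
      refine Fin.cases ?_ (fun i' => ?_) i
      · rw [hQx, hφw]; rfl
      · have h2 := congrFun hMe i'.succ
        rw [hSe, Matrix.mulVec_add, Pi.add_apply, show M i'.succ 0 = 0 from congrFun h i',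
          show Q *ᵥ e = Pi.single 0 1 by rw [← hPe, Matrix.mulVec_mulVec, hQP, Matrix.one_mulVec]] at h2
        simpa [Fin.succ_ne_zero] using h2
    have := congrArg (P *ᵥ ·) h1
    simpa [Matrix.mulVec_mulVec, hPQ] using this
  have hr₁0 : r₁ ≠ 0 := by
    intro h
    refine hφi ?_
    rw [← hj₀]
    show φ ⬝ᵥ (D *ᵥ j₀) = 0
    obtain ⟨y, hy⟩ := hsurj (j₀ - (φ ⬝ᵥ j₀) • e) (by simp [dotProduct_sub, hφe])
    have hdec : j₀ = emb y + (φ ⬝ᵥ j₀) • e := by rw [← hy]; simp
    have hSy := hSemb y
    rw [h, zero_dotProduct, zero_smul, add_zero] at hSy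
    rw [hdec, Matrix.mulVec_add, Matrix.mulVec_smul, ← hw, dotProduct_add, dotProduct_smul, hφw, smul_zero,
      add_zero, hD, Matrix.sub_mulVec, Matrix.one_mulVec, hSy, dotProduct_sub, hembφ, hembφ, sub_zero]
  have hdet' : S'.det = 1 := by
    have h1 : M.det = 1 := by
      have hd := congrArg Matrix.det hQP
      rw [Matrix.det_mul, Matrix.det_one] at hd
      rw [hM, Matrix.det_mul, Matrix.det_mul, mul_right_comm, hd, one_mul, hdet]
    have h2 : blk 1 0 c₁ 1 * blk 1 r₁ 0 S' = M := by
      rw [hblk, blk_mul]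
      simp [add_comm]
    rw [← h2, Matrix.det_mul, blk_det_lower, blk_det_upper, Matrix.det_one] at h1
    simpa using h1
  refine ⟨P, Q, c₁, r₁, S', hPQ, hQP, hblk, by rw [hQx]; exact hφc, ?_, hc₁0, hr₁0, hdet', fun hn => ⟨hdet', ?_, ?_⟩⟩
  · rw [show (r ᵥ* P) 0 = r ⬝ᵥ e by simp [Matrix.vecMul, dotProduct, hP0]]
    exact her
  · -- the rank stays at least two
    let K' := LinearMap.ker (S' - 1).mulVecLin
    let emb' : (Fin (n + 1) → F) →ₗ[F] (Fin (n + 2) → F) :=
      { toFun := emb
        map_add' := fun y z => by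
          simp only [emb]; rw [← Matrix.mulVec_add]; congr 1
          ext i; refine Fin.cases ?_ (fun i' => ?_) i <;> simp
        map_smul' := fun a y => by
          simp only [emb, RingHom.id_apply]; rw [← Matrix.mulVec_smul]; congr 1
          ext i; refine Fin.cases ?_ (fun i' => ?_) i <;> simp }
    have hemb'inj : Function.Injective emb' := (injective_iff_map_eq_zero emb').2 hembinj
    have himg : ∀ y ∈ K', D *ᵥ emb y = (r₁ ⬝ᵥ y) • (S *ᵥ e) := by
      intro y hy
      have hy' : S' *ᵥ y = y := by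
        rw [LinearMap.mem_ker, Matrix.mulVecLin_apply, Matrix.sub_mulVec, Matrix.one_mulVec, sub_eq_zero] at hy
        exact hy
      rw [hD, Matrix.sub_mulVec, Matrix.one_mulVec, hSemb, hy']
      abel
    have hcardK' : finrank F K' ≤ n - 1 := by
      rw [(Submodule.equivMapOfInjective emb' hemb'inj K').finrank_eq]
      have hdimD : finrank F (LinearMap.range Dl) + finrank F (LinearMap.ker Dl) = n + 2 := by
        simpa using LinearMap.finrank_range_add_finrank_ker Dl
      have hrk' : 2 ≤ finrank F (LinearMap.range Dl) := hrk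
      by_cases h4k : 4 ≤ D.rank
      · have hle : K'.map emb' ≤ Submodule.comap Dl (Submodule.span F {S *ᵥ e}) := by
          rintro _ ⟨y, hy, rfl⟩
          exact Submodule.mem_comap.2 (Submodule.mem_span_singleton.2 ⟨_, (himg y hy).symm⟩)
        have h1 := Submodule.finrank_mono hle
        set W := Submodule.comap Dl (Submodule.span F {S *ᵥ e}) with hW
        have h2 := LinearMap.finrank_range_add_finrank_ker (Dl.domRestrict W)
        have h3 : finrank F (LinearMap.range (Dl.domRestrict W)) ≤ 1 := by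
          refine (Submodule.finrank_mono ?_).trans ((finrank_span_le_card ({S *ᵥ e} : Set (Fin (n + 2) → F))).trans (by simp))
          rintro _ ⟨x, rfl⟩
          exact x.2
        have h4' : finrank F (LinearMap.ker (Dl.domRestrict W)) ≤ finrank F (LinearMap.ker Dl) := by
          rw [(Submodule.equivMapOfInjective W.subtype W.injective_subtype _).finrank_eq]
          refine Submodule.finrank_mono ?_
          rintro _ ⟨x, hx, rfl⟩
          exact hx
        have h5 : 4 ≤ finrank F (LinearMap.range Dl) := h4k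
        omega
      by_cases hkk : D.rank = n + 2
      · have hzero : K' = ⊥ := by
          rw [Submodule.eq_bot_iff]
          intro y hy
          refine hembinj y ?_
          have h1 : LinearMap.range Dl = ⊤ := Submodule.eq_top_of_finrank_eq (by
            change D.rank = _; rw [hkk]; simp)
          obtain ⟨z, hz⟩ := LinearMap.range_eq_top.1 h1 (S *ᵥ e)
          have hinj := LinearMap.injective_iff_surjective.2 (LinearMap.range_eq_top.1 h1)
          have he' : emb y = (r₁ ⬝ᵥ y) • z := hinj (by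
            show D *ᵥ emb y = D *ᵥ ((r₁ ⬝ᵥ y) • z)
            rw [himg y hy, Matrix.mulVec_smul]
            exact congrArg _ hz.symm)
          have hfz := hφz hkk (by omega) hn z hz
          have h0 := hembφ y
          rw [he', dotProduct_smul, smul_eq_mul, mul_eq_zero, or_iff_left hfz] at h0
          rw [he', h0, zero_smul]
        rw [hzero, Submodule.map_bot, finrank_bot]
        exact Nat.zero_le _
      · have hlt : D.rank < n + 2 := lt_of_le_of_ne ((Matrix.rank_le_card_width D).trans (by simp)) hkk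
        have hle : K'.map emb' ≤ LinearMap.ker Dl := by
          rintro _ ⟨y, hy, rfl⟩
          show D *ᵥ emb y = 0
          rw [himg y hy]
          by_cases h0 : r₁ ⬝ᵥ y = 0
          · rw [h0, zero_smul]
          refine absurd ⟨(r₁ ⬝ᵥ y)⁻¹ • emb y, ?_⟩ (hfull hlt (by omega))
          show D *ᵥ _ = _
          rw [Matrix.mulVec_smul, himg y hy, smul_smul, inv_mul_cancel₀ h0, one_smul]
        by_cases h2 : D.rank = 2
        · obtain ⟨κ, hκ, hκφ⟩ := hφK hlt h2
          have hlt' : K'.map emb' < LinearMap.ker Dl := by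
            refine lt_of_le_of_ne hle fun heq => hκφ ?_
            have : κ ∈ K'.map emb' := heq ▸ (show κ ∈ LinearMap.ker Dl from hκ)
            obtain ⟨y, -, rfl⟩ := this
            exact hembφ y
          have := Submodule.finrank_lt_finrank_of_lt hlt'
          have h2' : finrank F (LinearMap.range Dl) = 2 := h2
          omega
        · have := Submodule.finrank_mono hle
          have h3' : 3 ≤ finrank F (LinearMap.range Dl) := by
            show 3 ≤ D.rank
            omega
          omega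
    have h := LinearMap.finrank_range_add_finrank_ker (S' - 1).mulVecLin
    simp at h
    show 2 ≤ finrank F (LinearMap.range (S' - 1).mulVecLin)
    change finrank F (LinearMap.ker (S' - 1).mulVecLin) ≤ n - 1 at hcardK'
    omega
  · -- not scalar
    intro μ hμ
    have hpow : μ ^ (n + 1) = 1 := by
      rw [hμ, Matrix.det_smul, Matrix.det_one, Fintype.card_fin, mul_one] at hdet'
      exact hdet'
    by_cases hμ1 : μ = 1
    · subst hμ1
      rw [one_smul] at hμ
      -- then `D` maps the complement into a line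
      have hle : LinearMap.range Dl ≤ Submodule.span F {S *ᵥ e, w} := by
        rintro _ ⟨x, rfl⟩
        obtain ⟨y, hy⟩ := hsurj (x - (φ ⬝ᵥ x) • e) (by simp [dotProduct_sub, hφe])
        have hx : x = emb y + (φ ⬝ᵥ x) • e := by rw [← hy]; simp
        rw [Submodule.mem_span_pair]
        refine ⟨r₁ ⬝ᵥ y, φ ⬝ᵥ x, ?_⟩
        show _ = D *ᵥ x
        conv_rhs => rw [hx, Matrix.mulVec_add, Matrix.mulVec_smul, ← hw, hD, Matrix.sub_mulVec,
          Matrix.one_mulVec, hSemb, hμ, Matrix.one_mulVec]
        module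
      have h2 := (Submodule.finrank_mono hle).trans (finrank_span_le_card ({S *ᵥ e, w} : Set (Fin (n + 2) → F)))
      have h3 : ({S *ᵥ e, w} : Set (Fin (n + 2) → F)).toFinset.card ≤ 2 := by
        rw [Set.toFinset_insert, Set.toFinset_singleton]
        exact Finset.card_le_two
      -- rank exactly two with the first coordinate killing the kernel
      have hrk2 : D.rank = 2 := le_antisymm (h2.trans h3) hrk
      rcases lt_or_eq_of_le ((Matrix.rank_le_card_width D).trans (by simp) : D.rank ≤ n + 2) with hlt | heq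
      · obtain ⟨κ, hκ, hκφ⟩ := hφK hlt hrk2
        obtain ⟨y, hy⟩ := hsurj (κ - (φ ⬝ᵥ κ) • e) (by simp [dotProduct_sub, hφe])
        have hk : κ = emb y + (φ ⬝ᵥ κ) • e := by rw [← hy]; simp
        rw [hk, Matrix.mulVec_add, Matrix.mulVec_smul, ← hw, hD, Matrix.sub_mulVec, Matrix.one_mulVec, hSemb,
          hμ, Matrix.one_mulVec, hSe] at hκ
        have hlin : (r₁ ⬝ᵥ y) • e = (-(r₁ ⬝ᵥ y) - φ ⬝ᵥ κ) • w := by linear_combination (norm := module) hκ
        by_cases hry : r₁ ⬝ᵥ y = 0
        · rw [hry, zero_smul, neg_zero, zero_sub, eq_comm, smul_eq_zero, neg_eq_zero] at hlin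
          exact hlin.elim hκφ hw0
        · exact hew ((r₁ ⬝ᵥ y)⁻¹ * (-(r₁ ⬝ᵥ y) - φ ⬝ᵥ κ))
            (by rw [← smul_smul, ← hlin, smul_smul, inv_mul_cancel₀ hry, one_smul])
      · omega
    · refine hφbad hn μ ⟨hμ1, hpow, fun x hx => ?_⟩
      obtain ⟨y, rfl⟩ := hsurj x hx
      refine ⟨r₁ ⬝ᵥ y, ?_⟩
      rw [hSemb, hμ, Matrix.smul_mulVec, Matrix.one_mulVec]
      simp only [emb]
      rw [show (Fin.cons 0 (μ • y) : Fin (n + 2) → F) = μ • Fin.cons 0 y from
        funext (Fin.cases (by simp) (fun i' => by simp)), Matrix.mulVec_smul]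

end Cfsg.Agent.Lie.SLComm
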