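import Mathlib
import Cfsg.Agent.Lib.Lie.SLComm.Step
import Cfsg.Agent.Lib.Lie.SLComm.Scalar

/-!
Every determinant-one matrix over a finite field with at least four elements is a commutator:
a prescribed-diagonal triangular factorisation of a conjugate.
-/

set_option autoImplicit false
set_option linter.unusedSectionVars false

namespace Cfsg.Agent.Lie.SLComm

open Matrix Polynomial Module

variable {F : Type*} [Field F] {n : ℕ}

/-- Lower triangular with given diagonal and nonzero subdiagonal. -/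
def Low (β : Fin n → F) (L : Matrix (Fin n) (Fin n) F) : Prop :=
  (∀ i, L i i = β i) ∧ (∀ i j, i < j → L i j = 0) ∧ ∀ i j : Fin n, (i : ℕ) = (j : ℕ) + 1 → L i j ≠ 0

/-- Upper triangular with given diagonal and nonzero superdiagonal. -/
def Upp (β : Fin n → F) (X : Matrix (Fin n) (Fin n) F) : Prop :=
  (∀ i, X i i = β i) ∧ (∀ i j, j < i → X i j = 0) ∧ ∀ i j : Fin n, (j : ℕ) = (i : ℕ) + 1 → X i j ≠ 0

theorem low_blk {β : Fin (n + 2) → F} {c : Fin (n + 1) → F} {L : Matrix (Fin (n + 1)) (Fin (n + 1)) F}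
    (hc : c 0 ≠ 0) (hL : Low (fun i => β i.succ) L) : Low β (blk (β 0) 0 c L) := by
  obtain ⟨h1, h2, h3⟩ := hL
  refine ⟨Fin.cases (by simp) (fun i => by simp [h1]), fun i j hij => ?_, fun i j hij => ?_⟩
  · revert hij
    refine Fin.cases ?_ (fun i' => ?_) i <;> refine Fin.cases ?_ (fun j' => ?_) j <;> intro hij <;>
      simp_all [Fin.succ_lt_succ_iff]
  · revert hij
    refine Fin.cases ?_ (fun i' => ?_) i <;> refine Fin.cases ?_ (fun j' => ?_) j <;> intro hij
    · simp at hij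
    · simp at hij
    · simp only [blk_sz]
      rw [show i' = 0 from Fin.ext (by simp at hij; simpa using hij)]
      exact hc
    · simp only [blk_ss]
      exact h3 i' j' (by simp at hij; omega)

theorem upp_blk {β : Fin (n + 2) → F} {x : Fin (n + 1) → F} {X : Matrix (Fin (n + 1)) (Fin (n + 1)) F}
    (hx : x 0 ≠ 0) (hX : Upp (fun i => β i.succ) X) : Upp β (blk (β 0) x 0 X) := by
  obtain ⟨h1, h2, h3⟩ := hX
  refine ⟨Fin.cases (by simp) (fun i => by simp [h1]), fun i j hij => ?_, fun i j hij => ?_⟩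
  · revert hij
    refine Fin.cases ?_ (fun i' => ?_) i <;> refine Fin.cases ?_ (fun j' => ?_) j <;> intro hij <;>
      simp_all [Fin.succ_lt_succ_iff]
  · revert hij
    refine Fin.cases ?_ (fun i' => ?_) i <;> refine Fin.cases ?_ (fun j' => ?_) j <;> intro hij
    · simp at hij
    · simp only [blk_zs]
      rw [show j' = 0 from Fin.ext (by simp at hij; simpa using hij)]
      exact hx
    · simp at hij
    · simp only [blk_ss]
      exact h3 i' j' (by simp at hij; omega)

theorem low_one {β : Fin 1 → F} : Low β (Matrix.diagonal β) :=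
  ⟨fun i => by simp, fun i j h => absurd h (by simp [Subsingleton.elim i j]), fun i j h => by omega⟩

theorem upp_one {β : Fin 1 → F} : Upp β (Matrix.diagonal β) :=
  ⟨fun i => by simp, fun i j h => absurd h (by simp [Subsingleton.elim i j]), fun i j h => by omega⟩

/-- Sourour's factorisation. -/
theorem exists_fac [Fintype F] (h4 : 4 ≤ Fintype.card F) : ∀ (n : ℕ) (S : Matrix (Fin (n + 1)) (Fin (n + 1)) F),
    S.det = 1 → (1 ≤ n → Inv S) → ∀ c r : Fin (n + 1) → F, c ≠ 0 → r ≠ 0 →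
    ∀ β : Fin (n + 1) → F, (∀ i, β i ≠ 0) →
    ∃ P Q L X : Matrix (Fin (n + 1)) (Fin (n + 1)) F, P * Q = 1 ∧ Q * P = 1 ∧ Q * S * P * X = L ∧
      Low β L ∧ Upp β X ∧ (Q *ᵥ c) 0 ≠ 0 ∧ (r ᵥ* P) 0 ≠ 0 := by
  intro n
  induction n with
  | zero =>
    intro S hdet _ c r hc hr β _
    have hS : S = 1 := by
      rw [Matrix.det_fin_one] at hdet
      ext i j
      rw [Fin.fin_one_eq_zero i, Fin.fin_one_eq_zero j, hdet, Matrix.one_apply_eq]
    refine ⟨1, 1, _, _, one_mul 1, one_mul 1, ?_, low_one, upp_one, ?_, ?_⟩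
    · rw [hS]; simp
    · rw [Matrix.one_mulVec]
      exact fun h => hc (funext fun i => by rw [Fin.fin_one_eq_zero i]; exact h)
    · rw [Matrix.vecMul_one]
      exact fun h => hr (funext fun i => by rw [Fin.fin_one_eq_zero i]; exact h)
  | succ n ih =>
    intro S _ hinv c r hc hr β hβ
    obtain ⟨P, Q, c₁, r₁, S', hPQ, hQP, hM, hQc, hrP, hc₁, hr₁, hdet', hinv'⟩ :=
      exists_step h4 S (hinv (by omega)) c r hc hr
    obtain ⟨P', Q', L', X', hPQ', hQP', hL', hlow, hupp, hc', hr'⟩ :=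
      ih S' hdet' hinv' c₁ r₁ hc₁ hr₁ (fun i => β i.succ) (fun i => hβ _)
    refine ⟨P * blk 1 0 0 P', blk 1 0 0 Q' * Q, blk (β 0) 0 (β 0 • (Q' *ᵥ c₁)) L',
      blk (β 0) (-((r₁ ᵥ* P') ᵥ* X')) 0 X', ?_, ?_, ?_, low_blk ?_ hlow, upp_blk ?_ hupp, ?_, ?_⟩
    · rw [Matrix.mul_assoc, ← Matrix.mul_assoc (blk 1 0 0 P'), blk_mul]
      simp [hPQ', blk_one, hPQ]
    · rw [Matrix.mul_assoc, ← Matrix.mul_assoc Q, hQP, Matrix.one_mul, blk_mul]
      simp [hQP', blk_one]
    · rw [show blk 1 0 0 Q' * Q * S * (P * blk 1 0 0 P') = blk 1 0 0 Q' * (Q * S * P) * blk 1 0 0 P' by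
        simp only [Matrix.mul_assoc], hM, blk_mul, blk_mul, blk_mul]
      simp only [zero_dotProduct, dotProduct_zero, Matrix.mulVec_zero, Matrix.zero_vecMul, one_smul, smul_zero,
        add_zero, zero_add, mul_one, one_mul, Matrix.zero_vecMulVec, Matrix.vecMulVec_zero, add_neg_cancel,
        neg_add_cancel, Matrix.mul_add, Matrix.add_mul, Matrix.mul_vecMulVec, Matrix.vecMulVec_mul, hL',
        Matrix.vecMulVec_neg]
      congr 1
      abel
    · rw [Pi.smul_apply, smul_eq_mul]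
      exact mul_ne_zero (hβ 0) hc'
    · show -((r₁ ᵥ* P') ᵥ* X') 0 ≠ 0
      rw [neg_ne_zero]
      show ∑ k, (r₁ ᵥ* P') k * X' k 0 ≠ 0
      rw [Finset.sum_eq_single 0]
      · rw [hupp.1 0]
        exact mul_ne_zero hr' (hβ _)
      · intro k _ hk
        rw [hupp.2.1 k 0 (Fin.pos_iff_ne_zero.2 hk), mul_zero]
      · simp
    · rw [← Matrix.mulVec_mulVec]
      simpa [Matrix.mulVec, dotProduct, Fin.sum_univ_succ] using hQc
    · rw [← Matrix.vecMul_vecMul]
      simpa [Matrix.vecMul, dotProduct, Fin.sum_univ_succ] using hrP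

theorem low_det {β : Fin n → F} {L : Matrix (Fin n) (Fin n) F} (h : Low β L) (a : F) :
    (L - a • 1).det = ∏ i, (β i - a) := by
  rw [← Matrix.det_transpose, Matrix.det_of_isUpperTriangular (M := (L - a • 1).transpose)
    (fun i j hij => by
      simp [h.2.1 j i hij]
      exact Or.inr (Matrix.one_apply_ne (ne_of_lt (α := Fin n) hij)))]
  simp [h.1]

theorem upp_det {β : Fin n → F} {X : Matrix (Fin n) (Fin n) F} (h : Upp β X) (a : F) :
    (X - a • 1).det = ∏ i, (β i - a) := by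
  rw [Matrix.det_of_isUpperTriangular (M := X - a • 1)
    (fun i j hij => by
      simp [h.2.1 i j hij]
      exact Or.inr (Matrix.one_apply_ne (ne_of_gt (α := Fin n) hij)))]
  simp [h.1]

theorem low_peel {a : F} {β : Fin n → F} {L : Matrix (Fin (n + 1)) (Fin (n + 1)) F} (h : Low (Fin.cons a β) L)
    (hne : ∀ i, β i ≠ a) : ∃ L', Low β L' ∧ Sim L (blk a 0 0 L') := by
  obtain ⟨h1, h2, h3⟩ := h
  let L' : Matrix (Fin n) (Fin n) F := Matrix.of fun i j => L i.succ j.succ
  have hL' : Low β L' := ⟨fun i => by simpa [L'] using h1 i.succ,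
    fun i j hij => h2 _ _ (Fin.succ_lt_succ_iff.2 hij), fun i j hij => h3 _ _ (by simp [hij])⟩
  refine ⟨L', hL', ?_⟩
  have e : L = blk a 0 (fun i => L i.succ 0) L' := by
    conv_lhs => rw [eq_blk L]
    rw [show L 0 0 = a by simpa using h1 0,
      show (fun j : Fin n => L 0 j.succ) = 0 from funext fun j => h2 _ _ (Fin.succ_pos j)]
  conv_lhs => rw [e]
  refine sim_peel_lower a _ L' (isUnit_iff_ne_zero.2 ?_)
  rw [low_det hL']
  exact Finset.prod_ne_zero_iff.2 fun i _ => sub_ne_zero.2 (hne i)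

theorem upp_peel {a : F} {β : Fin n → F} {X : Matrix (Fin (n + 1)) (Fin (n + 1)) F} (h : Upp (Fin.cons a β) X)
    (hne : ∀ i, β i ≠ a) : ∃ X', Upp β X' ∧ Sim X (blk a 0 0 X') := by
  obtain ⟨h1, h2, h3⟩ := h
  let X' : Matrix (Fin n) (Fin n) F := Matrix.of fun i j => X i.succ j.succ
  have hX' : Upp β X' := ⟨fun i => by simpa [X'] using h1 i.succ,
    fun i j hij => h2 _ _ (Fin.succ_lt_succ_iff.2 hij), fun i j hij => h3 _ _ (by simp [hij])⟩
  refine ⟨X', hX', ?_⟩
  have e : X = blk a (fun j => X 0 j.succ) 0 X' := by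
    conv_lhs => rw [eq_blk X]
    rw [show X 0 0 = a by simpa using h1 0,
      show (fun i : Fin n => X i.succ 0) = 0 from funext fun i => h2 _ _ (Fin.succ_pos i)]
  conv_lhs => rw [e]
  refine sim_peel_upper a _ X' (isUnit_iff_ne_zero.2 ?_)
  rw [upp_det hX']
  exact Finset.prod_ne_zero_iff.2 fun i _ => sub_ne_zero.2 (hne i)

/-- The canonical form with one head split off. -/
theorem exists_canon [Fintype F] (h4 : 4 ≤ Fintype.card F) {m : ℕ} (hm : 1 ≤ m) :
    ∃ β : Fin (m + 1) → F, (∀ i, β i ≠ 0) ∧ ∏ i, β i = 1 ∧ ∃ (a : F) (T : Matrix (Fin m) (Fin m) F),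
      (∀ L, Low β L → Sim L (blk a 0 0 T)) ∧ (∀ X, Upp β X → Sim X (blk a 0 0 T)) := by
  classical
  by_cases hb : ∃ b : F, b ≠ 0 ∧ b ^ (m + 1) ≠ 1
  · obtain ⟨b, hb0, hb1⟩ := hb
    let a : F := (b ^ m)⁻¹
    have hab : b ≠ a := by
      intro e
      apply hb1
      have : b * b ^ m = 1 := by
        conv_lhs => arg 1; rw [e]
        exact inv_mul_cancel₀ (pow_ne_zero _ hb0)
      rw [pow_succ', this]
    refine ⟨Fin.cons a (fun _ => b), ?_, ?_, a, b • 1 + cmp m (X ^ m), fun L hL => ?_, fun X hX => ?_⟩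
    · exact Fin.cases (by simp [a, hb0]) (fun i => by simpa using hb0)
    · simp [Fin.prod_univ_succ, a, hb0]
    · obtain ⟨L', hL', hs⟩ := low_peel hL (fun _ => hab)
      exact hs.trans ((sim_tail_lower hL'.1 hL'.2.1 hL'.2.2).blk a)
    · obtain ⟨X', hX', hs⟩ := upp_peel hX (fun _ => hab)
      exact hs.trans ((sim_tail_upper hX'.1 hX'.2.1 hX'.2.2).blk a)
  · push Not at hb
    obtain ⟨a, ha⟩ : ∃ a : F, a ∉ ({0, 1, -1} : Finset F) := by
      by_contra hno
      push Not at hno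
      have h1 : Fintype.card F ≤ ({0, 1, -1} : Finset F).card := Finset.card_le_card (fun x _ => hno x)
      have h2 : ({0, 1, -1} : Finset F).card ≤ 3 := Finset.card_le_three
      omega
    simp only [Finset.mem_insert, Finset.mem_singleton, not_or] at ha
    obtain ⟨k, rfl⟩ : ∃ k, m = k + 1 := ⟨m - 1, by omega⟩
    have hai : a⁻¹ ≠ a := fun e => by
      have : a * a = 1 := by
        conv_lhs => arg 1; rw [← e]
        exact inv_mul_cancel₀ ha.1
      rcases mul_self_eq_one_iff.1 this with h | h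
      · exact ha.2.1 h
      · exact ha.2.2 h
    refine ⟨Fin.cons a (Fin.cons a⁻¹ fun _ => 1), ?_, ?_, a, blk a⁻¹ 0 0 ((1 : F) • 1 + cmp k (X ^ k)),
      fun L hL => ?_, fun X hX => ?_⟩
    · exact Fin.cases (by simp [ha.1]) (Fin.cases (by simp [ha.1]) (fun i => by simp))
    · simp [Fin.prod_univ_succ, ha.1]
    · obtain ⟨L', hL', hs⟩ := low_peel hL (Fin.cases (by simpa using hai) (fun i => by simpa using Ne.symm ha.2.1))
      obtain ⟨L'', hL'', hs'⟩ := low_peel hL' (fun _ => fun e => ha.2.1 (by rw [← inv_inv a, ← e, inv_one]))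
      exact hs.trans ((hs'.trans ((sim_tail_lower hL''.1 hL''.2.1 hL''.2.2).blk a⁻¹)).blk a)
    · obtain ⟨X', hX', hs⟩ := upp_peel hX (Fin.cases (by simpa using hai) (fun i => by simpa using Ne.symm ha.2.1))
      obtain ⟨X'', hX'', hs'⟩ := upp_peel hX' (fun _ => fun e => ha.2.1 (by rw [← inv_inv a, ← e, inv_one]))
      exact hs.trans ((hs'.trans ((sim_tail_upper hX''.1 hX''.2.1 hX''.2.2).blk a⁻¹)).blk a)

theorem com_of_rank_le_one {m : ℕ} {g : Matrix (Fin m) (Fin m) F} (hg : g.det = 1) (hr : (g - 1).rank ≤ 1)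
    (t : F) (ht0 : t ≠ 0) (ht : t * t ≠ 1) : Com g := by
  classical
  by_cases hg1 : g - 1 = 0
  · rw [sub_eq_zero.1 hg1]
    exact com_one
  obtain ⟨j, hj⟩ : ∃ j, (g - 1).col j ≠ 0 := by
    by_contra hno
    push Not at hno
    exact hg1 (Matrix.ext fun i j => congrFun (hno j) i)
  set x := (g - 1).col j with hx
  have hrange : Submodule.span F {x} = LinearMap.range (g - 1).mulVecLin := by
    refine Submodule.eq_of_le_of_finrank_le ?_ ?_
    · rw [Submodule.span_singleton_le_iff_mem]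
      exact ⟨Pi.single j 1, by rw [hx, Matrix.mulVecLin_apply, Matrix.mulVec_single_one]⟩
    · rw [finrank_span_singleton hj]
      exact hr
  have hcol : ∀ k, ∃ s : F, s • x = (g - 1).col k := fun k => Submodule.mem_span_singleton.1 (by
    rw [hrange]
    exact ⟨Pi.single k 1, by rw [Matrix.mulVecLin_apply, Matrix.mulVec_single_one]⟩)
  choose f hf using hcol
  have he : g = 1 + Matrix.vecMulVec x f := by
    ext i k
    have h := congrFun (hf k) i
    rw [Matrix.add_apply, Matrix.vecMulVec_apply]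
    simp [Matrix.col_apply, mul_comm] at h ⊢
    linear_combination -h
  have hfx : f ⬝ᵥ x = 0 := by
    have h1 := hg
    rw [he, Matrix.vecMulVec_eq Unit, Matrix.det_one_add_replicateCol_mul_replicateRow] at h1
    linear_combination h1
  have hf0 : f ≠ 0 := fun h => hg1 (by rw [he, h]; simp)
  rw [he]
  exact com_transvection x f hj hf0 hfx t ht0 ht

/-- Over a field with at least four elements, determinant one means commutator. -/
theorem com_of_det_four [Fintype F] (h4 : 4 ≤ Fintype.card F) {m : ℕ} (hm : 2 ≤ m) (g : Matrix (Fin m) (Fin m) F)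
    (hg : g.det = 1) : Com g := by
  classical
  by_cases hs : ∃ a : F, g = a • 1
  · obtain ⟨a, rfl⟩ := hs
    refine com_scalar (by omega) a ?_
    rwa [Matrix.det_smul, Matrix.det_one, Fintype.card_fin, mul_one] at hg
  push Not at hs
  by_cases hr : (g - 1).rank ≤ 1
  · obtain ⟨t, ht⟩ : ∃ t : F, t ∉ ({0, 1, -1} : Finset F) := by
      by_contra hno
      push Not at hno
      have h1 : Fintype.card F ≤ ({0, 1, -1} : Finset F).card := Finset.card_le_card (fun x _ => hno x)
      have h2 : ({0, 1, -1} : Finset F).card ≤ 3 := Finset.card_le_three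
      omega
    simp only [Finset.mem_insert, Finset.mem_singleton, not_or] at ht
    exact com_of_rank_le_one hg hr t ht.1 fun e => (mul_self_eq_one_iff.1 e).elim ht.2.1 ht.2.2
  obtain ⟨k, rfl⟩ : ∃ k, m = k + 1 := ⟨m - 1, by omega⟩
  have hinv : Inv g := ⟨hg, by omega, hs⟩
  have hone : (fun _ => 1 : Fin (k + 1) → F) ≠ 0 := fun e => one_ne_zero (congrFun e 0)
  obtain ⟨β, hβ, hprod, a, T, hlo, hup⟩ := exists_canon (F := F) h4 (show 1 ≤ k by omega)
  obtain ⟨P, Q, L, X, hPQ, hQP, hLX, hL, hX, -, -⟩ := exists_fac h4 k g hg (fun _ => hinv) _ _ hone hone β hβ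
  have hXdet : X.det = 1 := by
    have := upp_det hX 0
    simp only [zero_smul, sub_zero] at this
    rw [this, hprod]
  have hsim : Sim (Q * g * P * X) X := by
    rw [hLX]
    exact (hlo L hL).trans (hup X hX).symm
  have hcen : ∀ t : F, t ≠ 0 → ∃ c : Matrix (Fin (k + 1)) (Fin (k + 1)) F, c * X = X * c ∧ c.det = t := by
    intro t _
    obtain ⟨R, S, h1, h2, e⟩ := hup X hX
    refine ⟨R * blk t 0 0 1 * S, ?_, ?_⟩
    · rw [e, show R * blk t 0 0 1 * S * (R * blk a 0 0 T * S) = R * (blk t 0 0 1 * (S * R) * blk a 0 0 T) * S by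
        simp only [Matrix.mul_assoc], show R * blk a 0 0 T * S * (R * blk t 0 0 1 * S) =
        R * (blk a 0 0 T * (S * R) * blk t 0 0 1) * S by simp only [Matrix.mul_assoc], h2, Matrix.mul_one,
        Matrix.mul_one, blk_mul, blk_mul]
      simp [mul_comm]
    · rw [Matrix.det_conj_of_mul_eq_one h1 h2, blk_det_lower, Matrix.det_one, mul_one]
  refine Com.sim (g' := Q * g * P) ⟨P, Q, hPQ, hQP, ?_⟩ (com_of_sim (p := 0) hXdet hsim ?_ hcen).com
  · rw [show P * (Q * g * P) * Q = (P * Q) * g * (P * Q) by simp only [Matrix.mul_assoc], hPQ, Matrix.one_mul,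
      Matrix.mul_one]
  · rw [map_zero]
    exact IsNilpotent.zero

end Cfsg.Agent.Lie.SLComm
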