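import Mathlib
import Cfsg.Agent.Lib.Lie.SLComm.Hess

/-!
Explicit commutator certificates for small matrices over the fields with two and three elements.
-/

set_option autoImplicit false
set_option linter.unusedSectionVars false
set_option linter.unusedSimpArgs false

namespace Cfsg.Agent.Lie.SLComm

open Matrix Polynomial

variable {F : Type*} [Field F]

/-- `A` is a commutator whose second entry makes `p` invertible. -/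
def Top {ι : Type*} [Fintype ι] [DecidableEq ι] (p : F[X]) (A : Matrix ι ι F) : Prop :=
  ∃ a b : Matrix ι ι F, a.det = 1 ∧ b.det = 1 ∧ A * b * a = a * b ∧ IsUnit (aeval b p)

/-- The companion of `X ^ 2 + X - 1`. -/
def qaM (R : Type*) [Ring R] : Matrix (Fin 2) (Fin 2) R := !![0, 1; 1, -1]
/-- The companion of `X ^ 2 - X - 1`. -/
def qbM (R : Type*) [Ring R] : Matrix (Fin 2) (Fin 2) R := !![0, 1; 1, 1]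
/-- The companion of `X ^ 2 + 1`. -/
def qcM (R : Type*) [Ring R] : Matrix (Fin 2) (Fin 2) R := !![0, -1; 1, 0]

theorem qaM_map {R S : Type*} [Ring R] [Ring S] (φ : R →+* S) : (qaM R).map φ = qaM S := by
  ext i j; fin_cases i <;> fin_cases j <;> simp [qaM]
theorem qbM_map {R S : Type*} [Ring R] [Ring S] (φ : R →+* S) : (qbM R).map φ = qbM S := by
  ext i j; fin_cases i <;> fin_cases j <;> simp [qbM]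
theorem qcM_map {R S : Type*} [Ring R] [Ring S] (φ : R →+* S) : (qcM R).map φ = qcM S := by
  ext i j; fin_cases i <;> fin_cases j <;> simp [qcM]

theorem map_reindex {R S ι κ : Type*} (f : R → S) (e : ι ≃ κ) (A : Matrix ι ι R) :
    (Matrix.reindex e e A).map f = Matrix.reindex e e (A.map f) := rfl

variable {R : Type*} [CommRing R] {n : ℕ}

/-- Triangular factors of two matrices of determinant one with commutator `g`. -/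
abbrev IsCert (g L₁ U₁ L₂ U₂ : Matrix (Fin n) (Fin n) R) : Prop :=
  ((∀ x : Fin n × Fin n, x.1 < x.2 → L₁ x.1 x.2 = 0 ∧ U₁ x.2 x.1 = 0) ∧ (∀ i, L₁ i i = 1) ∧ ∏ i, U₁ i i = 1) ∧
  ((∀ x : Fin n × Fin n, x.1 < x.2 → L₂ x.1 x.2 = 0 ∧ U₂ x.2 x.1 = 0) ∧ (∀ i, L₂ i i = 1) ∧ ∏ i, U₂ i i = 1) ∧
  g * (L₂ * U₂) * (L₁ * U₁) = (L₁ * U₁) * (L₂ * U₂)

theorem det_lu {L U : Matrix (Fin n) (Fin n) R}
    (h : (∀ x : Fin n × Fin n, x.1 < x.2 → L x.1 x.2 = 0 ∧ U x.2 x.1 = 0) ∧ (∀ i, L i i = 1) ∧ ∏ i, U i i = 1) :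
    (L * U).det = 1 := by
  obtain ⟨h1, h2, h4⟩ := h
  rw [Matrix.det_mul, ← Matrix.det_transpose, Matrix.det_of_isUpperTriangular (M := L.transpose) (fun i j hij => (h1 (j, i) hij).1),
    Matrix.det_of_isUpperTriangular (M := U) (fun i j hij => (h1 (j, i) hij).2)]
  simp [h2, h4]

theorem det_map_of (φ : R →+* F) {A : Matrix (Fin n) (Fin n) R} {e : F} {d : R} (h : A.det = d) (hd : φ d = e) :
    (A.map φ).det = e := by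
  rw [← RingHom.mapMatrix_apply, ← RingHom.map_det, h, hd]

theorem com_of_cert (φ : R →+* F) (g L₁ U₁ L₂ U₂ : Matrix (Fin n) (Fin n) R) (h : IsCert g L₁ U₁ L₂ U₂) :
    Com (g.map φ) := by
  refine ⟨(L₁ * U₁).map φ, (L₂ * U₂).map φ, det_map_of φ (det_lu h.1) (map_one φ),
    det_map_of φ (det_lu h.2.1) (map_one φ), ?_⟩
  rw [← Matrix.map_mul, ← Matrix.map_mul, ← Matrix.map_mul, h.2.2]

theorem top_of_cert (φ : R →+* F) (p : R[X]) (g L₁ U₁ L₂ U₂ K : Matrix (Fin n) (Fin n) R)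
    (h : IsCert g L₁ U₁ L₂ U₂) (B : Matrix (Fin n) (Fin n) R → Matrix (Fin n) (Fin n) R)
    (hB : ∀ b, aeval b p = B b) (hK : B (L₂ * U₂) * K = 1) : Top (p.map φ) (g.map φ) := by
  refine ⟨(L₁ * U₁).map φ, (L₂ * U₂).map φ, det_map_of φ (det_lu h.1) (map_one φ),
    det_map_of φ (det_lu h.2.1) (map_one φ), by rw [← Matrix.map_mul, ← Matrix.map_mul, ← Matrix.map_mul, h.2.2], ?_⟩
  have e : aeval ((L₂ * U₂).map φ) (p.map φ) = (aeval (L₂ * U₂) p).map φ := by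
    refine (Polynomial.map_aeval_eq_aeval_map (φ := φ) (ψ := (φ.mapMatrix : Matrix (Fin n) (Fin n) R →+* _)) ?_ p _).symm
    refine RingHom.ext fun c => ?_
    ext i j
    simp [Matrix.algebraMap_matrix_apply, apply_ite φ]
  rw [e, hB]
  exact IsUnit.of_mul_eq_one (K.map φ) (by rw [← Matrix.map_mul, hK]; simp)

theorem sim_of_cert (φ : R →+* F) (A T P Q : Matrix (Fin n) (Fin n) R)
    (h : P * Q = 1 ∧ Q * P = 1 ∧ A = P * T * Q) : Sim (A.map φ) (T.map φ) := by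
  obtain ⟨h1, h2, h3⟩ := h
  exact ⟨P.map φ, Q.map φ, by rw [← Matrix.map_mul, h1]; simp, by rw [← Matrix.map_mul, h2]; simp,
    by rw [h3, Matrix.map_mul, Matrix.map_mul]⟩

theorem reindex_two {a b : ℕ} {R S : Type*} [Ring R] [Field S] {φ : R → S} {A : Matrix (Fin a) (Fin a) R}
    {B : Matrix (Fin b) (Fin b) R} (hφ : φ 0 = 0)
    (h : Com ((Matrix.reindex finSumFinEquiv finSumFinEquiv (fromBlocks A 0 0 B)).map φ)) :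
    Com (fromBlocks (A.map φ) 0 0 (B.map φ)) := by
  rw [map_reindex, Matrix.fromBlocks_map, Matrix.map_zero _ hφ, Matrix.map_zero _ hφ] at h
  exact h.sim (sim_reindex _ _)

theorem reindex_three {a b c : ℕ} {R S : Type*} [Ring R] [Field S] {φ : R → S} {A : Matrix (Fin a) (Fin a) R}
    {B : Matrix (Fin b) (Fin b) R} {C : Matrix (Fin c) (Fin c) R} (hφ : φ 0 = 0)
    (h : Com ((Matrix.reindex finSumFinEquiv finSumFinEquiv (fromBlocks A 0 0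
      (Matrix.reindex finSumFinEquiv finSumFinEquiv (fromBlocks B 0 0 C)))).map φ)) :
    Com (fromBlocks (A.map φ) 0 0 (fromBlocks (B.map φ) 0 0 (C.map φ))) := by
  have h' := reindex_two hφ h
  rw [map_reindex, Matrix.fromBlocks_map, Matrix.map_zero _ hφ, Matrix.map_zero _ hφ] at h'
  exact h'.sim ((Sim.refl _).blocks (sim_reindex _ _))

theorem com_w3_two [CharP F 2] : Com (fromBlocks (Jb 2 (1 : F)) 0 0 (Jb 1 (1 : F))) := by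
  have h := com_of_cert (ZMod.castHom dvd_rfl F) (Matrix.reindex finSumFinEquiv finSumFinEquiv (fromBlocks (Jb 2 (1 : ZMod 2)) 0 0 (Jb 1 (1 : ZMod 2))))
    (!![1, 0, 0; 0, 1, 0; 0, 0, 1]) (!![1, 0, 0; 0, 1, 1; 0, 0, 1])
    (!![1, 0, 0; 1, 1, 0; 1, 0, 1]) (!![1, 0, 1; 0, 1, 0; 0, 0, 1]) (by decide +kernel)
  simpa [Jb_map, qaM_map, qbM_map] using reindex_two (map_zero (ZMod.castHom dvd_rfl F)) h

theorem com_w3_three [CharP F 3] : Com (fromBlocks (Jb 2 (1 : F)) 0 0 (Jb 1 (1 : F))) := by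
  have h := com_of_cert (ZMod.castHom dvd_rfl F) (Matrix.reindex finSumFinEquiv finSumFinEquiv (fromBlocks (Jb 2 (1 : ZMod 3)) 0 0 (Jb 1 (1 : ZMod 3))))
    (!![1, 0, 0; 1, 1, 0; 1, 0, 1]) (!![1, 0, 0; 0, 2, 0; 0, 0, 2])
    (!![1, 0, 0; 1, 1, 0; 1, 0, 1]) (!![1, 0, 0; 0, 2, 2; 0, 0, 2]) (by decide +kernel)
  simpa [Jb_map, qaM_map, qbM_map] using reindex_two (map_zero (ZMod.castHom dvd_rfl F)) h

theorem com_w4_two [CharP F 2] : Com (fromBlocks (Jb 2 (1 : F)) 0 0 (Jb 2 (1 : F))) := by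
  have h := com_of_cert (ZMod.castHom dvd_rfl F) (Matrix.reindex finSumFinEquiv finSumFinEquiv (fromBlocks (Jb 2 (1 : ZMod 2)) 0 0 (Jb 2 (1 : ZMod 2))))
    (!![1, 0, 0, 0; 1, 1, 0, 0; 0, 0, 1, 0; 1, 0, 0, 1]) (!![1, 1, 1, 0; 0, 1, 0, 0; 0, 0, 1, 1; 0, 0, 0, 1])
    (!![1, 0, 0, 0; 0, 1, 0, 0; 1, 1, 1, 0; 1, 0, 1, 1]) (!![1, 0, 1, 1; 0, 1, 0, 1; 0, 0, 1, 0; 0, 0, 0, 1]) (by decide +kernel)
  simpa [Jb_map, qaM_map, qbM_map] using reindex_two (map_zero (ZMod.castHom dvd_rfl F)) h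

theorem com_w4_three [CharP F 3] : Com (fromBlocks (Jb 2 (1 : F)) 0 0 (Jb 2 (1 : F))) := by
  have h := com_of_cert (ZMod.castHom dvd_rfl F) (Matrix.reindex finSumFinEquiv finSumFinEquiv (fromBlocks (Jb 2 (1 : ZMod 3)) 0 0 (Jb 2 (1 : ZMod 3))))
    (!![1, 0, 0, 0; 1, 1, 0, 0; 1, 2, 1, 0; 2, 0, 0, 1]) (!![2, 2, 1, 0; 0, 1, 0, 1; 0, 0, 2, 2; 0, 0, 0, 1])
    (!![1, 0, 0, 0; 1, 1, 0, 0; 1, 1, 1, 0; 2, 2, 0, 1]) (!![2, 1, 0, 1; 0, 2, 0, 1; 0, 0, 2, 0; 0, 0, 0, 2]) (by decide +kernel)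
  simpa [Jb_map, qaM_map, qbM_map] using reindex_two (map_zero (ZMod.castHom dvd_rfl F)) h

theorem com_w4_neg [CharP F 3] : Com (fromBlocks (Jb 2 (-1 : F)) 0 0 (Jb 2 (-1 : F))) := by
  have h := com_of_cert (ZMod.castHom dvd_rfl F) (Matrix.reindex finSumFinEquiv finSumFinEquiv (fromBlocks (Jb 2 (-1 : ZMod 3)) 0 0 (Jb 2 (-1 : ZMod 3))))
    (!![1, 0, 0, 0; 1, 1, 0, 0; 1, 1, 1, 0; 0, 2, 1, 1]) (!![1, 1, 0, 0; 0, 2, 1, 2; 0, 0, 2, 1; 0, 0, 0, 1])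
    (!![1, 0, 0, 0; 0, 1, 0, 0; 1, 2, 1, 0; 2, 0, 0, 1]) (!![2, 2, 0, 1; 0, 1, 0, 1; 0, 0, 1, 2; 0, 0, 0, 2]) (by decide +kernel)
  simpa [Jb_map, qaM_map, qbM_map] using reindex_two (map_zero (ZMod.castHom dvd_rfl F)) h

theorem com_w4_neg_one_one [CharP F 3] : Com (fromBlocks (Jb 2 (-1 : F)) 0 0 (fromBlocks (Jb 1 (-1 : F)) 0 0 (Jb 1 (-1 : F)))) := by
  have h := com_of_cert (ZMod.castHom dvd_rfl F) (Matrix.reindex finSumFinEquiv finSumFinEquiv (fromBlocks (Jb 2 (-1 : ZMod 3)) 0 0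
      (Matrix.reindex finSumFinEquiv finSumFinEquiv (fromBlocks (Jb 1 (-1 : ZMod 3)) 0 0 (Jb 1 (-1 : ZMod 3))))))
    (!![1, 0, 0, 0; 1, 1, 0, 0; 0, 0, 1, 0; 0, 0, 2, 1]) (!![2, 0, 0, 0; 0, 1, 2, 0; 0, 0, 2, 0; 0, 0, 0, 1])
    (!![1, 0, 0, 0; 2, 1, 0, 0; 1, 0, 1, 0; 1, 0, 2, 1]) (!![2, 2, 0, 2; 0, 2, 2, 0; 0, 0, 1, 2; 0, 0, 0, 1]) (by decide +kernel)
  simpa [Jb_map, qaM_map, qbM_map] using reindex_three (map_zero (ZMod.castHom dvd_rfl F)) h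

theorem com_w5_two [CharP F 2] : Com (fromBlocks (Jb 2 (1 : F)) 0 0 (Jb 3 (1 : F))) := by
  have h := com_of_cert (ZMod.castHom dvd_rfl F) (Matrix.reindex finSumFinEquiv finSumFinEquiv (fromBlocks (Jb 2 (1 : ZMod 2)) 0 0 (Jb 3 (1 : ZMod 2))))
    (!![1, 0, 0, 0, 0; 0, 1, 0, 0, 0; 1, 0, 1, 0, 0; 0, 1, 1, 1, 0; 0, 0, 1, 0, 1]) (!![1, 1, 0, 1, 1; 0, 1, 1, 1, 1; 0, 0, 1, 1, 0; 0, 0, 0, 1, 1; 0, 0, 0, 0, 1])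
    (!![1, 0, 0, 0, 0; 0, 1, 0, 0, 0; 1, 1, 1, 0, 0; 0, 1, 1, 1, 0; 1, 1, 1, 1, 1]) (!![1, 1, 1, 0, 0; 0, 1, 0, 0, 0; 0, 0, 1, 1, 1; 0, 0, 0, 1, 1; 0, 0, 0, 0, 1]) (by decide +kernel)
  simpa [Jb_map, qaM_map, qbM_map] using reindex_two (map_zero (ZMod.castHom dvd_rfl F)) h

theorem com_w5_three [CharP F 3] : Com (fromBlocks (Jb 2 (1 : F)) 0 0 (Jb 3 (1 : F))) := by
  have h := com_of_cert (ZMod.castHom dvd_rfl F) (Matrix.reindex finSumFinEquiv finSumFinEquiv (fromBlocks (Jb 2 (1 : ZMod 3)) 0 0 (Jb 3 (1 : ZMod 3))))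
    (!![1, 0, 0, 0, 0; 1, 1, 0, 0, 0; 2, 0, 1, 0, 0; 0, 2, 0, 1, 0; 2, 2, 1, 0, 1]) (!![2, 0, 1, 2, 2; 0, 1, 2, 0, 1; 0, 0, 2, 1, 0; 0, 0, 0, 1, 0; 0, 0, 0, 0, 1])
    (!![1, 0, 0, 0, 0; 1, 1, 0, 0, 0; 2, 2, 1, 0, 0; 2, 0, 1, 1, 0; 1, 2, 1, 2, 1]) (!![2, 0, 2, 1, 2; 0, 2, 0, 0, 0; 0, 0, 2, 0, 2; 0, 0, 0, 1, 1; 0, 0, 0, 0, 2]) (by decide +kernel)
  simpa [Jb_map, qaM_map, qbM_map] using reindex_two (map_zero (ZMod.castHom dvd_rfl F)) h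

theorem com_w6_two [CharP F 2] : Com (fromBlocks (Jb 2 (1 : F)) 0 0 (fromBlocks (Jb 2 (1 : F)) 0 0 (Jb 2 (1 : F)))) := by
  have h := com_of_cert (ZMod.castHom dvd_rfl F) (Matrix.reindex finSumFinEquiv finSumFinEquiv (fromBlocks (Jb 2 (1 : ZMod 2)) 0 0
      (Matrix.reindex finSumFinEquiv finSumFinEquiv (fromBlocks (Jb 2 (1 : ZMod 2)) 0 0 (Jb 2 (1 : ZMod 2))))))
    (!![1, 0, 0, 0, 0, 0; 0, 1, 0, 0, 0, 0; 0, 1, 1, 0, 0, 0; 0, 1, 0, 1, 0, 0; 1, 0, 0, 0, 1, 0; 0, 0, 0, 0, 1, 1]) (!![1, 0, 0, 0, 0, 0; 0, 1, 0, 0, 0, 1; 0, 0, 1, 0, 1, 1; 0, 0, 0, 1, 0, 0; 0, 0, 0, 0, 1, 0; 0, 0, 0, 0, 0, 1])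
    (!![1, 0, 0, 0, 0, 0; 0, 1, 0, 0, 0, 0; 0, 0, 1, 0, 0, 0; 0, 0, 0, 1, 0, 0; 1, 1, 0, 0, 1, 0; 1, 0, 0, 0, 1, 1]) (!![1, 0, 0, 0, 0, 0; 0, 1, 1, 1, 0, 0; 0, 0, 1, 1, 1, 0; 0, 0, 0, 1, 0, 1; 0, 0, 0, 0, 1, 1; 0, 0, 0, 0, 0, 1]) (by decide +kernel)
  simpa [Jb_map, qaM_map, qbM_map] using reindex_three (map_zero (ZMod.castHom dvd_rfl F)) h

theorem com_w6_three [CharP F 3] : Com (fromBlocks (Jb 2 (1 : F)) 0 0 (fromBlocks (Jb 2 (1 : F)) 0 0 (Jb 2 (1 : F)))) := by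
  have h := com_of_cert (ZMod.castHom dvd_rfl F) (Matrix.reindex finSumFinEquiv finSumFinEquiv (fromBlocks (Jb 2 (1 : ZMod 3)) 0 0
      (Matrix.reindex finSumFinEquiv finSumFinEquiv (fromBlocks (Jb 2 (1 : ZMod 3)) 0 0 (Jb 2 (1 : ZMod 3))))))
    (!![1, 0, 0, 0, 0, 0; 2, 1, 0, 0, 0, 0; 2, 0, 1, 0, 0, 0; 1, 0, 2, 1, 0, 0; 0, 1, 0, 0, 1, 0; 2, 1, 2, 0, 2, 1]) (!![1, 2, 2, 2, 0, 2; 0, 2, 1, 0, 2, 0; 0, 0, 2, 1, 2, 0; 0, 0, 0, 1, 1, 2; 0, 0, 0, 0, 2, 2; 0, 0, 0, 0, 0, 2])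
    (!![1, 0, 0, 0, 0, 0; 0, 1, 0, 0, 0, 0; 1, 2, 1, 0, 0, 0; 2, 0, 0, 1, 0, 0; 0, 2, 2, 1, 1, 0; 1, 1, 0, 1, 1, 1]) (!![2, 1, 0, 2, 1, 0; 0, 2, 1, 0, 1, 1; 0, 0, 1, 2, 2, 0; 0, 0, 0, 2, 2, 1; 0, 0, 0, 0, 1, 1; 0, 0, 0, 0, 0, 2]) (by decide +kernel)
  simpa [Jb_map, qaM_map, qbM_map] using reindex_three (map_zero (ZMod.castHom dvd_rfl F)) h

theorem com_w6_neg [CharP F 3] : Com (fromBlocks (Jb 2 (-1 : F)) 0 0 (fromBlocks (Jb 2 (-1 : F)) 0 0 (Jb 2 (-1 : F)))) := by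
  have h := com_of_cert (ZMod.castHom dvd_rfl F) (Matrix.reindex finSumFinEquiv finSumFinEquiv (fromBlocks (Jb 2 (-1 : ZMod 3)) 0 0
      (Matrix.reindex finSumFinEquiv finSumFinEquiv (fromBlocks (Jb 2 (-1 : ZMod 3)) 0 0 (Jb 2 (-1 : ZMod 3))))))
    (!![1, 0, 0, 0, 0, 0; 1, 1, 0, 0, 0, 0; 2, 2, 1, 0, 0, 0; 1, 2, 0, 1, 0, 0; 0, 0, 1, 0, 1, 0; 0, 0, 2, 0, 1, 1]) (!![2, 0, 2, 1, 2, 2; 0, 1, 0, 2, 1, 2; 0, 0, 2, 0, 1, 1; 0, 0, 0, 1, 1, 0; 0, 0, 0, 0, 2, 1; 0, 0, 0, 0, 0, 2])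
    (!![1, 0, 0, 0, 0, 0; 0, 1, 0, 0, 0, 0; 2, 1, 1, 0, 0, 0; 0, 1, 1, 1, 0, 0; 0, 0, 1, 0, 1, 0; 1, 1, 1, 2, 0, 1]) (!![1, 2, 0, 2, 1, 2; 0, 1, 1, 0, 0, 2; 0, 0, 2, 2, 2, 1; 0, 0, 0, 1, 2, 1; 0, 0, 0, 0, 1, 1; 0, 0, 0, 0, 0, 2]) (by decide +kernel)
  simpa [Jb_map, qaM_map, qbM_map] using reindex_three (map_zero (ZMod.castHom dvd_rfl F)) h

theorem com_w6_mixed [CharP F 3] : Com (fromBlocks (Jb 2 (1 : F)) 0 0 (fromBlocks (Jb 2 (-1 : F)) 0 0 (Jb 2 (-1 : F)))) := by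
  have h := com_of_cert (ZMod.castHom dvd_rfl F) (Matrix.reindex finSumFinEquiv finSumFinEquiv (fromBlocks (Jb 2 (1 : ZMod 3)) 0 0
      (Matrix.reindex finSumFinEquiv finSumFinEquiv (fromBlocks (Jb 2 (-1 : ZMod 3)) 0 0 (Jb 2 (-1 : ZMod 3))))))
    (!![1, 0, 0, 0, 0, 0; 0, 1, 0, 0, 0, 0; 0, 1, 1, 0, 0, 0; 0, 0, 2, 1, 0, 0; 0, 2, 2, 1, 1, 0; 1, 1, 2, 2, 1, 1]) (!![1, 2, 2, 1, 1, 2; 0, 1, 1, 0, 2, 1; 0, 0, 1, 2, 1, 0; 0, 0, 0, 2, 2, 2; 0, 0, 0, 0, 1, 0; 0, 0, 0, 0, 0, 2])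
    (!![1, 0, 0, 0, 0, 0; 0, 1, 0, 0, 0, 0; 0, 2, 1, 0, 0, 0; 0, 0, 1, 1, 0, 0; 2, 2, 0, 2, 1, 0; 2, 0, 1, 1, 0, 1]) (!![1, 0, 1, 1, 2, 0; 0, 2, 1, 0, 2, 2; 0, 0, 1, 2, 1, 0; 0, 0, 0, 2, 1, 1; 0, 0, 0, 0, 1, 2; 0, 0, 0, 0, 0, 1]) (by decide +kernel)
  simpa [Jb_map, qaM_map, qbM_map] using reindex_three (map_zero (ZMod.castHom dvd_rfl F)) h

theorem com_w6_mixed_neg [CharP F 3] : Com (fromBlocks (Jb 2 (-1 : F)) 0 0 (fromBlocks (Jb 2 (1 : F)) 0 0 (Jb 2 (1 : F)))) := by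
  have h := com_of_cert (ZMod.castHom dvd_rfl F) (Matrix.reindex finSumFinEquiv finSumFinEquiv (fromBlocks (Jb 2 (-1 : ZMod 3)) 0 0
      (Matrix.reindex finSumFinEquiv finSumFinEquiv (fromBlocks (Jb 2 (1 : ZMod 3)) 0 0 (Jb 2 (1 : ZMod 3))))))
    (!![1, 0, 0, 0, 0, 0; 1, 1, 0, 0, 0, 0; 1, 0, 1, 0, 0, 0; 1, 2, 0, 1, 0, 0; 0, 2, 0, 0, 1, 0; 2, 0, 0, 0, 2, 1]) (!![1, 0, 0, 0, 1, 2; 0, 1, 1, 0, 0, 1; 0, 0, 1, 1, 0, 0; 0, 0, 0, 1, 1, 1; 0, 0, 0, 0, 2, 2; 0, 0, 0, 0, 0, 2])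
    (!![1, 0, 0, 0, 0, 0; 2, 1, 0, 0, 0, 0; 0, 2, 1, 0, 0, 0; 2, 1, 1, 1, 0, 0; 0, 1, 2, 2, 1, 0; 0, 0, 2, 0, 2, 1]) (!![2, 1, 2, 2, 1, 0; 0, 1, 1, 1, 2, 1; 0, 0, 2, 2, 2, 2; 0, 0, 0, 1, 1, 2; 0, 0, 0, 0, 1, 2; 0, 0, 0, 0, 0, 1]) (by decide +kernel)
  simpa [Jb_map, qaM_map, qbM_map] using reindex_three (map_zero (ZMod.castHom dvd_rfl F)) h

theorem com_w6_neg_four [CharP F 3] : Com (fromBlocks (Jb 2 (-1 : F)) 0 0 (Jb 4 (-1 : F))) := by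
  have h := com_of_cert (ZMod.castHom dvd_rfl F) (Matrix.reindex finSumFinEquiv finSumFinEquiv (fromBlocks (Jb 2 (-1 : ZMod 3)) 0 0 (Jb 4 (-1 : ZMod 3))))
    (!![1, 0, 0, 0, 0, 0; 1, 1, 0, 0, 0, 0; 1, 1, 1, 0, 0, 0; 1, 1, 2, 1, 0, 0; 1, 1, 0, 2, 1, 0; 1, 0, 1, 1, 0, 1]) (!![2, 1, 1, 2, 2, 1; 0, 2, 0, 2, 1, 2; 0, 0, 1, 2, 2, 0; 0, 0, 0, 1, 2, 0; 0, 0, 0, 0, 2, 1; 0, 0, 0, 0, 0, 2])
    (!![1, 0, 0, 0, 0, 0; 0, 1, 0, 0, 0, 0; 2, 0, 1, 0, 0, 0; 2, 1, 2, 1, 0, 0; 2, 2, 0, 2, 1, 0; 2, 0, 2, 1, 1, 1]) (!![1, 1, 0, 0, 1, 2; 0, 1, 0, 0, 2, 2; 0, 0, 2, 0, 0, 1; 0, 0, 0, 2, 0, 1; 0, 0, 0, 0, 2, 2; 0, 0, 0, 0, 0, 2]) (by decide +kernel)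
  simpa [Jb_map, qaM_map, qbM_map] using reindex_two (map_zero (ZMod.castHom dvd_rfl F)) h

theorem com_w8_neg [CharP F 3] : Com (fromBlocks (Jb 2 (-1 : F)) 0 0 (fromBlocks (Jb 3 (-1 : F)) 0 0 (Jb 3 (-1 : F)))) := by
  have h := com_of_cert (ZMod.castHom dvd_rfl F) (Matrix.reindex finSumFinEquiv finSumFinEquiv (fromBlocks (Jb 2 (-1 : ZMod 3)) 0 0
      (Matrix.reindex finSumFinEquiv finSumFinEquiv (fromBlocks (Jb 3 (-1 : ZMod 3)) 0 0 (Jb 3 (-1 : ZMod 3))))))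
    (!![1, 0, 0, 0, 0, 0, 0, 0; 0, 1, 0, 0, 0, 0, 0, 0; 1, 2, 1, 0, 0, 0, 0, 0; 0, 2, 1, 1, 0, 0, 0, 0; 0, 1, 2, 0, 1, 0, 0, 0; 2, 0, 0, 0, 2, 1, 0, 0; 1, 2, 1, 2, 0, 1, 1, 0; 2, 1, 2, 2, 0, 1, 0, 1]) (!![1, 0, 1, 2, 2, 2, 0, 0; 0, 1, 0, 1, 1, 0, 0, 1; 0, 0, 1, 1, 0, 1, 0, 2; 0, 0, 0, 2, 1, 1, 1, 0; 0, 0, 0, 0, 2, 0, 2, 2; 0, 0, 0, 0, 0, 1, 0, 1; 0, 0, 0, 0, 0, 0, 1, 1; 0, 0, 0, 0, 0, 0, 0, 1])
    (!![1, 0, 0, 0, 0, 0, 0, 0; 0, 1, 0, 0, 0, 0, 0, 0; 0, 2, 1, 0, 0, 0, 0, 0; 0, 2, 1, 1, 0, 0, 0, 0; 1, 2, 2, 1, 1, 0, 0, 0; 2, 0, 0, 2, 1, 1, 0, 0; 0, 0, 1, 0, 2, 1, 1, 0; 2, 0, 0, 0, 0, 0, 0, 1]) (!![2, 0, 1, 2, 1, 2, 0, 0; 0, 2, 0, 0, 0, 1, 0, 1; 0, 0, 2, 0, 1, 2, 2, 0; 0, 0, 0, 2, 0, 2, 2, 0; 0, 0, 0, 0, 1, 0, 2, 2; 0, 0, 0, 0, 0, 2, 2, 2; 0, 0, 0, 0, 0, 0, 1, 0; 0, 0, 0, 0, 0, 0, 0, 2]) (by decide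 +kernel)
  simpa [Jb_map, qaM_map, qbM_map] using reindex_three (map_zero (ZMod.castHom dvd_rfl F)) h

theorem com_qA_qA [CharP F 3] : Com (fromBlocks (qaM F) 0 0 (qaM F)) := by
  have h := com_of_cert (ZMod.castHom dvd_rfl F) (Matrix.reindex finSumFinEquiv finSumFinEquiv (fromBlocks (qaM (ZMod 3)) 0 0 (qaM (ZMod 3))))
    (!![1, 0, 0, 0; 2, 1, 0, 0; 0, 0, 1, 0; 1, 1, 1, 1]) (!![2, 2, 1, 0; 0, 1, 2, 0; 0, 0, 1, 2; 0, 0, 0, 2])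
    (!![1, 0, 0, 0; 1, 1, 0, 0; 0, 2, 1, 0; 1, 0, 1, 1]) (!![1, 0, 2, 1; 0, 1, 0, 1; 0, 0, 1, 1; 0, 0, 0, 1]) (by decide +kernel)
  simpa [Jb_map, qaM_map, qbM_map] using reindex_two (map_zero (ZMod.castHom dvd_rfl F)) h

theorem com_qB_qB [CharP F 3] : Com (fromBlocks (qbM F) 0 0 (qbM F)) := by
  have h := com_of_cert (ZMod.castHom dvd_rfl F) (Matrix.reindex finSumFinEquiv finSumFinEquiv (fromBlocks (qbM (ZMod 3)) 0 0 (qbM (ZMod 3))))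
    (!![1, 0, 0, 0; 2, 1, 0, 0; 0, 2, 1, 0; 1, 2, 0, 1]) (!![2, 1, 0, 1; 0, 2, 0, 1; 0, 0, 1, 1; 0, 0, 0, 1])
    (!![1, 0, 0, 0; 2, 1, 0, 0; 0, 1, 1, 0; 2, 2, 1, 1]) (!![1, 1, 0, 0; 0, 2, 2, 2; 0, 0, 2, 0; 0, 0, 0, 1]) (by decide +kernel)
  simpa [Jb_map, qaM_map, qbM_map] using reindex_two (map_zero (ZMod.castHom dvd_rfl F)) h

theorem com_qC [CharP F 3] : Com (qcM F) := by
  have h := com_of_cert (ZMod.castHom dvd_rfl F) (qcM (ZMod 3))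
    (!![1, 0; 2, 1]) (!![1, 2; 0, 1])
    (!![1, 0; 0, 1]) (!![2, 1; 0, 2]) (by decide +kernel)
  simpa [qcM_map] using h

theorem com_qA_two [CharP F 2] : Com (qaM F) := by
  have h := com_of_cert (ZMod.castHom dvd_rfl F) (qaM (ZMod 2))
    (!![1, 0; 1, 1]) (!![1, 1; 0, 1])
    (!![1, 0; 1, 1]) (!![1, 0; 0, 1]) (by decide +kernel)
  simpa [qaM_map] using h

theorem top_three_two [CharP F 2] : Top ((X : F[X]) ^ 3 - 1) (Jb 3 (1 : F)) := by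
  have h := top_of_cert (F := F) (ZMod.castHom dvd_rfl F) ((X : (ZMod 2)[X]) ^ 3 - 1) (Jb 3 (1 : ZMod 2))
    (!![1, 0, 0; 0, 1, 0; 1, 1, 1]) (!![1, 0, 0; 0, 1, 0; 0, 0, 1])
    (!![1, 0, 0; 1, 1, 0; 0, 1, 1]) (!![1, 1, 0; 0, 1, 1; 0, 0, 1]) (!![0, 1, 0; 1, 1, 1; 0, 1, 1]) (by decide +kernel) (fun b => (b) ^ 3 - 1) (fun b => by simp) (by decide +kernel)
  simpa [Jb_map] using h

theorem top_three_three [CharP F 3] : Top ((X : F[X]) ^ 8 - 1) (Jb 3 (1 : F)) := by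
  have h := top_of_cert (F := F) (ZMod.castHom dvd_rfl F) ((X : (ZMod 3)[X]) ^ 8 - 1) (Jb 3 (1 : ZMod 3))
    (!![1, 0, 0; 0, 1, 0; 0, 2, 1]) (!![1, 1, 2; 0, 2, 1; 0, 0, 2])
    (!![1, 0, 0; 2, 1, 0; 2, 1, 1]) (!![2, 0, 1; 0, 1, 1; 0, 0, 2]) (!![1, 0, 1; 1, 0, 0; 1, 1, 1]) (by decide +kernel) (fun b => (b) ^ 8 - 1) (fun b => by simp) (by decide +kernel)
  simpa [Jb_map] using h

theorem top_four [CharP F 3] : Top ((X : F[X]) ^ 8 - 1) (Jb 4 (-1 : F)) := by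
  have h := top_of_cert (F := F) (ZMod.castHom dvd_rfl F) ((X : (ZMod 3)[X]) ^ 8 - 1) (Jb 4 (-1 : ZMod 3))
    (!![1, 0, 0, 0; 2, 1, 0, 0; 0, 2, 1, 0; 0, 1, 0, 1]) (!![2, 0, 1, 0; 0, 2, 0, 2; 0, 0, 2, 1; 0, 0, 0, 2])
    (!![1, 0, 0, 0; 1, 1, 0, 0; 1, 1, 1, 0; 0, 2, 0, 1]) (!![1, 1, 0, 0; 0, 1, 2, 2; 0, 0, 1, 2; 0, 0, 0, 1]) (!![1, 0, 2, 1; 2, 1, 2, 0; 1, 1, 2, 0; 2, 2, 2, 0]) (by decide +kernel) (fun b => (b) ^ 8 - 1) (fun b => by simp) (by decide +kernel)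
  simpa [Jb_map] using h

theorem top_neg_two [CharP F 3] : Top (((X : F[X]) ^ 2 - 1) * (X ^ 2 + X - 1)) ((-1 : Matrix (Fin 2) (Fin 2) F)) := by
  have h := top_of_cert (F := F) (ZMod.castHom dvd_rfl F) (((X : (ZMod 3)[X]) ^ 2 - 1) * (X ^ 2 + X - 1)) ((-1 : Matrix (Fin 2) (Fin 2) (ZMod 3)))
    (!![1, 0; 1, 1]) (!![2, 2; 0, 2])
    (!![1, 0; 2, 1]) (!![2, 1; 0, 2]) (!![1, 1; 1, 0]) (by decide +kernel) (fun b => (((b) ^ 2 - 1) * ((b) ^ 2 + (b) - 1))) (fun b => by simp) (by decide +kernel)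
  simpa [← RingHom.mapMatrix_apply] using h

theorem partner_two_qA [CharP F 3] : ∃ Y : Matrix (Fin 2) (Fin 2) F, Y.det = -1 ∧
    Sim Y (qaM F) ∧ Sim (qaM F * Y) (qcM F) := by
  refine ⟨(!![0, 1; 1, 2] : Matrix (Fin 2) (Fin 2) (ZMod 3)).map (ZMod.castHom dvd_rfl F), ?_, ?_, ?_⟩
  · exact det_map_of (ZMod.castHom dvd_rfl F) (e := -1) (d := -1) (by decide +kernel) (by simp)
  · simpa [qaM_map] using sim_of_cert (ZMod.castHom dvd_rfl F) (!![0, 1; 1, 2]) (qaM (ZMod 3))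
      (!![1, 0; 0, 1]) (!![1, 0; 0, 1]) (by decide +kernel)
  · have h := sim_of_cert (ZMod.castHom dvd_rfl F) (qaM (ZMod 3) * !![0, 1; 1, 2]) (qcM (ZMod 3))
      (!![1, 0; 1, 1]) (!![1, 0; 2, 1]) (by decide +kernel)
    rw [Matrix.map_mul, qaM_map, qcM_map] at h
    exact h

theorem partner_two_qB [CharP F 3] : ∃ Y : Matrix (Fin 2) (Fin 2) F, Y.det = -1 ∧
    Sim Y (qaM F) ∧ Sim (qbM F * Y) (qcM F) := by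
  refine ⟨(!![0, 2; 2, 2] : Matrix (Fin 2) (Fin 2) (ZMod 3)).map (ZMod.castHom dvd_rfl F), ?_, ?_, ?_⟩
  · exact det_map_of (ZMod.castHom dvd_rfl F) (e := -1) (d := -1) (by decide +kernel) (by simp)
  · simpa [qaM_map] using sim_of_cert (ZMod.castHom dvd_rfl F) (!![0, 2; 2, 2]) (qaM (ZMod 3))
      (!![2, 2; 1, 0]) (!![0, 1; 2, 2]) (by decide +kernel)
  · have h := sim_of_cert (ZMod.castHom dvd_rfl F) (qbM (ZMod 3) * !![0, 2; 2, 2]) (qcM (ZMod 3))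
      (!![2, 1; 0, 1]) (!![2, 1; 0, 1]) (by decide +kernel)
    rw [Matrix.map_mul, qbM_map, qcM_map] at h
    exact h

theorem partner_three [CharP F 3] : ∃ Y : Matrix (Fin 3) (Fin 3) F, Y.det = 1 ∧
    Sim Y (fromBlocks (Jb 1 (-1 : F)) 0 0 (qaM F)) ∧
      Sim (Matrix.reindex finSumFinEquiv finSumFinEquiv (fromBlocks (Jb 2 (-1 : F)) 0 0 (Jb 1 (-1 : F))) * Y)
        (fromBlocks (Jb 1 (-1 : F)) 0 0 (qcM F)) := by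
  refine ⟨(!![1, 0, 2; 1, 1, 2; 2, 2, 2] : Matrix (Fin 3) (Fin 3) (ZMod 3)).map (ZMod.castHom dvd_rfl F), ?_, ?_, ?_⟩
  · exact det_map_of (ZMod.castHom dvd_rfl F) (e := 1) (d := 1) (by decide +kernel) (by simp)
  · refine Sim.trans ?_ (sim_reindex finSumFinEquiv _).symm
    have h := sim_of_cert (ZMod.castHom dvd_rfl F) (!![1, 0, 2; 1, 1, 2; 2, 2, 2]) (Matrix.reindex finSumFinEquiv finSumFinEquiv (fromBlocks (Jb 1 (-1 : ZMod 3)) 0 0 (qaM (ZMod 3))))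
        (!![1, 2, 0; 2, 1, 1; 2, 2, 1]) (!![1, 2, 1; 0, 2, 1; 1, 1, 0]) (by decide +kernel)
    rw [map_reindex, Matrix.fromBlocks_map] at h
    simpa [Jb_map, qaM_map] using h
  · refine Sim.trans ?_ (sim_reindex finSumFinEquiv _).symm
    have h := sim_of_cert (ZMod.castHom dvd_rfl F) (Matrix.reindex finSumFinEquiv finSumFinEquiv (fromBlocks (Jb 2 (-1 : ZMod 3)) 0 0 (Jb 1 (-1 : ZMod 3))) * !![1, 0, 2; 1, 1, 2; 2, 2, 2]) (Matrix.reindex finSumFinEquiv finSumFinEquiv (fromBlocks (Jb 1 (-1 : ZMod 3)) 0 0 (qcM (ZMod 3))))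
        (!![2, 2, 0; 1, 0, 0; 0, 2, 1]) (!![0, 1, 0; 2, 2, 0; 2, 2, 1]) (by decide +kernel)
    rw [Matrix.map_mul, map_reindex, map_reindex, Matrix.fromBlocks_map, Matrix.fromBlocks_map] at h
    simpa [Jb_map, qcM_map] using h

end Cfsg.Agent.Lie.SLComm
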