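import Mathlib
import Cfsg.Agent.Lib.Lie.SLComm.Hess

/-!
The key lemma for small fields: a companion matrix times a suitable block triangular matrix
has any prescribed characteristic polynomial of the right constant term, both being cyclic.
-/

set_option autoImplicit false
set_option linter.unusedSectionVars false

namespace Cfsg.Agent.Lie.SLComm

open Matrix Polynomial

universe u

variable {F : Type u} [Field F]

theorem cmp_mul_apply {m : ℕ} {ι : Type*} (f : F[X]) (M : Matrix (Fin (m + 1)) ι F) (i : Fin (m + 1)) (j : ι) :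
    (cmp (m + 1) f * M) i j =
      (if h : 0 < (i : ℕ) then M ⟨(i : ℕ) - 1, by omega⟩ j else 0) - f.coeff i * M (Fin.last m) j := by
  rw [Matrix.mul_apply, Fin.sum_univ_castSucc, sub_eq_add_neg, ← neg_mul]
  congr 1
  · split_ifs with h
    · rw [Finset.sum_eq_single ⟨(i : ℕ) - 1, by omega⟩]
      · simp [cmp, show (i : ℕ) - 1 + 1 = (i : ℕ) by omega]
        intro; omega
      · intro k _ hk
        simp [Fin.ext_iff] at hk
        simp [cmp, show ¬ (i : ℕ) = (k : ℕ) + 1 by omega]
      · simp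
    · exact Finset.sum_eq_zero fun k _ => by simp [cmp, show ¬ (i : ℕ) = (k : ℕ) + 1 by omega]
  · simp [cmp]

theorem cmp_mulVec {m : ℕ} (f : F[X]) (w : Fin (m + 1) → F) (hw : w (Fin.last m) = 0) (i : Fin (m + 1)) :
    (cmp (m + 1) f *ᵥ w) i = if h : 0 < (i : ℕ) then w ⟨(i : ℕ) - 1, by omega⟩ else 0 := by
  have h := cmp_mul_apply f (Matrix.of fun k (_ : Unit) => w k) i ()
  simp only [Matrix.of_apply, hw, mul_zero, sub_zero] at h
  exact h

theorem isCoprime_prod_linear {l : ℕ} (t : Fin l → F) (q : F[X]) (hq : ∀ i, q.eval (t i) ≠ 0) :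
    IsCoprime (∏ i, (X - C (t i))) q :=
  IsCoprime.prod_left fun i _ => (prime_X_sub_C (t i)).coprime_iff_not_dvd.2 fun h =>
    hq i (dvd_iff_isRoot.1 h)

/-- The key lemma. -/
theorem exists_partner {l : ℕ} (hl : 0 < l) (f : F[X]) (hf : f.Monic) (hfd : f.natDegree = l + 2)
    (t : Fin l → F) (ht : ∀ i, t i ≠ 0) (q : F[X]) (hq : q.Monic) (hqd : q.natDegree = 2)
    (hroot : ∀ i, q.eval (t i) ≠ 0)
    (g : F[X]) (hg : g.Monic) (hgd : g.natDegree = l + 2) (hg0 : g.coeff 0 = f.coeff 0 * (∏ i, t i) * q.coeff 0) :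
    ∃ X₀ : Matrix (Fin (l + 2)) (Fin (l + 2)) F, X₀.det = (∏ i, t i) * q.coeff 0 ∧
      Sim X₀ (fromBlocks (cmp l (∏ i, (X - C (t i)))) 0 0 (cmp 2 q)) ∧
      Sim (cmp (l + 2) f * X₀) (cmp (l + 2) g) := by
  classical
  let T : Matrix (Fin l) (Fin l) F :=
    Matrix.of fun i j => if i = j then t i else if (j : ℕ) = (i : ℕ) + 1 then 1 else 0
  let u : F := f.coeff (l + 1) + 1
  let Q : Matrix (Fin 2) (Fin 2) F := !![u, u * (-q.coeff 1 - u) - q.coeff 0; 1, -q.coeff 1 - u]
  let Xz : F → (Fin l → F) → Matrix (Fin (l + 2)) (Fin (l + 2)) F := fun z E =>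
    Matrix.reindex finSumFinEquiv finSumFinEquiv
      (fromBlocks T (Matrix.of fun i => ![if (i : ℕ) + 1 = l then z else 0, E i]) 0 Q)
  let wext : (Fin l → F) → Fin (l + 2) → F := fun E => Fin.append E 0
  let ez : F → Fin (l + 2) → F := fun z k => if (k : ℕ) + 1 = l then z else 0
  have hdec : ∀ z E, Xz z E = Xz 0 0 + Matrix.vecMulVec (ez z) (Pi.single ⟨l, by omega⟩ 1) +
      Matrix.vecMulVec (wext E) (Pi.single (Fin.last (l + 1)) 1) := by
    intro z E
    ext i j
    refine Fin.addCases (fun i => ?_) (fun i => ?_) i <;> refine Fin.addCases (fun j => ?_) (fun j => ?_) j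
    · simp [Xz, wext, ez, Matrix.vecMulVec_apply, Pi.single_apply, Fin.ext_iff, j.2.ne,
        show ¬ (j : ℕ) = l + 1 by omega]
    · fin_cases j <;> simp [Xz, wext, ez, Matrix.vecMulVec_apply, Pi.single_apply, Fin.ext_iff]
    · simp [Xz, wext, ez, Matrix.vecMulVec_apply, Pi.single_apply, Fin.ext_iff, j.2.ne,
        show ¬ (j : ℕ) = l + 1 by omega]
    · fin_cases j <;> simp [Xz, wext, ez, Matrix.vecMulVec_apply, Pi.single_apply, Fin.ext_iff,
        show ¬ (l + (i : ℕ) + 1 = l) by omega]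
  have hX0 : ∀ z E (i j : Fin (l + 2)), (j : ℕ) < l → (j : ℕ) < i → Xz z E i j = 0 := by
    intro z E i j hj hij
    revert hj hij
    refine Fin.addCases (fun j => ?_) (fun j => ?_) j
    · refine Fin.addCases (fun i => ?_) (fun i => ?_) i
      · intro _ h
        simp at h
        simp [Xz, T, show i ≠ j from (ne_of_gt h), show ¬ (j : ℕ) = (i : ℕ) + 1 by omega]
      · intros; simp [Xz]
    · intro h; simp at h
  have hXd : ∀ z E (j : Fin l), Xz z E (Fin.castAdd 2 j) (Fin.castAdd 2 j) = t j := fun z E j => by simp [Xz, T]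
  have hl0 : (⟨l, by omega⟩ : Fin (l + 2)) = Fin.natAdd l 0 := Fin.ext (by simp)
  have hl1 : Fin.last (l + 1) = Fin.natAdd l (1 : Fin 2) := Fin.ext (by simp)
  let Y : F → (Fin l → F) → Matrix (Fin (l + 2)) (Fin (l + 2)) F := fun z E => cmp (l + 2) f * Xz z E
  have hY : ∀ z E, Hess (Y z E) := by
    intro z E
    refine ⟨fun i j hij => ?_, fun i j hij => ?_⟩
    · show (cmp (l + 2) f * Xz z E) i j = 0
      rw [cmp_mul_apply, dif_pos (by omega), hX0 z E _ j (by omega) (by show (j : ℕ) < (i : ℕ) - 1; omega),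
        hX0 z E _ j (by omega) (by simp; omega), mul_zero, sub_zero]
    · show (cmp (l + 2) f * Xz z E) i j ≠ 0
      rw [cmp_mul_apply, dif_pos (by omega)]
      have hi : (⟨(i : ℕ) - 1, by omega⟩ : Fin (l + 2)) = j := Fin.ext (by simp; omega)
      rw [hi]
      by_cases hj : (j : ℕ) < l
      · rw [hX0 z E (Fin.last (l + 1)) j hj (by simp; omega), mul_zero, sub_zero,
          show j = Fin.castAdd 2 ⟨j, hj⟩ from Fin.ext rfl, hXd]
        exact ht _
      · have e1 : j = Fin.natAdd l (0 : Fin 2) := Fin.ext (by simp; omega)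
        rw [show (i : ℕ) = l + 1 by omega, e1, hl1]
        simp [Xz, Q, u]
  let e0 : Fin (l + 2) → F := Pi.single ⟨0, by omega⟩ 1
  have hk : ∀ z E, ∀ j, j < l + 1 → kry (Y z E) e0 j (Fin.last (l + 1)) = 0 := fun z E j hj =>
    (kry_hessenberg (Y z E) (by omega) (hY z E).1 j (by omega)).1 _ (by simp; omega)
  have hγ : ∀ z E, kry (Y z E) e0 (l + 1) (Fin.last (l + 1)) ≠ 0 := fun z E =>
    (kry_hessenberg (Y z E) (by omega) (hY z E).1 (l + 1) (by omega)).2 (hY z E).2
  -- the trace fixes the first parameter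
  let z : F := -g.coeff (l + 1) - (Y 0 0).trace
  have hYdec : ∀ E, Y z E = Y z 0 + Matrix.vecMulVec (cmp (l + 2) f *ᵥ wext E) (Pi.single (Fin.last (l + 1)) 1) := by
    intro E
    show cmp (l + 2) f * Xz z E = cmp (l + 2) f * Xz z 0 + _
    rw [hdec z E, hdec z 0, show wext 0 = 0 from funext (Fin.addCases (by simp [wext]) (by simp [wext])),
      Matrix.zero_vecMulVec, add_zero, Matrix.mul_add, Matrix.mul_vecMulVec]
  have hwlast : ∀ E, wext E (Fin.last (l + 1)) = 0 := fun E => by rw [hl1]; simp [wext]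
  have hezlast : ez z (Fin.last (l + 1)) = 0 := by
    simp [ez]
    intros; omega
  have htr : ∀ E, (Y z E).trace = -g.coeff (l + 1) := by
    intro E
    have e2 : Y z 0 = Y 0 0 + Matrix.vecMulVec (cmp (l + 2) f *ᵥ ez z) (Pi.single ⟨l, by omega⟩ 1) := by
      show cmp (l + 2) f * Xz z 0 = cmp (l + 2) f * Xz 0 0 + _
      rw [hdec z 0, show wext 0 = 0 from funext (Fin.addCases (by simp [wext]) (by simp [wext])),
        Matrix.zero_vecMulVec, add_zero, Matrix.mul_add, Matrix.mul_vecMulVec]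
    rw [hYdec E, e2, Matrix.trace_add, Matrix.trace_add, Matrix.trace_vecMulVec, Matrix.trace_vecMulVec,
      dotProduct_single_one, dotProduct_single_one, cmp_mulVec f _ hezlast, cmp_mulVec f _ (hwlast E),
      dif_pos (show 0 < l from hl), dif_pos (by simp),
      show (⟨((Fin.last (l + 1) : Fin (l + 2)) : ℕ) - 1, by simp⟩ : Fin (l + 2)) = Fin.natAdd l (0 : Fin 2) from
        Fin.ext (by simp)]
    simp [wext, ez, z, show l - 1 + 1 = l by omega]
  -- the last column fixes the second
  let δ : (Fin l → F) → Fin (l + 2) → F := fun E =>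
    kry (Y z E) e0 (l + 2) + ∑ j ∈ Finset.range (l + 2), g.coeff j • kry (Y z E) e0 j
  have hsame : ∀ E, ∀ j, j ≤ l + 1 → kry (Y z E) e0 j = kry (Y z 0) e0 j := by
    intro E j hj
    induction j with
    | zero => rw [kry_zero, kry_zero]
    | succ j ih =>
      rw [kry_succ, kry_succ, ih (by omega), hYdec E, Matrix.add_mulVec, Matrix.vecMulVec_mulVec,
        single_one_dotProduct, hk z 0 j (by omega)]
      simp
  set γ := kry (Y z 0) e0 (l + 1) (Fin.last (l + 1)) with hγdef
  have hδ : ∀ E, δ E = δ 0 + γ • (cmp (l + 2) f *ᵥ wext E) := by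
    intro E
    have hsum : ∑ j ∈ Finset.range (l + 2), g.coeff j • kry (Y z E) e0 j =
        ∑ j ∈ Finset.range (l + 2), g.coeff j • kry (Y z 0) e0 j :=
      Finset.sum_congr rfl fun j hj => by rw [hsame E j (by simp at hj; omega)]
    simp only [δ, hsum]
    show kry (Y z E) e0 (l + 1 + 1) + _ = kry (Y z 0) e0 (l + 1 + 1) + _ + _
    rw [kry_succ (Y z E) e0 (l + 1), kry_succ (Y z 0) e0 (l + 1), hsame E (l + 1) le_rfl, hYdec E, Matrix.add_mulVec, Matrix.vecMulVec_mulVec,
      single_one_dotProduct, ← hγdef]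
    simp only [op_smul_eq_smul]
    abel
  let E₁ : Fin l → F := fun i => -δ 0 ⟨(i : ℕ) + 1, by omega⟩ / γ
  have hmid : ∀ i : Fin (l + 2), 0 < (i : ℕ) → (i : ℕ) ≤ l → δ E₁ i = 0 := by
    intro i h1 h2
    rw [hδ, Pi.add_apply, Pi.smul_apply, cmp_mulVec f _ (hwlast _), dif_pos h1,
      show (⟨(i : ℕ) - 1, by omega⟩ : Fin (l + 2)) = Fin.castAdd 2 ⟨(i : ℕ) - 1, by omega⟩ from Fin.ext rfl]
    simp only [wext, Fin.append_left, E₁, smul_eq_mul]
    rw [show (⟨(i : ℕ) - 1 + 1, by omega⟩ : Fin (l + 2)) = i from Fin.ext (by simp; omega)]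
    field_simp [show γ ≠ 0 from hγ z 0]
    ring
  set M := Y z E₁ with hM
  have hind := hessenberg_independent M (by omega) (hY z E₁).1 (hY z E₁).2
  have hdM : M.charpoly.natDegree = l + 2 := by rw [Matrix.charpoly_natDegree_eq_dim, Fintype.card_fin]
  set d := g - M.charpoly with hd
  have hdeg : d.degree < (l + 2 : ℕ) := by
    have h1 : g.degree = (l + 2 : ℕ) := by rw [degree_eq_natDegree hg.ne_zero, hgd]
    have h2 : M.charpoly.degree = (l + 2 : ℕ) := by rw [Matrix.charpoly_degree_eq_dim, Fintype.card_fin]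
    calc d.degree < g.degree := degree_sub_lt (h1.trans h2.symm) hg.ne_zero (by
          rw [hg.leadingCoeff, (Matrix.charpoly_monic M).leadingCoeff])
      _ = _ := h1
  have hdnat : d.natDegree < l + 2 := by
    by_cases h : d = 0
    · simp [h]
    · exact (natDegree_lt_iff_degree_lt h).2 hdeg
  have hlead : g.coeff (l + 2) = 1 := by
    have := hg.coeff_natDegree
    rwa [hgd] at this
  have hdel : (aeval M d) *ᵥ e0 = δ E₁ := by
    rw [hd, map_sub, Matrix.aeval_self_charpoly, sub_zero, aeval_mulVec M e0 g (l + 3) (by omega),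
      Finset.sum_range_succ, hlead, one_smul]
    exact add_comm _ _
  have hd1 : d.coeff (l + 1) = 0 := by
    have h1 := Matrix.trace_eq_neg_charpoly_coeff M
    rw [Fintype.card_fin, hM, htr] at h1
    rw [hd, coeff_sub, sub_eq_zero]
    simpa using neg_inj.1 h1
  have hd0 : d.coeff 0 = 0 := by
    have h1 := Matrix.det_eq_sign_charpoly_coeff M
    have h2 : M.det = (-1) ^ (l + 2) * g.coeff 0 := by
      show (cmp (l + 2) f * Xz z E₁).det = _
      rw [Matrix.det_mul, det_cmp f hf hfd, hg0, Matrix.det_reindex_self, Matrix.det_fromBlocks_zero₂₁,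
        Matrix.det_of_isUpperTriangular (M := T) (fun i j (hij : j < i) => by
          have : (j : ℕ) < i := hij
          simp [T, ne_of_gt hij, show ¬ (j : ℕ) = (i : ℕ) + 1 by omega]), Matrix.det_fin_two]
      simp [T, Q]
      ring
    rw [h2, Fintype.card_fin] at h1
    rw [hd, coeff_sub, sub_eq_zero]
    exact mul_left_cancel₀ (pow_ne_zero _ (by norm_num)) h1
  have hdlast : δ E₁ (Fin.last (l + 1)) = 0 := by
    rw [← hdel, aeval_mulVec M e0 d (l + 2) hdnat, Finset.sum_apply, Finset.sum_eq_zero]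
    intro j hj
    simp at hj
    rw [Pi.smul_apply, smul_eq_mul]
    by_cases h : j = l + 1
    · rw [h, hd1, zero_mul]
    · rw [hM, hk z E₁ j (by omega), mul_zero]
  have hgM : g = M.charpoly := by
    have h := eq_zero_of_aeval hind (f := d - C (δ E₁ ⟨0, by omega⟩)) ?_ ?_
    · have h2 := congrArg (fun p => coeff p 0) (sub_eq_zero.1 h)
      simp only [coeff_C_zero, hd0] at h2
      rw [← h2, map_zero, sub_zero, hd, sub_eq_zero] at h
      exact h
    · refine lt_of_le_of_lt (degree_sub_le _ _) (max_lt hdeg (lt_of_le_of_lt degree_C_le ?_))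
      exact_mod_cast Nat.succ_pos (l + 1)
    · rw [map_sub, Matrix.sub_mulVec, hdel, aeval_C, Algebra.algebraMap_eq_smul_one, Matrix.smul_mulVec,
        Matrix.one_mulVec, sub_eq_zero]
      ext i
      by_cases hi : (i : ℕ) = 0
      · rw [show i = ⟨0, by omega⟩ from Fin.ext hi]
        simp
      · have : i ≠ ⟨0, by omega⟩ := fun h => hi (congrArg Fin.val h)
        rw [Pi.smul_apply, Pi.single_eq_of_ne this, smul_zero]
        rcases Nat.lt_or_ge l (i : ℕ) with h | h
        · rw [show i = Fin.last (l + 1) from Fin.ext (by simp; omega), hdlast]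
        · exact hmid i (by omega) h
  refine ⟨Xz z E₁, ?_, ?_, ?_⟩
  · rw [Matrix.det_reindex_self, Matrix.det_fromBlocks_zero₂₁,
      Matrix.det_of_isUpperTriangular (M := T) (fun i j (hij : j < i) => by
        have : (j : ℕ) < i := hij
        simp [T, ne_of_gt hij, show ¬ (j : ℕ) = (i : ℕ) + 1 by omega]), Matrix.det_fin_two]
    simp [T, Q]
  · have hT : T.charpoly = ∏ i, (X - C (t i)) := by
      rw [Matrix.charpoly_of_isUpperTriangular _ (show T.IsUpperTriangular from fun i j (hij : j < i) => by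
        have : (j : ℕ) < i := hij
        simp [T, ne_of_gt hij, show ¬ (j : ℕ) = (i : ℕ) + 1 by omega])]
      simp [T]
    have hQ : Q.charpoly = q := by
      rw [Matrix.charpoly_fin_two, Matrix.trace_fin_two, Matrix.det_fin_two]
      conv_rhs => rw [hq.as_sum, hqd, Finset.sum_range_succ, Finset.sum_range_one]
      simp [Q]
      ring
    have hTs : Sim T (cmp l (∏ i, (X - C (t i)))) := by
      have hs := sim_reindex Fin.revPerm T
      have hh : Hess (Matrix.reindex Fin.revPerm Fin.revPerm T) := by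
        refine ⟨fun i j h => ?_, fun i j h => ?_⟩
        · simp only [Matrix.reindex_apply, Matrix.submatrix_apply, Fin.revPerm_symm, Fin.revPerm_apply, T,
            Matrix.of_apply]
          rw [if_neg (fun e => by have := congrArg Fin.val (Fin.rev_injective e); omega),
            if_neg (by rw [Fin.val_rev, Fin.val_rev]; omega)]
        · simp only [Matrix.reindex_apply, Matrix.submatrix_apply, Fin.revPerm_symm, Fin.revPerm_apply, T,
            Matrix.of_apply]
          rw [if_neg (fun e => by have := congrArg Fin.val (Fin.rev_injective e); omega),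
            if_pos (by rw [Fin.val_rev, Fin.val_rev]; omega)]
          exact one_ne_zero
      have := hs.trans hh.sim
      rwa [Matrix.charpoly_reindex, hT] at this
    have hQs : Sim Q (cmp 2 q) := by
      have hh : Hess Q := ⟨fun i j h => by omega, fun i j h => by
        rw [show i = 1 from Fin.ext (by simp; omega), show j = 0 from Fin.ext (by simp; omega)]; simp [Q]⟩
      have := hh.sim
      rwa [hQ] at this
    refine (sim_reindex finSumFinEquiv _).symm.trans ((sim_fromBlocks_coprime ?_).trans (hTs.blocks hQs))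
    rw [hT, hQ]
    exact isCoprime_prod_linear t q hroot
  · have := (hY z E₁).sim
    rwa [← hgM] at this

/-- The swapped form of the key lemma. -/
theorem exists_partner_blocks {l : ℕ} (hl : 0 < l) (f : F[X]) (hf : f.Monic) (hfd : f.natDegree = l + 2)
    (t t' : Fin l → F) (ht : ∀ i, t i ≠ 0) (q q' : F[X]) (hq : q.Monic) (hqd : q.natDegree = 2)
    (hq' : q'.Monic) (hqd' : q'.natDegree = 2) (hroot : ∀ i, q.eval (t i) ≠ 0) (hroot' : ∀ i, q'.eval (t' i) ≠ 0)
    (hdet : (-1) ^ l * (∏ i, t' i) * q'.coeff 0 = f.coeff 0 * (∏ i, t i) * q.coeff 0) :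
    ∃ X₀ : Matrix (Fin (l + 2)) (Fin (l + 2)) F, X₀.det = (∏ i, t i) * q.coeff 0 ∧
      Sim X₀ (fromBlocks (cmp l (∏ i, (X - C (t i)))) 0 0 (cmp 2 q)) ∧
      Sim (cmp (l + 2) f * X₀) (fromBlocks (cmp l (∏ i, (X - C (t' i)))) 0 0 (cmp 2 q')) := by
  have hm : (∏ i, (X - C (t' i))).Monic := monic_prod_of_monic _ _ fun i _ => monic_X_sub_C _
  have hmd : (∏ i, (X - C (t' i))).natDegree = l := by
    rw [natDegree_prod_of_monic _ _ fun i _ => monic_X_sub_C _]; simp
  have hdg : ((∏ i, (X - C (t' i))) * q').natDegree = l + 2 := by rw [hm.natDegree_mul hq', hmd, hqd']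
  obtain ⟨X₀, h1, h2, h3⟩ := exists_partner hl f hf hfd t ht q hq hqd hroot _ (hm.mul hq') hdg (by
    rw [← hdet, mul_coeff_zero, coeff_zero_eq_eval_zero, eval_prod]
    simp [Finset.prod_neg])
  refine ⟨X₀, h1, h2, h3.trans ?_⟩
  have h := sim_merge_cmp hm hq' (isCoprime_prod_linear t' q' hroot')
  rw [hdg, hmd, hqd'] at h
  exact h.symm

end Cfsg.Agent.Lie.SLComm
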