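import Mathlib
import Cfsg.Agent.Lib.Lie.SLComm.Companion
import Cfsg.Agent.Lib.Lie.SLComm.Cert

/-!
Over the fields with two and three elements: cyclic blocks of determinant one and degree at least
three, and pairs of cyclic blocks of determinant minus one, are commutators.
-/

set_option autoImplicit false
set_option linter.unusedSectionVars false

namespace Cfsg.Agent.Lie.SLComm

open Matrix Polynomial

universe u

variable {F : Type u} [Field F]

/-! ### General auxiliary facts -/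

theorem Sim.tri_left {α α' β : Type*} [Fintype α] [DecidableEq α] [Fintype α'] [DecidableEq α'] [Fintype β]
    [DecidableEq β] {A : Matrix α α F} {A' : Matrix α' α' F} (G : Matrix α β F) (D : Matrix β β F)
    (h : Sim A A') : ∃ G' : Matrix α' β F, Sim (fromBlocks A G 0 D) (fromBlocks A' G' 0 D) := by
  obtain ⟨P, Q, h1, h2, rfl⟩ := h
  exact ⟨Q * G, fromBlocks P 0 0 1, fromBlocks Q 0 0 1, by simp [fromBlocks_multiply, h1],
    by simp [fromBlocks_multiply, h2], by simp [fromBlocks_multiply, ← Matrix.mul_assoc, h1]⟩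

theorem sim_tri_assoc {α β γ : Type*} [Fintype α] [DecidableEq α] [Fintype β] [DecidableEq β] [Fintype γ]
    [DecidableEq γ] (A : Matrix α α F) (G : Matrix α β F) (D : Matrix β β F) (E : Matrix γ γ F) :
    Sim (fromBlocks (fromBlocks A G 0 D) 0 0 E)
      (fromBlocks A (Matrix.of fun i => Sum.elim (G i) 0) 0 (fromBlocks D 0 0 E)) := by
  refine (sim_reindex (Equiv.sumAssoc α β γ) _).trans ?_
  rw [show Matrix.reindex (Equiv.sumAssoc α β γ) (Equiv.sumAssoc α β γ) (fromBlocks (fromBlocks A G 0 D) 0 0 E) =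
      fromBlocks A (Matrix.of fun i => Sum.elim (G i) 0) 0 (fromBlocks D 0 0 E) by
    ext i j
    rcases i with i | i | i <;> rcases j with j | j | j <;> rfl]
  exact Sim.refl _

theorem sim_swap3 {α β γ : Type*} [Fintype α] [DecidableEq α] [Fintype β] [DecidableEq β] [Fintype γ]
    [DecidableEq γ] (A : Matrix α α F) (B : Matrix β β F) (C : Matrix γ γ F) :
    Sim (fromBlocks (fromBlocks A 0 0 B) 0 0 C) (fromBlocks (fromBlocks C 0 0 B) 0 0 A) :=
  (sim_blocks_comm _ _).trans ((Sim.refl C).blocks (sim_blocks_comm A B) |>.trans (sim_blocks_assoc C B A).symm)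

theorem isNilpotent_of_charpoly_dvd {ι : Type*} [Fintype ι] [DecidableEq ι] {M : Matrix ι ι F} {p : F[X]} {k : ℕ}
    (h : M.charpoly ∣ p ^ k) : IsNilpotent (aeval M p) := by
  obtain ⟨s, hs⟩ := h
  exact ⟨k, by rw [← map_pow, hs, map_mul, Matrix.aeval_self_charpoly, zero_mul]⟩

theorem Top.pow {ι : Type*} [Fintype ι] [DecidableEq ι] {p : F[X]} {A : Matrix ι ι F} (k : ℕ) :
    Top p A → Top (p ^ k) A := fun ⟨a, b, h1, h2, h3, h4⟩ => ⟨a, b, h1, h2, h3, by rw [map_pow]; exact h4.pow k⟩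

theorem Top.com {ι : Type*} [Fintype ι] [DecidableEq ι] {p : F[X]} {A : Matrix ι ι F} : Top p A → Com A :=
  fun ⟨a, b, h1, h2, h3, _⟩ => ⟨a, b, h1, h2, h3⟩

theorem coprime_sq {ε : F} {f : F[X]} (h : f.eval ε ≠ 0) : IsCoprime ((X - C ε) ^ 2) f :=
  ((prime_X_sub_C ε).coprime_iff_not_dvd.2 fun hd => h (dvd_iff_isRoot.1 hd)).pow_left

/-- Three values. -/
def Three (F : Type u) [Field F] : Prop := ∀ x : F, x = 0 ∨ x = 1 ∨ x = -1

theorem zmod_three_facts : (2 : ZMod 3) = -1 ∧ (-1 : ZMod 3) ≠ 1 := by decide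

theorem small_field [Fintype F] (h : Fintype.card F = 2 ∨ Fintype.card F = 3) :
    Three F ∧ ((CharP F 2 ∧ (-1 : F) = 1) ∨ (CharP F 3 ∧ (-1 : F) ≠ 1)) := by
  rcases h with h | h
  · haveI := Fact.mk Nat.prime_two
    haveI : CharP F 2 := charP_of_card_eq_prime h
    have hb := ZMod.castHom_bijective F h
    refine ⟨fun x => ?_, Or.inl ⟨inferInstance, CharTwo.neg_eq 1⟩⟩
    obtain ⟨y, rfl⟩ := hb.2 x
    fin_cases y
    · exact Or.inl (map_zero _)
    · exact Or.inr (Or.inl (map_one _))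
  · haveI := Fact.mk Nat.prime_three
    haveI : CharP F 3 := charP_of_card_eq_prime h
    have hb := ZMod.castHom_bijective F h
    refine ⟨fun x => ?_, Or.inr ⟨inferInstance, ?_⟩⟩
    · obtain ⟨y, rfl⟩ := hb.2 x
      fin_cases y
      · exact Or.inl (map_zero _)
      · exact Or.inr (Or.inl (map_one _))
      · refine Or.inr (Or.inr ?_)
        show ZMod.castHom dvd_rfl F 2 = -1
        rw [zmod_three_facts.1, map_neg, map_one]
    · intro e
      have h1 : ZMod.castHom dvd_rfl F (-1 : ZMod 3) = ZMod.castHom dvd_rfl F 1 := by rw [map_neg, map_one, e]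
      exact zmod_three_facts.2 (hb.1 h1)

/-! ### The quadratics -/

/-- `X ^ 2 + X - 1`. -/
noncomputable def qA (F : Type u) [Field F] : F[X] := X ^ 2 + (C 1 * X + C (-1))
/-- `X ^ 2 - X - 1`. -/
noncomputable def qB (F : Type u) [Field F] : F[X] := X ^ 2 + (C (-1) * X + C (-1))
/-- `X ^ 2 + 1`. -/
noncomputable def qC (F : Type u) [Field F] : F[X] := X ^ 2 + (C 0 * X + C 1)

theorem quad_monic (a b : F) : (X ^ 2 + (C a * X + C b)).Monic :=
  monic_X_pow_add (degree_linear_le.trans_lt (by norm_num))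

theorem quad_natDegree (a b : F) : (X ^ 2 + (C a * X + C b)).natDegree = 2 := by
  compute_degree!

theorem quad_coeff_zero (a b : F) : (X ^ 2 + (C a * X + C b)).coeff 0 = b := by simp

theorem cmp_quad (a b : F) : cmp 2 (X ^ 2 + (C a * X + C b)) = !![0, -b; 1, -a] := by
  ext i j
  fin_cases i <;> fin_cases j <;> simp [cmp, coeff_X_pow]

theorem cmp_qA : cmp 2 (qA F) = qaM F := by
  rw [qA, cmp_quad]; simp [qaM]
theorem cmp_qB : cmp 2 (qB F) = qbM F := by
  rw [qB, cmp_quad]; simp [qbM]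
theorem cmp_qC : cmp 2 (qC F) = qcM F := by
  rw [qC, cmp_quad]; simp [qcM]

theorem det_qaM : (qaM F).det = -1 := by simp [qaM, Matrix.det_fin_two]

theorem qA_root (h : Three F) (x : F) : (qA F).eval x ≠ 0 := by
  rcases h x with rfl | rfl | rfl <;> simp [qA]

theorem qC_root (h : Three F) [CharP F 3] (x : F) : (qC F).eval x ≠ 0 := by
  have h2 : (1 : F) + 1 ≠ 0 := fun e => by
    have : ((2 : ℕ) : F) = 0 := by push_cast; linear_combination e
    exact absurd ((CharP.cast_eq_zero_iff F 3 2).1 this) (by decide)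
  rcases h x with rfl | rfl | rfl <;> simp [qC, h2]

/-- The polynomial killing the second entry for a good cyclic block. -/
noncomputable def pA (F : Type u) [Field F] : F[X] := (X ^ 2 - 1) * qA F

theorem linear_dvd (h : Three F) {x : F} (hx : x ≠ 0) : X - C x ∣ (X ^ 2 - 1 : F[X]) := by
  rcases h x with rfl | rfl | rfl
  · exact absurd rfl hx
  · exact ⟨X + 1, by rw [map_one]; ring⟩
  · exact ⟨X - 1, by rw [map_neg, map_one]; ring⟩

theorem pA_dvd_three [CharP F 3] : pA F ∣ X ^ 8 - 1 ∧ (X ^ 2 - 1) * qC F ∣ X ^ 8 - 1 := by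
  have h3 : (3 : F[X]) = 0 := by
    rw [← map_ofNat (C : F →+* F[X]) 3, show (3 : F) = 0 from by exact_mod_cast CharP.cast_eq_zero F 3, map_zero]
  have e : (X ^ 8 - 1 : F[X]) = (X ^ 2 - 1) * qA F * (qC F * qB F) := by
    simp only [qA, qB, qC, map_one, map_neg, map_zero]
    linear_combination (X ^ 6 - X ^ 2) * h3
  exact ⟨⟨qC F * qB F, e⟩, ⟨qA F * qB F, by rw [e]; ring⟩⟩

/-! ### The swapping lemma -/

theorem com_swap {α β γ δ : Type*} [Fintype α] [DecidableEq α] [Fintype β] [DecidableEq β] [Fintype γ]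
    [DecidableEq γ] [Fintype δ] [DecidableEq δ] (h3 : Three F) {p : F[X]}
    {A X₁ : Matrix α α F} {B X₂ : Matrix β β F} {H₁ : Matrix γ γ F} {H₂ : Matrix δ δ F}
    {R₁ R₂ : Matrix (Fin 2) (Fin 2) F}
    (h1 : Sim X₁ (fromBlocks H₁ 0 0 R₁)) (h1' : Sim (A * X₁) (fromBlocks H₁ 0 0 R₂))
    (h2 : Sim X₂ (fromBlocks H₂ 0 0 R₂)) (h2' : Sim (B * X₂) (fromBlocks H₂ 0 0 R₁))
    (hd : X₁.det * X₂.det = 1) (hn : IsNilpotent (aeval X₁ p)) (hn' : IsNilpotent (aeval X₂ p))
    (hc : R₂.det = -1) : ComK p (fromBlocks A 0 0 B) := by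
  refine com_of_sim (X := fromBlocks X₁ 0 0 X₂) (by simp [hd]) ?_ ?_ ?_
  · rw [fromBlocks_multiply]
    simp only [Matrix.mul_zero, Matrix.zero_mul, add_zero, zero_add]
    exact (h1'.blocks h2').trans ((Sim.fromBlocks_swap H₁ R₂ H₂ R₁).trans (h1.blocks h2).symm)
  · obtain ⟨E, hE⟩ := aeval_fromBlocks X₁ 0 X₂ p
    rw [hE]
    exact isNilpotent_fromBlocks hn hn'
  · intro t ht
    rcases h3 t with rfl | rfl | rfl
    · exact absurd rfl ht
    · exact ⟨1, by rw [Matrix.one_mul, Matrix.mul_one], det_one⟩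
    · obtain ⟨P, Q, e1, e2, e⟩ := h1.blocks h2
      refine ⟨P * fromBlocks (1 : Matrix (γ ⊕ Fin 2) (γ ⊕ Fin 2) F) 0 0 (fromBlocks (1 : Matrix δ δ F) 0 0 R₂) * Q, ?_, ?_⟩
      · rw [e]
        set c := fromBlocks (1 : Matrix (γ ⊕ Fin 2) (γ ⊕ Fin 2) F) 0 0 (fromBlocks (1 : Matrix δ δ F) 0 0 R₂) with hcdef
        set K := fromBlocks (fromBlocks H₁ 0 0 R₁) 0 0 (fromBlocks H₂ 0 0 R₂) with hK
        have hcK : c * K = K * c := by simp [hcdef, hK, fromBlocks_multiply]
        calc P * c * Q * (P * K * Q) = P * (c * (Q * P) * K) * Q := by simp only [Matrix.mul_assoc]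
          _ = P * (K * (Q * P) * c) * Q := by rw [e2, Matrix.mul_one, Matrix.mul_one, hcK]
          _ = _ := by simp only [Matrix.mul_assoc]
      · rw [Matrix.det_conj_of_mul_eq_one e1 e2]
        simp [hc]

/-! ### Good cyclic blocks -/

/-- The heads: the first may be changed. -/
def heads (l : ℕ) (e : F) : Fin l → F := fun i => if (i : ℕ) = 0 then e else 1

theorem heads_prod {l : ℕ} (hl : 0 < l) (e : F) : ∏ i, heads l e i = e := by
  rw [Finset.prod_eq_single ⟨0, hl⟩]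
  · simp [heads]
  · intro i _ hi
    simp [Fin.ext_iff] at hi
    simp [heads, hi]
  · simp

theorem heads_ne {l : ℕ} {e : F} (he : e ≠ 0) (i : Fin l) : heads l e i ≠ 0 := by
  by_cases h : (i : ℕ) = 0 <;> simp [heads, h, he]

theorem heads_charpoly_dvd (h3 : Three F) {l : ℕ} {e : F} (he : e ≠ 0) (q : F[X]) :
    (∏ i, (X - C (heads l e i))) * q ∣ ((X ^ 2 - 1) * q) ^ (l + 1) := by
  rw [mul_pow, show q ^ (l + 1) = q ^ l * q from pow_succ q l, ← mul_assoc]
  refine mul_dvd_mul_right (Dvd.dvd.mul_right ?_ _) q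
  refine (Finset.prod_dvd_prod_of_dvd _ (fun _ => (X ^ 2 - 1 : F[X])) fun i _ => linear_dvd h3 (heads_ne he i)).trans ?_
  simp only [Finset.prod_const, Finset.card_univ, Fintype.card_fin]
  exact pow_dvd_pow _ (Nat.le_succ l)

theorem nil_blocks (h3 : Three F) {l : ℕ} {e : F} (he : e ≠ 0) {q : F[X]} (hq : q.Monic) (hqd : q.natDegree = 2)
    {α : Type*} [Fintype α] [DecidableEq α] {X₁ : Matrix α α F}
    (h : Sim X₁ (fromBlocks (cmp l (∏ i, (X - C (heads l e i)))) 0 0 (cmp 2 q))) :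
    IsNilpotent (aeval X₁ ((X ^ 2 - 1) * q)) := by
  refine isNilpotent_of_charpoly_dvd (k := l + 1) ?_
  rw [h.charpoly_eq, Matrix.charpoly_fromBlocks_zero₂₁,
    charpoly_cmp _ (monic_prod_of_monic _ _ fun i _ => monic_X_sub_C _)
      (by rw [natDegree_prod_of_monic _ _ fun i _ => monic_X_sub_C _]; simp), charpoly_cmp q hq hqd]
  exact heads_charpoly_dvd h3 he q

theorem coeff_zero_of_det {f : F[X]} (hf : f.Monic) {d : ℕ} (hd : f.natDegree = d) {e : F}
    (he : (cmp d f).det = e) : f.coeff 0 = (-1) ^ d * e := by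
  rw [← he, det_cmp f hf hd, ← mul_assoc, ← mul_pow]
  simp

theorem comK_good (h3 : Three F) {f : F[X]} (hf : f.Monic) (hd : 3 ≤ f.natDegree)
    (hdet : (cmp f.natDegree f).det = 1) : ComK (pA F) (cmp f.natDegree f) := by
  have hne : (-1 : F) ≠ 0 := neg_ne_zero.2 one_ne_zero
  obtain ⟨l, hl⟩ : ∃ l, f.natDegree = l + 2 := ⟨f.natDegree - 2, by omega⟩
  rw [hl] at hdet ⊢
  have h0 : 0 < l := by omega
  have hf0 := coeff_zero_of_det hf hl hdet
  obtain ⟨X₀, hXd, hX, hCX⟩ := exists_partner_blocks h0 f hf hl (heads l (-1)) (heads l (-1)) (heads_ne hne)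
    (qA F) (qA F) (quad_monic _ _) (quad_natDegree _ _) (quad_monic _ _) (quad_natDegree _ _)
    (fun _ => qA_root h3 _) (fun _ => qA_root h3 _) (by
      rw [heads_prod h0, hf0, qA, quad_coeff_zero]
      ring)
  rw [heads_prod h0, qA, quad_coeff_zero, neg_one_mul, neg_neg] at hXd
  refine com_of_sim hXd (hCX.trans hX.symm) ?_ ?_
  · exact nil_blocks h3 hne (quad_monic _ _) (quad_natDegree _ _) hX
  · intro t ht
    rcases h3 t with rfl | rfl | rfl
    · exact absurd rfl ht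
    · exact ⟨1, by rw [Matrix.one_mul, Matrix.mul_one], det_one⟩
    · obtain ⟨P, Q, e1, e2, e⟩ := hX
      refine ⟨P * fromBlocks (1 : Matrix (Fin l) (Fin l) F) 0 0 (cmp 2 (qA F)) * Q, ?_, ?_⟩
      · rw [e]
        set c := fromBlocks (1 : Matrix (Fin l) (Fin l) F) 0 0 (cmp 2 (qA F)) with hcdef
        set K := fromBlocks (cmp l (∏ i, (X - C (heads l (-1 : F) i)))) 0 0 (cmp 2 (qA F)) with hK
        have hcK : c * K = K * c := by simp [hcdef, hK, fromBlocks_multiply]
        calc P * c * Q * (P * K * Q) = P * (c * (Q * P) * K) * Q := by simp only [Matrix.mul_assoc]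
          _ = P * (K * (Q * P) * c) * Q := by rw [e2, Matrix.mul_one, Matrix.mul_one, hcK]
          _ = _ := by simp only [Matrix.mul_assoc]
      · rw [Matrix.det_conj_of_mul_eq_one e1 e2, cmp_qA]
        simp [det_qaM]

theorem com_good (h3 : Three F) {f : F[X]} (hf : f.Monic) (hd : 3 ≤ f.natDegree)
    (hdet : (cmp f.natDegree f).det = 1) : Com (cmp f.natDegree f) :=
  (comK_good h3 hf hd hdet).com

theorem com_merge (h3 : Three F) {f g : F[X]} (hf : f.Monic) (hg : g.Monic) (hco : IsCoprime f g)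
    (hd : 3 ≤ f.natDegree + g.natDegree)
    (hdet : (cmp f.natDegree f).det * (cmp g.natDegree g).det = 1) :
    Com (fromBlocks (cmp f.natDegree f) 0 0 (cmp g.natDegree g)) := by
  have hs := sim_merge_cmp hf hg hco
  refine Com.sim hs (com_good h3 (hf.mul hg) (by rw [hf.natDegree_mul hg]; exact hd) ?_)
  rw [← hs.det_eq, Matrix.det_fromBlocks_zero₂₁, hdet]

/-! ### Pairs of determinant minus one over the field with three elements -/

section Neg

variable [CharP F 3]

theorem comK_big_big (h3 : Three F) {f g : F[X]} (hf : f.Monic) (hfd : 3 ≤ f.natDegree)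
    (hfdet : (cmp f.natDegree f).det = -1) (hg : g.Monic) (hgd : 3 ≤ g.natDegree)
    (hgdet : (cmp g.natDegree g).det = -1) :
    ComK (X ^ 8 - 1) (fromBlocks (cmp f.natDegree f) 0 0 (cmp g.natDegree g)) := by
  have hne : (-1 : F) ≠ 0 := neg_ne_zero.2 one_ne_zero
  obtain ⟨l, hl⟩ : ∃ l, f.natDegree = l + 2 := ⟨f.natDegree - 2, by omega⟩
  obtain ⟨m, hm⟩ : ∃ m, g.natDegree = m + 2 := ⟨g.natDegree - 2, by omega⟩
  rw [hl] at hfdet
  rw [hm] at hgdet
  rw [hl, hm]
  have l0 : 0 < l := by omega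
  have m0 : 0 < m := by omega
  obtain ⟨X₁, d1, s1, s1'⟩ := exists_partner_blocks l0 f hf hl (heads l 1) (heads l 1) (heads_ne one_ne_zero)
    (qC F) (qA F) (quad_monic _ _) (quad_natDegree _ _) (quad_monic _ _) (quad_natDegree _ _)
    (fun _ => qC_root h3 _) (fun _ => qA_root h3 _) (by
      rw [heads_prod l0, coeff_zero_of_det hf hl hfdet, qA, qC, quad_coeff_zero, quad_coeff_zero]
      ring)
  obtain ⟨X₂, d2, s2, s2'⟩ := exists_partner_blocks m0 g hg hm (heads m (-1)) (heads m (-1)) (heads_ne hne)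
    (qA F) (qC F) (quad_monic _ _) (quad_natDegree _ _) (quad_monic _ _) (quad_natDegree _ _)
    (fun _ => qA_root h3 _) (fun _ => qC_root h3 _) (by
      rw [heads_prod m0, coeff_zero_of_det hg hm hgdet, qA, qC, quad_coeff_zero, quad_coeff_zero]
      ring)
  refine com_swap h3 s1 s1' s2 s2' ?_ ?_ ?_ (by rw [cmp_qA, det_qaM])
  · rw [d1, d2, heads_prod l0, heads_prod m0, qA, qC, quad_coeff_zero, quad_coeff_zero]
    ring
  · obtain ⟨k, hk⟩ := nil_blocks h3 one_ne_zero (quad_monic _ _) (quad_natDegree _ _) s1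
    obtain ⟨w, hw⟩ := (pA_dvd_three (F := F)).2
    rw [hw, map_mul]
    exact ((Commute.all ((X ^ 2 - 1) * qC F) w).map (aeval X₁)).isNilpotent_mul_right ⟨k, hk⟩
  · obtain ⟨k, hk⟩ := nil_blocks h3 hne (quad_monic _ _) (quad_natDegree _ _) s2
    obtain ⟨w, hw⟩ := (pA_dvd_three (F := F)).1
    rw [hw, map_mul]
    exact ((Commute.all ((X ^ 2 - 1) * qA F) w).map (aeval X₂)).isNilpotent_mul_right ⟨k, hk⟩

theorem com_big_two (h3 : Three F) {f : F[X]} (hf : f.Monic) (hfd : 3 ≤ f.natDegree)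
    (hfdet : (cmp f.natDegree f).det = -1) {B : Matrix (Fin 2) (Fin 2) F}
    (hB : ∃ Y : Matrix (Fin 2) (Fin 2) F, Y.det = -1 ∧ Sim Y (qaM F) ∧ Sim (B * Y) (qcM F)) :
    Com (fromBlocks (cmp f.natDegree f) 0 0 B) := by
  have hne : (-1 : F) ≠ 0 := neg_ne_zero.2 one_ne_zero
  obtain ⟨l, hl⟩ : ∃ l, f.natDegree = l + 2 := ⟨f.natDegree - 2, by omega⟩
  rw [hl] at hfdet
  rw [hl]
  have l0 : 0 < l := by omega
  obtain ⟨X₁, d1, s1, s1'⟩ := exists_partner_blocks l0 f hf hl (heads l (-1)) (heads l (-1)) (heads_ne hne)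
    (qC F) (qA F) (quad_monic _ _) (quad_natDegree _ _) (quad_monic _ _) (quad_natDegree _ _)
    (fun _ => qC_root h3 _) (fun _ => qA_root h3 _) (by
      rw [heads_prod l0, coeff_zero_of_det hf hl hfdet, qA, qC, quad_coeff_zero, quad_coeff_zero]
      ring)
  rw [cmp_qA] at s1'
  rw [cmp_qC] at s1
  obtain ⟨Y, hY, hY1, hY2⟩ := hB
  refine (com_swap (p := 0) h3 s1 s1' (hY1.trans (sim_empty_left (1 : Matrix (Fin 0) (Fin 0) F) _))
    (hY2.trans (sim_empty_left (1 : Matrix (Fin 0) (Fin 0) F) _)) ?_ ?_ ?_ det_qaM).com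
  · rw [d1, hY, heads_prod l0, qC, quad_coeff_zero]
    ring
  all_goals rw [map_zero]; exact IsNilpotent.zero

theorem com_big_three (h3 : Three F) {f : F[X]} (hf : f.Monic) (hfd : 3 ≤ f.natDegree)
    (hfdet : (cmp f.natDegree f).det = -1) :
    Com (fromBlocks (cmp f.natDegree f) 0 0 (fromBlocks (Jb 2 (-1 : F)) 0 0 (Jb 1 (-1 : F)))) := by
  obtain ⟨l, hl⟩ : ∃ l, f.natDegree = l + 2 := ⟨f.natDegree - 2, by omega⟩
  rw [hl] at hfdet
  rw [hl]
  have l0 : 0 < l := by omega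
  obtain ⟨X₁, d1, s1, s1'⟩ := exists_partner_blocks l0 f hf hl (heads l 1) (heads l 1) (heads_ne one_ne_zero)
    (qC F) (qA F) (quad_monic _ _) (quad_natDegree _ _) (quad_monic _ _) (quad_natDegree _ _)
    (fun _ => qC_root h3 _) (fun _ => qA_root h3 _) (by
      rw [heads_prod l0, coeff_zero_of_det hf hl hfdet, qA, qC, quad_coeff_zero, quad_coeff_zero]
      ring)
  rw [cmp_qA] at s1'
  rw [cmp_qC] at s1
  obtain ⟨Y, hY, hY1, hY2⟩ := partner_three (F := F)
  refine Com.sim ((Sim.refl _).blocks (sim_reindex finSumFinEquiv _))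
    (com_swap (p := 0) h3 s1 s1' hY1 hY2 ?_ ?_ ?_ det_qaM).com
  · rw [d1, hY, heads_prod l0, qC, quad_coeff_zero]
    ring
  all_goals rw [map_zero]; exact IsNilpotent.zero

theorem com_three_one (h3 : Three F) {f : F[X]} (hf : f.Monic) (hfd : f.natDegree = 1 + 2)
    (hfdet : (cmp (1 + 2) f).det = -1) : Com (fromBlocks (cmp (1 + 2) f) 0 0 (Jb 1 (-1 : F))) := by
  have hne : (-1 : F) ≠ 0 := neg_ne_zero.2 one_ne_zero
  obtain ⟨X₁, d1, s1, s1'⟩ := exists_partner_blocks (l := 1) one_pos f hf hfd (heads 1 (-1)) (heads 1 1)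
    (heads_ne hne) (qA F) (qA F) (quad_monic _ _) (quad_natDegree _ _) (quad_monic _ _) (quad_natDegree _ _)
    (fun _ => qA_root h3 _) (fun _ => qA_root h3 _) (by
      rw [heads_prod one_pos, heads_prod one_pos, coeff_zero_of_det hf hfd hfdet, qA, quad_coeff_zero]
      ring)
  have hh : ∀ e : F, Sim (cmp 1 (∏ i, (X - C (heads 1 e i)))) (Jb 1 e) := fun e =>
    sim_Jb (d := 1) (by simp [heads]) rfl
  have hmul : Jb 1 (-1 : F) * Jb 1 1 = Jb 1 (-1) := by
    ext i j; fin_cases i; fin_cases j; simp [Matrix.mul_apply, Jb]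
  have hs : Sim (fromBlocks X₁ 0 0 (Jb 1 (1 : F)))
      (fromBlocks (fromBlocks (Jb 1 (-1 : F)) 0 0 (qaM F)) 0 0 (Jb 1 1)) :=
    (s1.trans ((hh _).blocks (by rw [cmp_qA]; exact Sim.refl _))).blocks (Sim.refl _)
  refine (com_of_sim (p := 0) (X := fromBlocks X₁ 0 0 (Jb 1 (1 : F))) ?_ ?_ ?_ ?_).com
  · rw [Matrix.det_fromBlocks_zero₂₁, d1, det_Jb, heads_prod one_pos, qA, quad_coeff_zero]
    ring
  · rw [fromBlocks_multiply]
    simp only [Matrix.mul_zero, Matrix.zero_mul, add_zero, zero_add, hmul]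
    refine Sim.trans ?_ hs.symm
    exact ((s1'.trans ((hh _).blocks (by rw [cmp_qA]; exact Sim.refl _))).blocks (Sim.refl _)).trans (sim_swap3 _ _ _)
  · rw [map_zero]; exact IsNilpotent.zero
  · intro t ht
    rcases h3 t with rfl | rfl | rfl
    · exact absurd rfl ht
    · exact ⟨1, by rw [Matrix.one_mul, Matrix.mul_one], det_one⟩
    · obtain ⟨P, Q, e1, e2, e⟩ := hs
      refine ⟨P * fromBlocks (fromBlocks (1 : Matrix (Fin 1) (Fin 1) F) 0 0 (qaM F)) 0 0 (1 : Matrix (Fin 1) (Fin 1) F) * Q, ?_, ?_⟩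
      · rw [e]
        set c := fromBlocks (fromBlocks (1 : Matrix (Fin 1) (Fin 1) F) 0 0 (qaM F)) 0 0
          (1 : Matrix (Fin 1) (Fin 1) F) with hcdef
        set K := fromBlocks (fromBlocks (Jb 1 (-1 : F)) 0 0 (qaM F)) 0 0 (Jb 1 (1 : F)) with hK
        have hcK : c * K = K * c := by simp [hcdef, hK, fromBlocks_multiply]
        calc P * c * Q * (P * K * Q) = P * (c * (Q * P) * K) * Q := by simp only [Matrix.mul_assoc]
          _ = P * (K * (Q * P) * c) * Q := by rw [e2, Matrix.mul_one, Matrix.mul_one, hcK]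
          _ = _ := by simp only [Matrix.mul_assoc]
      · rw [Matrix.det_conj_of_mul_eq_one e1 e2]
        simp [det_qaM]

theorem sim_neg_two :
    Sim (fromBlocks (Jb 1 (-1 : F)) 0 0 (Jb 1 (-1 : F))) (-1 : Matrix (Fin 2) (Fin 2) F) := by
  refine (sim_reindex finSumFinEquiv _).trans ?_
  rw [show Matrix.reindex finSumFinEquiv finSumFinEquiv (fromBlocks (Jb 1 (-1 : F)) 0 0 (Jb 1 (-1 : F))) =
      (-1 : Matrix (Fin 2) (Fin 2) F) by
    ext i j
    fin_cases i <;> fin_cases j <;> simp [Jb, finSumFinEquiv, Fin.addCases]]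
  exact Sim.refl _

theorem com_lift_one (h3 : Three F) {f : F[X]} (hf : f.Monic) (hfd : 4 ≤ f.natDegree)
    (hfdet : (cmp f.natDegree f).det = -1) (hroot : f.eval (-1) = 0) :
    Com (fromBlocks (Jb 1 (-1 : F)) 0 0 (cmp f.natDegree f)) := by
  obtain ⟨w, hw⟩ : X - C (-1) ∣ f := dvd_iff_isRoot.2 hroot
  have hwm : w.Monic := (monic_X_sub_C (-1)).of_mul_monic_left (hw ▸ hf)
  have hdeg : f.natDegree = w.natDegree + 1 := by
    rw [hw, (monic_X_sub_C _).natDegree_mul hwm, natDegree_X_sub_C, add_comm]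
  obtain ⟨R, hR⟩ := sim_glue (hess_cmp (n := w.natDegree) w) (hess_Jb 1 (-1 : F))
  rw [charpoly_cmp w hwm rfl, charpoly_Jb, pow_one, mul_comm, ← hw, ← hdeg] at hR
  have hwdet : (cmp w.natDegree w).det = 1 := by
    have h := hR.det_eq
    rw [Matrix.det_fromBlocks_zero₁₂, hfdet, det_Jb, pow_one] at h
    linear_combination -h
  have hD := comK_good h3 hwm (by omega) hwdet
  have h1 : Sim (fromBlocks (Jb 1 (-1 : F)) 0 0 (cmp f.natDegree f))
      (fromBlocks (fromBlocks (Jb 1 (-1 : F)) 0 0 (Jb 1 (-1 : F))) (Matrix.of (Sum.elim (fun _ => 0) fun i => R i)) 0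
        (cmp w.natDegree w)) := by
    refine ((Sim.refl _).blocks (hR.symm.trans sim_comm_lower)).trans ?_
    refine (sim_reindex (Equiv.sumAssoc _ _ _).symm _).trans ?_
    rw [show Matrix.reindex (Equiv.sumAssoc _ _ _).symm (Equiv.sumAssoc _ _ _).symm
        (fromBlocks (Jb 1 (-1 : F)) 0 0 (fromBlocks (Jb 1 (-1 : F)) R 0 (cmp w.natDegree w))) =
        fromBlocks (fromBlocks (Jb 1 (-1 : F)) 0 0 (Jb 1 (-1 : F))) (Matrix.of (Sum.elim (fun _ => 0) fun i => R i)) 0
          (cmp w.natDegree w) by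
      ext i j
      rcases i with (i | i) | i <;> rcases j with (j | j) | j <;> rfl]
    exact Sim.refl _
  obtain ⟨G', hG'⟩ := sim_neg_two.tri_left (Matrix.of (Sum.elim (fun _ => 0) fun i => R i)) (cmp w.natDegree w)
  have ht := top_neg_two (F := F)
  rw [show ((X : F[X]) ^ 2 - 1) * (X ^ 2 + X - 1) = pA F by
    simp only [pA, qA, map_one, map_neg]
    ring] at ht
  exact Com.sim (h1.trans hG') (com_triangular ht hD)

/-- The blocks of determinant minus one that pair. -/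
def Neg (f : F[X]) : Prop :=
  f.Monic ∧ (cmp f.natDegree f).det = -1 ∧ (f = X - C (-1) ∨ f = qA F ∨ f = qB F ∨ 3 ≤ f.natDegree)

theorem com_one_pair (h3 : Three F) {g : F[X]} (hg : Neg g) :
    Com (fromBlocks (cmp (X - C (-1 : F)).natDegree (X - C (-1))) 0 0 (cmp g.natDegree g)) := by
  obtain ⟨hgm, hgd, hg'⟩ := hg
  have hJ : Sim (cmp (X - C (-1 : F)).natDegree (X - C (-1))) (Jb 1 (-1 : F)) := by
    rw [natDegree_X_sub_C]; exact sim_Jb (d := 1) (pow_one _).symm rfl
  by_cases hr : g.eval (-1) = 0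
  · rcases hg' with rfl | rfl | rfl | h
    · exact Com.sim ((hJ.blocks hJ).trans sim_neg_two) (top_neg_two (F := F)).com
    · exact absurd hr (qA_root h3 _)
    · simp [qB] at hr
    · by_cases h4 : 4 ≤ g.natDegree
      · exact Com.sim (hJ.blocks (Sim.refl _)) (com_lift_one h3 hgm h4 hgd hr)
      · have h3d : g.natDegree = 1 + 2 := by omega
        have hgd' : (cmp (1 + 2) g).det = -1 := by rw [← h3d]; exact hgd
        refine Com.sim ((hJ.blocks ?_).trans (sim_blocks_comm _ _)) (com_three_one h3 hgm h3d hgd')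
        rw [h3d]; exact Sim.refl _
  · refine com_merge h3 (monic_X_sub_C _) hgm
      ((prime_X_sub_C _).coprime_iff_not_dvd.2 fun h => hr (dvd_iff_isRoot.1 h)) ?_ ?_
    · rw [natDegree_X_sub_C]
      rcases hg' with rfl | rfl | rfl | h
      · simp at hr
      · rw [qA, quad_natDegree]
      · rw [qB, quad_natDegree]
      · omega
    · rw [hJ.det_eq, det_Jb, hgd]
      ring

theorem com_pair (h3 : Three F) {f g : F[X]} (hf : Neg f) (hg : Neg g) :
    Com (fromBlocks (cmp f.natDegree f) 0 0 (cmp g.natDegree g)) := by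
  obtain ⟨hfm, hfd, hf'⟩ := hf
  obtain ⟨hgm, hgd, hg'⟩ := hg
  by_cases hf1 : f = X - C (-1)
  · subst hf1; exact com_one_pair h3 ⟨hgm, hgd, hg'⟩
  by_cases hg1 : g = X - C (-1)
  · subst hg1; exact Com.sim (sim_blocks_comm _ _) (com_one_pair h3 ⟨hfm, hfd, hf'⟩)
  rw [or_iff_right hf1] at hf'
  rw [or_iff_right hg1] at hg'
  have hA : (qA F).natDegree = 2 := quad_natDegree _ _
  have hB : (qB F).natDegree = 2 := quad_natDegree _ _
  have h2F : (1 : F) + 1 ≠ 0 := fun e => qC_root h3 (1 : F) (by simp [qC, e])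
  have hAB : IsCoprime (qA F) (qB F) := by
    refine ⟨C (-1) * X + C 1, X + C 1, ?_⟩
    simp only [qA, qB, map_neg, map_one]
    have h3' : (3 : F[X]) = 0 := by
      rw [← map_ofNat (C : F →+* F[X]) 3, show (3 : F) = 0 from by exact_mod_cast CharP.cast_eq_zero F 3, map_zero]
    linear_combination -h3'
  rcases hf' with rfl | rfl | hf3 <;> rcases hg' with rfl | rfl | hg3
  · rw [hA, cmp_qA]; exact com_qA_qA
  · exact com_merge h3 hfm hgm hAB (by omega) (by rw [hfd, hgd]; ring)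
  · refine Com.sim (sim_blocks_comm _ _) ?_
    rw [hA, cmp_qA]; exact com_big_two h3 hgm hg3 hgd partner_two_qA
  · exact com_merge h3 hfm hgm hAB.symm (by omega) (by rw [hfd, hgd]; ring)
  · rw [hB, cmp_qB]; exact com_qB_qB
  · refine Com.sim (sim_blocks_comm _ _) ?_
    rw [hB, cmp_qB]; exact com_big_two h3 hgm hg3 hgd partner_two_qB
  · rw [hA, cmp_qA]; exact com_big_two h3 hfm hf3 hfd partner_two_qA
  · rw [hB, cmp_qB]; exact com_big_two h3 hfm hf3 hfd partner_two_qB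
  · exact (comK_big_big h3 hfm hf3 hfd hgm hg3 hgd).com

end Neg

end Cfsg.Agent.Lie.SLComm
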