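import Mathlib
import Cfsg.Agent.Lib.Small.ClassNumber.Decomp
import Cfsg.Agent.Lib.Lie.SLComm.Hess

/-!
Block sums of companion matrices along a list of polynomials, and the primary rational form of a matrix.
-/

set_option autoImplicit false
set_option linter.unusedSectionVars false

namespace Cfsg.Agent.Lie.SLComm

open Matrix Polynomial

universe u

variable {F : Type u} [Field F]

/-- The total degree. -/
noncomputable def dsum : List F[X] → ℕ
  | [] => 0
  | f :: l => f.natDegree + dsum l

/-- The block sum of companion matrices. -/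
noncomputable def bsum : (l : List F[X]) → Matrix (Fin (dsum l)) (Fin (dsum l)) F
  | [] => 1
  | f :: l => Matrix.reindex finSumFinEquiv finSumFinEquiv (fromBlocks (cmp f.natDegree f) 0 0 (bsum l))

theorem bsum_cons (f : F[X]) (l : List F[X]) :
    Sim (bsum (f :: l)) (fromBlocks (cmp f.natDegree f) 0 0 (bsum l)) :=
  (sim_reindex finSumFinEquiv _).symm

theorem sim_empty_right {κ : Type*} [Fintype κ] [DecidableEq κ] (A : Matrix κ κ F) (B : Matrix (Fin 0) (Fin 0) F) :
    Sim A (fromBlocks A 0 0 B) :=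
  (sim_empty_left B A).trans (sim_blocks_comm _ _)

theorem bsum_perm {l l' : List F[X]} (h : l.Perm l') : Sim (bsum l) (bsum l') := by
  induction h with
  | nil => exact Sim.refl _
  | cons f _ ih =>
    exact (bsum_cons f _).trans (((Sim.refl _).blocks ih).trans (bsum_cons f _).symm)
  | swap f g l =>
    refine ((bsum_cons g _).trans ((Sim.refl _).blocks (bsum_cons f l))).trans ?_
    refine (sim_blocks_assoc _ _ _).symm.trans (((sim_blocks_comm _ _).blocks (Sim.refl _)).trans ?_)
    exact (sim_blocks_assoc _ _ _).trans (((Sim.refl _).blocks (bsum_cons g l).symm).trans (bsum_cons f _).symm)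
  | trans _ _ ih ih' => exact ih.trans ih'

theorem bsum_append (l l' : List F[X]) : Sim (bsum (l ++ l')) (fromBlocks (bsum l) 0 0 (bsum l')) := by
  induction l with
  | nil => exact sim_empty_left (bsum ([] : List F[X])) (bsum l')
  | cons f l ih =>
    exact (bsum_cons f (l ++ l')).trans (((Sim.refl _).blocks ih).trans
      ((sim_blocks_assoc _ _ _).symm.trans ((bsum_cons f l).symm.blocks (Sim.refl _))))

theorem bsum_singleton (f : F[X]) : Sim (bsum [f]) (cmp f.natDegree f) :=
  (bsum_cons f []).trans (sim_empty_right _ (bsum [])).symm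

theorem bsum_two (f g : F[X]) :
    Sim (bsum [f, g]) (fromBlocks (cmp f.natDegree f) 0 0 (cmp g.natDegree g)) :=
  (bsum_cons f [g]).trans ((Sim.refl _).blocks (bsum_singleton g))

theorem bsum_three (f g h : F[X]) :
    Sim (bsum [f, g, h]) (fromBlocks (cmp f.natDegree f) 0 0
      (fromBlocks (cmp g.natDegree g) 0 0 (cmp h.natDegree h))) :=
  (bsum_cons f [g, h]).trans ((Sim.refl _).blocks (bsum_two g h))

/-- The product of the determinants of the blocks. -/
noncomputable def dprod (l : List F[X]) : F := (l.map fun f => (cmp f.natDegree f).det).prod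

theorem det_bsum (l : List F[X]) : (bsum l).det = dprod l := by
  induction l with
  | nil => exact Matrix.det_one
  | cons f l ih =>
    rw [(bsum_cons f l).det_eq, Matrix.det_fromBlocks_zero₂₁, ih]
    simp [dprod]

theorem sim_blockDiagonal' : ∀ (K : ℕ) (f : Fin K → F[X]),
    Sim (Matrix.blockDiagonal' fun i => cmp (f i).natDegree (f i)) (bsum (List.ofFn f)) := by
  intro K
  induction K with
  | zero =>
    intro f
    haveI : IsEmpty (Σ i : Fin 0, Fin (f i).natDegree) := ⟨fun x => x.1.elim0⟩
    rw [List.ofFn_zero]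
    exact ⟨0, 0, Matrix.ext fun i => isEmptyElim i, Matrix.ext fun i => Fin.elim0 i, Matrix.ext fun i => isEmptyElim i⟩
  | succ K ih =>
    intro f
    rw [List.ofFn_succ]
    refine Sim.trans ?_ (((Sim.refl _).blocks (ih fun i => f i.succ)).trans (bsum_cons _ _).symm)
    let e : (Σ i : Fin (K + 1), Fin (f i).natDegree) ≃ Fin (f 0).natDegree ⊕ Σ i : Fin K, Fin (f i.succ).natDegree :=
      { toFun := fun x => Fin.cases (motive := fun i => Fin (f i).natDegree →
          Fin (f 0).natDegree ⊕ Σ i : Fin K, Fin (f i.succ).natDegree) Sum.inl (fun i j => Sum.inr ⟨i, j⟩) x.1 x.2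
        invFun := Sum.elim (fun j => ⟨0, j⟩) fun y => ⟨y.1.succ, y.2⟩
        left_inv := by
          rintro ⟨i, j⟩
          revert j
          refine Fin.cases ?_ (fun i => ?_) i <;> intro j <;> simp
        right_inv := by rintro (j | ⟨i, j⟩) <;> simp }
    refine (sim_reindex e _).trans ?_
    rw [show Matrix.reindex e e (Matrix.blockDiagonal' fun i => cmp (f i).natDegree (f i)) =
        fromBlocks (cmp (f 0).natDegree (f 0)) 0 0 (Matrix.blockDiagonal' fun i : Fin K => cmp (f i.succ).natDegree (f i.succ)) by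
      ext x y
      rcases x with a | ⟨i, a⟩ <;> rcases y with b | ⟨j, b⟩
      · simp [e, Matrix.blockDiagonal'_apply]
      · simp [e, Matrix.blockDiagonal'_apply, Ne.symm (Fin.succ_ne_zero j)]
      · simp [e, Matrix.blockDiagonal'_apply, Fin.succ_ne_zero i]
      · by_cases h : i = j
        · subst h; simp [e, Matrix.blockDiagonal'_apply]
        · simp [e, Matrix.blockDiagonal'_apply, h, Fin.succ_inj]]
    exact Sim.refl _

theorem leftMulMatrix_root (f : F[X]) (hf : f.Monic) :
    Algebra.leftMulMatrix (AdjoinRoot.powerBasis' hf).basis (AdjoinRoot.root f) = cmp f.natDegree f := by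
  have h := PowerBasis.leftMulMatrix (AdjoinRoot.powerBasis' hf)
  rw [PowerBasis.minpolyGen_eq, AdjoinRoot.powerBasis'_gen, AdjoinRoot.minpoly_root hf.ne_zero, hf.leadingCoeff, inv_one,
    map_one, mul_one] at h
  rw [h]
  refine Matrix.ext fun (i j : Fin f.natDegree) => ?_
  show (if (j : ℕ) + 1 = f.natDegree then -f.coeff i else if (i : ℕ) = j + 1 then 1 else 0) = cmp f.natDegree f i j
  by_cases hj : (j : ℕ) + 1 < f.natDegree
  · rw [if_neg hj.ne]; simp [cmp, hj]
  · rw [if_pos (show (j : ℕ) + 1 = f.natDegree by omega)]; simp [cmp, hj]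

/-- The primary rational form. -/
theorem exists_list {m : ℕ} (g : Matrix (Fin m) (Fin m) F) :
    ∃ L : List F[X], (∀ f ∈ L, ∃ (p : F[X]) (k : ℕ), Irreducible p ∧ p.Monic ∧ k ≠ 0 ∧ f = p ^ k) ∧ Sim g (bsum L) := by
  classical
  obtain ⟨D⟩ := Small.ClassNumber.exists_decomp (Matrix.toLin' g)
  let σ : D.κ ≃ Fin (Fintype.card D.κ) := Fintype.equivFin D.κ
  let f : Fin (Fintype.card D.κ) → F[X] := fun b => D.p (σ.symm b) ^ D.e (σ.symm b)
  have hf : ∀ b, (f b).Monic := fun b => (D.monic _).pow _
  refine ⟨List.ofFn f, fun x hx => ?_, ?_⟩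
  · obtain ⟨b, rfl⟩ := List.mem_ofFn.1 hx
    exact ⟨_, _, D.irred _, D.monic _, D.pos _, rfl⟩
  refine Sim.trans ?_ (sim_blockDiagonal' _ f)
  let Ψ : (Fin m → F) ≃ₗ[F] (∀ b, AdjoinRoot (f b)) :=
    D.Ψ.trans (LinearEquiv.piCongrLeft' F (fun i => AdjoinRoot (D.p i ^ D.e i)) σ)
  have hΨ : ∀ v b, Ψ (Matrix.toLin' g v) b = AdjoinRoot.root (f b) * Ψ v b := fun v b => D.comm v (σ.symm b)
  let bas : ∀ b, Module.Basis (Fin (f b).natDegree) F (AdjoinRoot (f b)) := fun b => (AdjoinRoot.powerBasis' (hf b)).basis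
  let bs : Module.Basis (Σ b, Fin (f b).natDegree) F (Fin m → F) := (Pi.basis bas).map Ψ.symm
  let std : Module.Basis (Fin m) F (Fin m → F) := Pi.basisFun F (Fin m)
  have hM : LinearMap.toMatrix bs bs (Matrix.toLin' g) = Matrix.blockDiagonal' fun b => cmp (f b).natDegree (f b) := by
    refine Matrix.ext ?_
    rintro ⟨i, a⟩ ⟨j, b⟩
    rw [LinearMap.toMatrix_apply]
    simp only [bs, Module.Basis.map_apply, Module.Basis.map_repr, LinearEquiv.trans_apply, LinearEquiv.symm_symm,
      Pi.basis_repr, hΨ, LinearEquiv.apply_symm_apply, Pi.basis_apply, Matrix.blockDiagonal'_apply]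
    rcases eq_or_ne i j with rfl | h
    · rw [dif_pos rfl, Pi.single_eq_same, ← leftMulMatrix_root (f i) (hf i)]
      exact (Algebra.leftMulMatrix_eq_repr_mul (bas i) (AdjoinRoot.root (f i)) a b).symm
    · rw [dif_neg h, Pi.single_eq_of_ne h, mul_zero, map_zero, Finsupp.zero_apply]
  have hg : LinearMap.toMatrix std std (Matrix.toLin' g) = g := by
    rw [← Matrix.toLin_eq_toLin']
    exact LinearMap.toMatrix_toLin _ _ g
  refine ⟨std.toMatrix bs, bs.toMatrix std, Module.Basis.toMatrix_mul_toMatrix_flip _ _,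
    Module.Basis.toMatrix_mul_toMatrix_flip _ _, ?_⟩
  rw [← hM, basis_toMatrix_mul_linearMap_toMatrix_mul_basis_toMatrix, hg]

end Cfsg.Agent.Lie.SLComm
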