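import Mathlib
import Cfsg.Agent.Lib.Lie.SLComm.Pairs
import Cfsg.Agent.Lib.Lie.SLComm.ToList

/-!
Over the fields with two and three elements every determinant-one matrix of size at least three is
a commutator.
-/

set_option autoImplicit false
set_option linter.unusedSectionVars false

namespace Cfsg.Agent.Lie.SLComm

open Matrix Polynomial

universe u

variable {F : Type u} [Field F]

/-- The field has two or three elements, in the form used here. -/
def SmallField (F : Type u) [Field F] : Prop :=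
  Three F ∧ ((CharP F 2 ∧ (-1 : F) = 1) ∨ (CharP F 3 ∧ (-1 : F) ≠ 1))

theorem SmallField.three_of_ne (h : SmallField F) (hne : (-1 : F) ≠ 1) : CharP F 3 :=
  (h.2.resolve_left fun h2 => hne h2.2).1

/-! ### Lists of blocks -/

theorem com_cons_one {f : F[X]} {R : List F[X]} (h : Com (cmp f.natDegree f)) (hR : Com (bsum R)) :
    Com (bsum (f :: R)) :=
  Com.sim (bsum_cons f R) (h.blocks hR)

theorem com_cons_two {f g : F[X]} {R : List F[X]}
    (h : Com (fromBlocks (cmp f.natDegree f) 0 0 (cmp g.natDegree g))) (hR : Com (bsum R)) :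
    Com (bsum (f :: g :: R)) :=
  Com.sim ((bsum_append [f, g] R).trans ((bsum_two f g).blocks (Sim.refl _))) (h.blocks hR)

theorem com_cons_three {f g k : F[X]} {R : List F[X]}
    (h : Com (fromBlocks (cmp f.natDegree f) 0 0 (fromBlocks (cmp g.natDegree g) 0 0 (cmp k.natDegree k))))
    (hR : Com (bsum R)) : Com (bsum (f :: g :: k :: R)) :=
  Com.sim ((bsum_append [f, g, k] R).trans ((bsum_three f g k).blocks (Sim.refl _))) (h.blocks hR)

theorem com_perm {L L' : List F[X]} (h : L.Perm L') (hc : Com (bsum L')) : Com (bsum L) :=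
  Com.sim (bsum_perm h) hc

/-! ### Items -/

/-- A block that is a commutator, or one of determinant minus one that pairs. -/
def Item (f : F[X]) : Prop :=
  (f.Monic ∧ (cmp f.natDegree f).det = 1 ∧ Com (cmp f.natDegree f)) ∨ (Neg f ∧ (-1 : F) ≠ 1)

theorem com_items (hF : SmallField F) :
    ∀ (n : ℕ) (L : List F[X]), L.length ≤ n → (∀ f ∈ L, Item f) → dprod L = 1 → Com (bsum L) := by
  intro n
  induction n with
  | zero =>
    intro L hL _ _
    rw [List.eq_nil_of_length_eq_zero (Nat.le_zero.1 hL)]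
    exact com_one
  | succ n ih =>
    intro L hL hI hd
    match L with
    | [] => exact com_one
    | f :: R =>
      have hRI : ∀ g ∈ R, Item g := fun g hg => hI g (List.mem_cons_of_mem _ hg)
      have hlen : R.length ≤ n := by simpa using hL
      have hdR : (cmp f.natDegree f).det * dprod R = 1 := by simpa [dprod] using hd
      rcases hI f (List.mem_cons_self ..) with ⟨-, hf1, hfc⟩ | ⟨hf, hne⟩
      · exact com_cons_one hfc (ih R hlen hRI (by rwa [hf1, one_mul] at hdR))
      haveI := hF.three_of_ne hne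
      by_cases hex : ∃ g ∈ R, Neg g ∧ (-1 : F) ≠ 1
      · obtain ⟨g, hg, hgN, -⟩ := hex
        obtain ⟨l₁, l₂, rfl⟩ := List.append_of_mem hg
        refine com_perm (List.Perm.cons f List.perm_middle) (com_cons_two (com_pair hF.1 hf hgN)
          (ih (l₁ ++ l₂) ?_ (fun x hx => hRI x ?_) ?_))
        · simp at hlen ⊢; omega
        · simp only [List.mem_append, List.mem_cons] at hx ⊢; tauto
        · rw [hf.2.1] at hdR
          have hgd := hgN.2.1
          simp only [dprod, List.map_append, List.map_cons, List.prod_append, List.prod_cons, hgd] at hdR ⊢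
          linear_combination hdR
      · exfalso
        push Not at hex
        have h1 : dprod R = 1 := by
          refine List.prod_eq_one fun x hx => ?_
          obtain ⟨g, hg, rfl⟩ := List.mem_map.1 hx
          rcases hRI g hg with ⟨-, h, -⟩ | ⟨h, -⟩
          · exact h
          · exact absurd (hex g hg h) hne
        rw [h1, mul_one, hf.2.1] at hdR
        exact hne hdR

theorem item_big (hF : SmallField F) {f : F[X]} (hf : f.Monic) (hd : 3 ≤ f.natDegree)
    (h0 : (cmp f.natDegree f).det ≠ 0) : Item f := by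
  rcases hF.1 (cmp f.natDegree f).det with h | h | h
  · exact absurd h h0
  · exact Or.inl ⟨hf, h, com_good hF.1 hf hd h⟩
  · by_cases hne : (-1 : F) = 1
    · exact Or.inl ⟨hf, h.trans hne, com_good hF.1 hf hd (h.trans hne)⟩
    · exact Or.inr ⟨⟨hf, h, Or.inr (Or.inr (Or.inr hd))⟩, hne⟩

theorem sim_pw (ε : F) (k : ℕ) : Sim (cmp ((X - C ε) ^ k).natDegree ((X - C ε) ^ k)) (Jb k ε) := by
  have h : ((X - C ε) ^ k).natDegree = k := by rw [natDegree_pow, natDegree_X_sub_C, mul_one]
  rw [h]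
  exact sim_Jb rfl rfl

theorem det_pw (ε : F) (k : ℕ) : (cmp ((X - C ε) ^ k).natDegree ((X - C ε) ^ k)).det = ε ^ k := by
  rw [(sim_pw ε k).det_eq, det_Jb]

theorem natDegree_pw (ε : F) (k : ℕ) : ((X - C ε) ^ k).natDegree = k := by
  rw [natDegree_pow, natDegree_X_sub_C, mul_one]

/-- Primary. -/
def Prim (f : F[X]) : Prop := ∃ (p : F[X]) (k : ℕ), Irreducible p ∧ p.Monic ∧ k ≠ 0 ∧ f = p ^ k

theorem Prim.monic {f : F[X]} : Prim f → f.Monic := by
  rintro ⟨p, k, -, hp, -, rfl⟩
  exact hp.pow k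

theorem Prim.eq_pw {f : F[X]} {ε : F} : Prim f → f.eval ε = 0 → ∃ k, k ≠ 0 ∧ f = (X - C ε) ^ k := by
  rintro ⟨p, k, hi, hp, hk, rfl⟩ h
  rw [eval_pow, pow_eq_zero_iff hk] at h
  have : p = X - C ε := (eq_of_monic_of_associated (monic_X_sub_C ε) hp
    ((irreducible_X_sub_C ε).associated_of_dvd hi (dvd_iff_isRoot.2 h))).symm
  exact ⟨k, hk, by rw [this]⟩

theorem classify (hF : SmallField F) {f : F[X]} (hf : Prim f) (h0 : (cmp f.natDegree f).det ≠ 0) :
    Item f ∨ ∃ ε : F, (ε = 1 ∨ ε = -1) ∧ f = (X - C ε) ^ 2 := by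
  have hf' := hf
  obtain ⟨p, k, hi, hp, hk, rfl⟩ := hf
  have hm := hp.pow k
  have hdeg : (p ^ k).natDegree = k * p.natDegree := natDegree_pow p k
  have hp1 : 0 < p.natDegree := hi.natDegree_pos
  by_cases h3 : 3 ≤ (p ^ k).natDegree
  · exact Or.inl (item_big hF hm h3 h0)
  have hlin : p.natDegree = 1 → ∃ ε : F, (ε = 1 ∨ ε = -1) ∧ p = X - C ε := by
    intro h1
    refine ⟨-p.coeff 0, ?_, ?_⟩
    · have hne : -p.coeff 0 ≠ 0 := by
        intro e
        apply h0
        rw [det_cmp _ hm rfl, coeff_zero_eq_eval_zero, eval_pow, ← coeff_zero_eq_eval_zero, neg_eq_zero.1 e,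
          zero_pow hk, mul_zero]
      exact (hF.1 _).resolve_left hne
    · rw [map_neg, sub_neg_eq_add]
      exact hp.eq_X_add_C h1
  rcases Nat.lt_or_ge k 2 with hk2 | hk2
  · obtain rfl : k = 1 := by omega
    rw [pow_one] at *
    rcases Nat.lt_or_ge p.natDegree 2 with hp2 | hp2
    · obtain ⟨ε, hε, rfl⟩ := hlin (by omega)
      have hd := det_pw ε 1
      rw [pow_one, pow_one] at hd
      rcases hε with rfl | rfl
      · refine Or.inl (Or.inl ⟨monic_X_sub_C _, hd, Com.sim (g' := (1 : Matrix (Fin 1) (Fin 1) F)) ?_ com_one⟩)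
        have h := sim_pw (1 : F) 1
        rw [pow_one] at h
        rwa [show Jb 1 (1 : F) = (1 : Matrix (Fin 1) (Fin 1) F) by ext i j; fin_cases i; fin_cases j; simp [Jb]] at h
      · by_cases hne : (-1 : F) = 1
        · refine Or.inl (Or.inl ⟨monic_X_sub_C _, hd.trans hne, Com.sim (g' := (1 : Matrix (Fin 1) (Fin 1) F)) ?_ com_one⟩)
          have h := sim_pw (-1 : F) 1
          rw [pow_one] at h
          rwa [show Jb 1 (-1 : F) = (1 : Matrix (Fin 1) (Fin 1) F) by ext i j; fin_cases i; fin_cases j; simp [Jb, hne]] at h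
        · exact Or.inl (Or.inr ⟨⟨monic_X_sub_C _, hd, Or.inl rfl⟩, hne⟩)
    · have hd2 : p.natDegree = 2 := by omega
      have hroot : ∀ x, p.eval x ≠ 0 := by
        intro x hx
        have := eq_of_monic_of_associated (monic_X_sub_C x) hp
          ((irreducible_X_sub_C x).associated_of_dvd hi (dvd_iff_isRoot.2 hx))
        rw [← this, natDegree_X_sub_C] at hd2
        omega
      have hp2' : p = X ^ 2 + (C (p.coeff 1) * X + C (p.coeff 0)) := by
        conv_lhs => rw [hp.as_sum, hd2, Finset.sum_range_succ, Finset.sum_range_one]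
        simp
        ring
      set a := p.coeff 1
      set b := p.coeff 0
      have e0 := hroot 0
      have e1 := hroot 1
      have e2 := hroot (-1)
      simp only [hp2', eval_add, eval_pow, eval_X, eval_mul, eval_C] at e0 e1 e2
      left
      rcases hF.2 with ⟨hc2, hne⟩ | ⟨hc3, hne⟩
      · have ha : a = 1 := by
          rcases hF.1 a with h | h | h
          · rcases hF.1 b with h' | h' | h'
            · simp [h'] at e0
            · exact absurd (by rw [h, h']; linear_combination -hne) e1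
            · exact absurd (by rw [h, h']; ring) e1
          · exact h
          · exact h.trans hne
        have hb : b = -1 := by
          rcases hF.1 b with h' | h' | h'
          · simp [h'] at e0
          · exact h'.trans hne.symm
          · exact h'
        have hp' : p = qA F := by rw [hp2', ha, hb, qA]
        have hdet : (cmp p.natDegree p).det = 1 := by
          rw [hd2, hp', cmp_qA, det_qaM, hne]
        refine Or.inl ⟨hp, hdet, ?_⟩
        rw [hd2, hp', cmp_qA]
        exact com_qA_two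
      · rcases hF.1 b with h' | h' | h'
        · simp [h'] at e0
        · rcases hF.1 a with h | h | h
          · have hp' : p = qC F := by rw [hp2', h, h', qC]
            refine Or.inl ⟨hp, ?_, ?_⟩
            · rw [hd2, hp', cmp_qC]; simp [qcM, Matrix.det_fin_two]
            · rw [hd2, hp', cmp_qC]; exact com_qC
          · refine absurd ?_ e1
            rw [h, h']
            have : (3 : F) = 0 := by exact_mod_cast CharP.cast_eq_zero F 3
            linear_combination this
          · refine absurd ?_ e2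
            rw [h, h']
            have : (3 : F) = 0 := by exact_mod_cast CharP.cast_eq_zero F 3
            linear_combination this
        · rcases hF.1 a with h | h | h
          · exact absurd (by rw [h, h']; ring) e1
          · have hp' : p = qA F := by rw [hp2', h, h', qA]
            refine Or.inr ⟨⟨hp, ?_, Or.inr (Or.inl hp')⟩, hne⟩
            rw [hd2, hp', cmp_qA]; exact det_qaM
          · have hp' : p = qB F := by rw [hp2', h, h', qB]
            refine Or.inr ⟨⟨hp, ?_, Or.inr (Or.inr (Or.inl hp'))⟩, hne⟩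
            rw [hd2, hp', cmp_qB]; simp [qbM, Matrix.det_fin_two]
  · have hk' : k = 2 := by
      have : k ≤ k * p.natDegree := Nat.le_mul_of_pos_right k hp1
      omega
    subst hk'
    obtain ⟨ε, hε, rfl⟩ := hlin (by omega)
    exact Or.inr ⟨ε, hε, rfl⟩

/-! ### One bad block -/

theorem com_bad_bad (hF : SmallField F) {ε : F} (hε : ε = 1 ∨ ε = -1) :
    Com (fromBlocks (Jb 2 ε) 0 0 (Jb 2 ε)) ∧
      Com (fromBlocks (Jb 2 ε) 0 0 (fromBlocks (Jb 2 ε) 0 0 (Jb 2 ε))) := by
  rcases hF.2 with ⟨hc, hne⟩ | ⟨hc, hne⟩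
  · obtain rfl : ε = 1 := hε.elim id fun h => h.trans hne
    exact ⟨com_w4_two, com_w6_two⟩
  · rcases hε with rfl | rfl
    · exact ⟨com_w4_three, com_w6_three⟩
    · exact ⟨com_w4_neg, com_w6_neg⟩

theorem com_shear {a r l : ℕ} {ε : F} {p : F[X]} (hl : a ≤ l) (hr : 0 < r) (ht : Top p (Jb (a + r) ε))
    (hD : ComK p (Jb l ε)) : Com (fromBlocks (Jb a ε) 0 0 (Jb (r + l) ε)) := by
  obtain ⟨G, hG⟩ := jordan_shear ε hl hr
  exact Com.sim hG (com_triangular ht hD)

theorem comK_Jb (hF : SmallField F) {l : ℕ} (hl : 3 ≤ l) {ε : F} (he : ε ^ l = 1) : ComK (pA F) (Jb l ε) := by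
  have h := comK_good hF.1 ((monic_X_sub_C ε).pow l) (by rw [natDegree_pw]; exact hl) (by rw [det_pw, he])
  exact h.sim (sim_pw ε l).symm

theorem exists_top_one (hF : SmallField F) : ∃ p : F[X], pA F ∣ p ∧ Top p (Jb (2 + 1) (1 : F)) := by
  rcases hF.2 with ⟨hc, hne⟩ | ⟨hc, hne⟩
  · refine ⟨(X ^ 3 - 1) ^ 2, ?_, (top_three_two (F := F)).pow 2⟩
    have h2 : (2 : F[X]) = 0 := by
      rw [← map_ofNat (C : F →+* F[X]) 2, show (2 : F) = 0 from by linear_combination -hne, map_zero]
    refine ⟨qA F, ?_⟩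
    simp only [pA, qA, map_one, map_neg]
    linear_combination (-X ^ 5 + X ^ 4 + X ^ 3 - X ^ 2 - X + 1 : F[X]) * h2
  · exact ⟨X ^ 8 - 1, pA_dvd_three.1, top_three_three⟩

theorem com_pos_single (hF : SmallField F) {k : ℕ} (hk : k ≠ 0) (hk2 : k ≠ 2) :
    Com (fromBlocks (Jb 2 (1 : F)) 0 0 (Jb k 1)) := by
  by_cases h1 : k = 1
  · subst h1
    rcases hF.2 with ⟨hc, -⟩ | ⟨hc, -⟩
    · exact com_w3_two
    · exact com_w3_three
  by_cases h3 : k = 3
  · subst h3
    rcases hF.2 with ⟨hc, -⟩ | ⟨hc, -⟩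
    · exact com_w5_two
    · exact com_w5_three
  obtain ⟨l, rfl⟩ : ∃ l, k = 1 + l := ⟨k - 1, by omega⟩
  obtain ⟨p, hp, ht⟩ := exists_top_one hF
  exact com_shear (by omega) one_pos ht ((comK_Jb hF (by omega) (one_pow l)).mono hp)

theorem com_neg_even (hF : SmallField F) [CharP F 3] {k : ℕ} (he : Even k) (hk4 : 4 ≤ k) :
    Com (fromBlocks (Jb 2 (-1 : F)) 0 0 (Jb k (-1))) := by
  by_cases h4 : k = 4
  · subst h4; exact com_w6_neg_four
  obtain ⟨l, rfl⟩ : ∃ l, k = 2 + l := ⟨k - 2, by omega⟩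
  have hl : Even l := by rw [Nat.even_add] at he; exact he.1 even_two
  have hl4 : 3 ≤ l := by obtain ⟨i, rfl⟩ := hl; omega
  exact com_shear (by omega) two_pos top_four ((comK_Jb hF hl4 hl.neg_one_pow).mono pA_dvd_three.1)

theorem com_neg_odd_big (hF : SmallField F) [CharP F 3] {k l : ℕ} (hk : Odd k) (hk5 : 5 ≤ k) (hl : Odd l) (hl3 : 3 ≤ l) :
    Com (fromBlocks (fromBlocks (Jb 2 (-1 : F)) 0 0 (Jb k (-1))) 0 0 (Jb l (-1 : F))) := by
  obtain ⟨j, rfl⟩ : ∃ j, k = 2 + j := ⟨k - 2, by omega⟩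
  have hj : Odd j := by
    obtain ⟨i, hi⟩ := hk
    exact ⟨i - 1, by omega⟩
  obtain ⟨G, hG⟩ := jordan_shear (-1 : F) (show 2 ≤ j by omega) two_pos (a := 2) (r := 2)
  refine Com.sim ((hG.blocks (Sim.refl _)).trans (sim_tri_assoc _ _ _ _)) (com_triangular (top_four (F := F)) ?_)
  refine (comK_big_big hF.1 ((monic_X_sub_C (-1 : F)).pow j) ?_ ?_ ((monic_X_sub_C (-1 : F)).pow l) ?_ ?_).sim
    (((sim_pw _ j).blocks (sim_pw _ l)).symm)
  · rw [natDegree_pw]; omega
  · rw [det_pw, hj.neg_one_pow]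
  · rw [natDegree_pw]; omega
  · rw [det_pw, hl.neg_one_pow]

theorem com_neg_odd_pair (hF : SmallField F) [CharP F 3] {k l : ℕ} (hk : Odd k) (hl : Odd l) :
    Com (fromBlocks (Jb 2 (-1 : F)) 0 0 (fromBlocks (Jb k (-1 : F)) 0 0 (Jb l (-1)))) := by
  have hswap : Sim (fromBlocks (Jb 2 (-1 : F)) 0 0 (fromBlocks (Jb k (-1 : F)) 0 0 (Jb l (-1))))
      (fromBlocks (Jb 2 (-1 : F)) 0 0 (fromBlocks (Jb l (-1 : F)) 0 0 (Jb k (-1)))) :=
    (Sim.refl _).blocks (sim_blocks_comm _ _)
  have hone : ∀ j, Odd j → 3 ≤ j →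
      Com (fromBlocks (Jb 2 (-1 : F)) 0 0 (fromBlocks (Jb j (-1 : F)) 0 0 (Jb 1 (-1)))) := by
    intro j hj hj3
    have h := com_big_three hF.1 ((monic_X_sub_C (-1 : F)).pow j) (by rw [natDegree_pw]; exact hj3)
      (by rw [det_pw, hj.neg_one_pow])
    refine Com.sim ?_ h
    refine Sim.trans ?_ ((sim_pw (-1 : F) j).blocks (Sim.refl _)).symm
    exact (sim_blocks_assoc _ _ _).symm.trans (((sim_blocks_comm _ _).blocks (Sim.refl _)).trans (sim_blocks_assoc _ _ _))
  obtain ⟨i, hi⟩ := hk
  obtain ⟨i', hi'⟩ := hl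
  by_cases hk1 : k = 1
  · by_cases hl1 : l = 1
    · subst hk1; subst hl1; exact com_w4_neg_one_one
    · subst hk1
      exact Com.sim hswap (hone l ⟨i', hi'⟩ (by omega))
  by_cases hl1 : l = 1
  · subst hl1
    exact hone k ⟨i, hi⟩ (by omega)
  by_cases hk5 : 5 ≤ k
  · exact Com.sim (sim_blocks_assoc _ _ _).symm (com_neg_odd_big hF ⟨i, hi⟩ hk5 ⟨i', hi'⟩ (by omega))
  by_cases hl5 : 5 ≤ l
  · exact Com.sim (hswap.trans (sim_blocks_assoc _ _ _).symm) (com_neg_odd_big hF ⟨i', hi'⟩ hl5 ⟨i, hi⟩ (by omega))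
  obtain rfl : k = 3 := by omega
  obtain rfl : l = 3 := by omega
  exact com_w8_neg

theorem dprod_cons (f : F[X]) (R : List F[X]) : dprod (f :: R) = (cmp f.natDegree f).det * dprod R := by
  simp [dprod]

theorem dprod_perm {R R' : List F[X]} (h : R.Perm R') : dprod R = dprod R' :=
  (h.map _).prod_eq

theorem com_single (hF : SmallField F) {ε : F} (hε : ε = 1 ∨ ε = -1) (R : List F[X]) (hne : R ≠ [])
    (hP : ∀ f ∈ R, Prim f) (hI : ∀ f ∈ R, Item f) (hnb : ∀ f ∈ R, f ≠ (X - C ε) ^ 2) (hd : dprod R = 1) :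
    Com (bsum ((X - C ε) ^ 2 :: R)) := by
  classical
  have he2 : ε ^ 2 = 1 := by rcases hε with rfl | rfl <;> ring
  by_cases hex : ∃ f ∈ R, f.eval ε ≠ 0
  · obtain ⟨f, hf, hfe⟩ := hex
    obtain ⟨l₁, l₂, rfl⟩ := List.append_of_mem hf
    have hfm := (hP f hf).monic
    have hco := coprime_sq hfe
    have hs := sim_merge_cmp ((monic_X_sub_C ε).pow 2) hfm hco
    have hdet : (cmp ((X - C ε) ^ 2 * f).natDegree ((X - C ε) ^ 2 * f)).det = (cmp f.natDegree f).det := by
      rw [← hs.det_eq, Matrix.det_fromBlocks_zero₂₁, det_pw, he2, one_mul]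
    have hf0 : (cmp f.natDegree f).det ≠ 0 := by
      rcases hI f hf with ⟨-, h, -⟩ | ⟨h, -⟩
      · rw [h]; exact one_ne_zero
      · rw [h.2.1]; exact neg_ne_zero.2 one_ne_zero
    have hfdeg : 0 < f.natDegree := by
      obtain ⟨p, k, hi, -, hk, rfl⟩ := hP f hf
      rw [natDegree_pow]
      exact Nat.mul_pos (Nat.pos_of_ne_zero hk) hi.natDegree_pos
    have hdeg : ((X - C ε) ^ 2 * f).natDegree = 2 + f.natDegree := by
      rw [((monic_X_sub_C ε).pow 2).natDegree_mul hfm, natDegree_pw]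
    have hitem : Item ((X - C ε) ^ 2 * f) :=
      item_big hF (((monic_X_sub_C ε).pow 2).mul hfm) (by omega) (hdet.trans_ne hf0)
    refine com_perm (List.Perm.cons _ List.perm_middle) (Com.sim ?_ (com_items hF _ _ le_rfl
      (fun x hx => ?_ : ∀ x ∈ ((X - C ε) ^ 2 * f) :: (l₁ ++ l₂), Item x) ?_))
    · exact (bsum_append [(X - C ε) ^ 2, f] (l₁ ++ l₂)).trans
        ((((bsum_two _ _).trans hs).blocks (Sim.refl _)).trans (bsum_cons _ _).symm)
    · rcases List.mem_cons.1 hx with rfl | hx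
      · exact hitem
      · refine hI x ?_
        simp only [List.mem_append, List.mem_cons] at hx ⊢
        tauto
    · rw [dprod_cons, hdet, ← hd, dprod_perm (List.perm_middle : (l₁ ++ f :: l₂).Perm _), dprod_cons]
  push Not at hex
  rcases hε with rfl | rfl
  · match R, hne with
    | f :: R', _ =>
      obtain ⟨k, hk, rfl⟩ := (hP f (List.mem_cons_self ..)).eq_pw (hex f (List.mem_cons_self ..))
      have hk2 : k ≠ 2 := fun e => hnb _ (List.mem_cons_self ..) (by rw [e])
      refine com_cons_two (Com.sim ((sim_pw _ 2).blocks (sim_pw _ k)) (com_pos_single hF hk hk2))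
        (com_items hF _ R' le_rfl (fun x hx => hI x (List.mem_cons_of_mem _ hx)) ?_)
      rwa [dprod_cons, det_pw, one_pow, one_mul] at hd
  by_cases hne1 : (-1 : F) = 1
  · rw [hne1] at hex hnb ⊢
    match R, hne with
    | f :: R', _ =>
      obtain ⟨k, hk, rfl⟩ := (hP f (List.mem_cons_self ..)).eq_pw (hex f (List.mem_cons_self ..))
      have hk2 : k ≠ 2 := fun e => hnb _ (List.mem_cons_self ..) (by rw [e])
      refine com_cons_two (Com.sim ((sim_pw _ 2).blocks (sim_pw _ k)) (com_pos_single hF hk hk2))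
        (com_items hF _ R' le_rfl (fun x hx => hI x (List.mem_cons_of_mem _ hx)) ?_)
      rwa [dprod_cons, det_pw, one_pow, one_mul] at hd
  haveI := hF.three_of_ne hne1
  have hpw : ∀ f ∈ R, ∃ k, k ≠ 0 ∧ k ≠ 2 ∧ f = (X - C (-1 : F)) ^ k := fun f hf => by
    obtain ⟨k, hk, rfl⟩ := (hP f hf).eq_pw (hex f hf)
    exact ⟨k, hk, fun e => hnb _ hf (by rw [e]), rfl⟩
  by_cases heven : ∃ f ∈ R, (cmp f.natDegree f).det = 1
  · obtain ⟨f, hf, hf1⟩ := heven
    obtain ⟨k, hk0, hk2, rfl⟩ := hpw f hf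
    rw [det_pw] at hf1
    have he : Even k := by
      rcases Nat.even_or_odd k with h | h
      · exact h
      · rw [h.neg_one_pow] at hf1; exact absurd hf1 hne1
    obtain ⟨l₁, l₂, rfl⟩ := List.append_of_mem hf
    refine com_perm (List.Perm.cons _ List.perm_middle) (com_cons_two (Com.sim ((sim_pw _ 2).blocks (sim_pw _ k))
      (com_neg_even hF he ?_)) (com_items hF _ (l₁ ++ l₂) le_rfl (fun x hx => hI x ?_) ?_))
    · obtain ⟨i, rfl⟩ := he; omega
    · simp only [List.mem_append, List.mem_cons] at hx ⊢; tauto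
    · rwa [dprod_perm (List.perm_middle : (l₁ ++ _ :: l₂).Perm _), dprod_cons, det_pw, hf1, one_mul] at hd
  push Not at heven
  have hodd : ∀ f ∈ R, ∃ k, Odd k ∧ f = (X - C (-1 : F)) ^ k := fun f hf => by
    obtain ⟨k, -, -, rfl⟩ := hpw f hf
    refine ⟨k, ?_, rfl⟩
    rcases Nat.even_or_odd k with h | h
    · exact absurd (by rw [det_pw, h.neg_one_pow]) (heven _ hf)
    · exact h
  match R, hne with
  | [f], _ =>
    exfalso
    obtain ⟨k, hk, rfl⟩ := hodd f (List.mem_cons_self ..)
    rw [dprod_cons, det_pw, hk.neg_one_pow] at hd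
    exact hne1 (by simpa [dprod] using hd)
  | f :: g :: R', _ =>
    obtain ⟨k, hk, rfl⟩ := hodd f (List.mem_cons_self ..)
    obtain ⟨l, hl, rfl⟩ := hodd g (List.mem_cons_of_mem _ (List.mem_cons_self ..))
    refine com_cons_three (Com.sim ((sim_pw _ 2).blocks ((sim_pw _ k).blocks (sim_pw _ l)))
      (com_neg_odd_pair hF hk hl)) (com_items hF _ R' le_rfl
        (fun x hx => hI x (List.mem_cons_of_mem _ (List.mem_cons_of_mem _ hx))) ?_)
    rw [dprod_cons, dprod_cons, det_pw, det_pw, hk.neg_one_pow, hl.neg_one_pow] at hd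
    linear_combination hd

/-! ### The assembly -/

theorem com_replicate (hF : SmallField F) {ε : F} (hε : ε = 1 ∨ ε = -1) :
    ∀ a : ℕ, a ≠ 1 → Com (bsum (List.replicate a ((X - C ε) ^ 2)))
  | 0, _ => com_one
  | 1, h => absurd rfl h
  | 2, _ => com_cons_two (Com.sim ((sim_pw _ 2).blocks (sim_pw _ 2)) (com_bad_bad hF hε).1) com_one
  | 3, _ => com_cons_three (Com.sim ((sim_pw _ 2).blocks ((sim_pw _ 2).blocks (sim_pw _ 2))) (com_bad_bad hF hε).2)
      com_one
  | a + 4, _ => com_cons_two (Com.sim ((sim_pw _ 2).blocks (sim_pw _ 2)) (com_bad_bad hF hε).1)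
      (com_replicate hF hε (a + 2) (by omega))

theorem com_one_many (hF : SmallField F) {ε ε' : F} (hε : ε = 1 ∨ ε = -1) (hε' : ε' = 1 ∨ ε' = -1) (hne : ε ≠ ε')
    {b : ℕ} (hb : b ≠ 0) :
    Com (bsum ((X - C ε) ^ 2 :: List.replicate b ((X - C ε') ^ 2))) := by
  have hne1 : (-1 : F) ≠ 1 := fun e => hne <| by
    rcases hε with rfl | rfl <;> rcases hε' with rfl | rfl <;> simp [e]
  haveI := hF.three_of_ne hne1
  have hmerge : Com (fromBlocks (cmp ((X - C ε) ^ 2).natDegree ((X - C ε) ^ 2)) 0 0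
      (cmp ((X - C ε') ^ 2).natDegree ((X - C ε') ^ 2))) := by
    refine com_merge hF.1 ((monic_X_sub_C _).pow 2) ((monic_X_sub_C _).pow 2) (coprime_sq ?_) ?_ ?_
    · simp [sub_eq_zero, hne]
    · rw [natDegree_pw, natDegree_pw]; omega
    · rw [det_pw, det_pw]
      rcases hε with rfl | rfl <;> rcases hε' with rfl | rfl <;> ring
  by_cases hb2 : b = 2
  · subst hb2
    refine com_cons_three (Com.sim ((sim_pw _ 2).blocks ((sim_pw _ 2).blocks (sim_pw _ 2))) ?_) com_one
    rcases hε with rfl | rfl <;> rcases hε' with rfl | rfl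
    · exact absurd rfl hne
    · exact com_w6_mixed
    · exact com_w6_mixed_neg
    · exact absurd rfl hne
  obtain ⟨c, rfl⟩ : ∃ c, b = c + 1 := ⟨b - 1, by omega⟩
  exact com_cons_two hmerge (com_replicate hF hε' c (by omega))

theorem com_small [Fintype F] (hq : Fintype.card F = 2 ∨ Fintype.card F = 3) {m : ℕ} (hm : 3 ≤ m)
    (g : Matrix (Fin m) (Fin m) F) (hg : g.det = 1) : Com g := by
  classical
  have hF : SmallField F := small_field hq
  obtain ⟨L, hL, hs⟩ := exists_list g
  refine Com.sim hs ?_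
  have hd : dprod L = 1 := by rw [← det_bsum, ← hs.det_eq, hg]
  have hcard : dsum L = m := by
    obtain ⟨P, Q, h1, h2, -⟩ := hs
    let e : (Fin (dsum L) → F) ≃ₗ[F] (Fin m → F) := LinearEquiv.ofLinear P.mulVecLin Q.mulVecLin
      (by rw [← Matrix.mulVecLin_mul, h1, Matrix.mulVecLin_one]) (by rw [← Matrix.mulVecLin_mul, h2, Matrix.mulVecLin_one])
    simpa using e.finrank_eq
  have hd0 : ∀ f ∈ L, (cmp f.natDegree f).det ≠ 0 := by
    intro f hf h
    have : (0 : F) ∈ L.map fun f => (cmp f.natDegree f).det := List.mem_map.2 ⟨f, hf, h⟩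
    rw [dprod, List.prod_eq_zero this] at hd
    exact zero_ne_one hd
  set B₁ : F[X] := (X - C 1) ^ 2 with hB₁
  set B₂ : F[X] := (X - C (-1)) ^ 2 with hB₂
  let L₁ := L.filter fun f => decide (f = B₁)
  let L₀ := L.filter fun f => !decide (f = B₁)
  let L₂ := L₀.filter fun f => decide (f = B₂)
  let R := L₀.filter fun f => !decide (f = B₂)
  have hp : L.Perm (L₁ ++ (L₂ ++ R)) :=
    (List.filter_append_perm _ L).symm.trans ((List.filter_append_perm _ L₀).symm.append_left _)
  obtain ⟨a, ha⟩ : ∃ a, L₁ = List.replicate a B₁ :=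
    ⟨L₁.length, List.eq_replicate_iff.2 ⟨rfl, fun b hb => by simpa [L₁] using (List.mem_filter.1 hb).2⟩⟩
  obtain ⟨b, hb⟩ : ∃ b, L₂ = List.replicate b B₂ :=
    ⟨L₂.length, List.eq_replicate_iff.2 ⟨rfl, fun b hb => by simpa [L₂] using (List.mem_filter.1 hb).2⟩⟩
  have hRmem : ∀ f ∈ R, f ∈ L ∧ f ≠ B₁ ∧ f ≠ B₂ := fun f hf => by
    simp only [R, L₀, List.mem_filter, Bool.not_eq_true', decide_eq_false_iff_not] at hf
    exact ⟨hf.1.1, hf.1.2, hf.2⟩
  have hI : ∀ f ∈ R, Item f := fun f hf => by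
    obtain ⟨hfL, h1, h2⟩ := hRmem f hf
    rcases classify hF (hL f hfL) (hd0 f hfL) with h | ⟨ε, rfl | rfl, rfl⟩
    · exact h
    · exact absurd rfl h1
    · exact absurd rfl h2
  have hne21 : b ≠ 0 → (1 : F) ≠ -1 := fun hb0 e => by
    have h : B₂ ∈ L₂ := by rw [hb]; exact List.mem_replicate.2 ⟨hb0, rfl⟩
    simp only [L₂, L₀, List.mem_filter, Bool.not_eq_true', decide_eq_false_iff_not] at h
    exact h.1.2 (by rw [hB₁, hB₂, ← e])
  have hdR : dprod R = 1 := by
    rw [dprod_perm hp, ha, hb] at hd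
    simpa only [dprod, List.map_append, List.map_replicate, List.prod_append, List.prod_replicate, hB₁, hB₂, det_pw,
      one_pow, neg_one_sq, one_mul] using hd
  refine com_perm hp ?_
  rw [ha, hb]
  have hR : Com (bsum R) := com_items hF _ R le_rfl hI hdR
  have hPR : ∀ f ∈ R, Prim f := fun f hf => hL f (hRmem f hf).1
  have key : ∀ {X' Y' : List F[X]}, Com (bsum X') → Com (bsum Y') → Com (bsum (X' ++ Y')) :=
    fun hx hy => Com.sim (bsum_append _ _) (hx.blocks hy)
  by_cases ha1 : a = 1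
  · subst ha1
    by_cases hb0 : b = 0
    · subst hb0
      refine com_single hF (Or.inl rfl) R ?_ hPR hI (fun f hf => (hRmem f hf).2.1) hdR
      rintro e
      have := hp.map natDegree |>.sum_eq
      rw [ha, hb, e] at this
      have hsum : ∀ l : List F[X], dsum l = (l.map natDegree).sum := fun l => by
        induction l with
        | nil => rfl
        | cons f l ih => simp [dsum, ih]
      rw [← hsum, hcard] at this
      simp only [List.map_append, List.map_replicate, List.sum_append, List.sum_replicate, hB₁, natDegree_pw,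
        List.map_nil, List.sum_nil, smul_eq_mul] at this
      omega
    rw [← List.append_assoc]
    exact key (com_one_many hF (Or.inl rfl) (Or.inr rfl) (hne21 hb0) hb0) hR
  by_cases hb1 : b = 1
  · subst hb1
    by_cases ha0 : a = 0
    · subst ha0
      refine com_single hF (Or.inr rfl) R ?_ hPR hI (fun f hf => (hRmem f hf).2.2) hdR
      rintro e
      have := hp.map natDegree |>.sum_eq
      rw [ha, hb, e] at this
      have hsum : ∀ l : List F[X], dsum l = (l.map natDegree).sum := fun l => by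
        induction l with
        | nil => rfl
        | cons f l ih => simp [dsum, ih]
      rw [← hsum, hcard] at this
      simp only [List.map_append, List.map_replicate, List.sum_append, List.sum_replicate, hB₂, natDegree_pw,
        List.map_nil, List.sum_nil, smul_eq_mul] at this
      omega
    rw [← List.append_assoc]
    refine key (com_perm List.perm_append_comm ?_) hR
    exact com_one_many hF (Or.inr rfl) (Or.inl rfl) (hne21 one_ne_zero).symm ha0
  exact key (com_replicate hF (Or.inl rfl) a ha1) (key (com_replicate hF (Or.inr rfl) b hb1) hR)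

end Cfsg.Agent.Lie.SLComm
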